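import Mathlib.Algebra.BigOperators.Ring.Finset
import Mathlib.Algebra.BigOperators.Group.Finset.Piecewise
import Mathlib.Algebra.Order.BigOperators.Ring.Finset
import Mathlib.Data.Fintype.BigOperators
import Mathlib.Data.Rat.Defs
import Mathlib.Algebra.Field.Rat
import Mathlib.Algebra.Order.Ring.Rat
import Mathlib.Tactic.Ring
import Mathlib.Tactic.Linarith
import Mathlib.Tactic.LinearCombination
import Mathlib.Tactic.FieldSimp
import Mathlib.Tactic.Abel
import Mathlib.Tactic.IntervalCases
import Mathlib.Tactic.FinCases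
import Mathlib.Tactic.NormNum
import Mathlib.NumberTheory.Divisors

/-!
# Integral coordinates of the induced exceptional combinations

Five integral vectors with the inner products of the five class functions and weighted sum zero have
a forced shape; two triple sums follow.
-/

set_option autoImplicit false

namespace CfsgLib.Blocks.GLTwoThreeCentralizer

open Finset
open scoped Classical

variable {ι : Type*} [Fintype ι]

/-- The standard pairing of integral vectors. -/
def dotZ (u v : ι → ℤ) : ℤ := ∑ i, u i * v i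

theorem dotZ_sub_single (u v : ι → ℤ) (o : ι) (x y : ℤ) :
    dotZ (u - Pi.single o x) (v - Pi.single o y) =
      dotZ u v - y * u o - x * v o + x * y := by
  simp only [dotZ, Pi.sub_apply, sub_mul, mul_sub, sum_sub_distrib, Pi.single_apply, ite_mul,
    mul_ite, zero_mul, mul_zero, sum_ite_eq', mem_univ, if_true]
  ring

theorem dotZ_comm (u v : ι → ℤ) : dotZ u v = dotZ v u := Finset.sum_congr rfl fun _ _ => mul_comm _ _

/-- An integral vector of norm one is a signed unit vector. -/
theorem norm_one_shape {u : ι → ℤ} (h : dotZ u u = 1) :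
    ∃ j, (u j = 1 ∨ u j = -1) ∧ u = Pi.single j (u j) := by
  obtain ⟨j, hj⟩ : ∃ j, u j ≠ 0 := by
    by_contra hc
    push Not at hc
    simp [dotZ, hc] at h
  unfold dotZ at h
  rw [← Finset.add_sum_erase _ _ (mem_univ j)] at h
  have hrest : 0 ≤ ∑ i ∈ univ.erase j, u i * u i := sum_nonneg fun i _ => mul_self_nonneg _
  have hj1 : 1 ≤ u j * u j := mul_self_pos.2 hj
  have h0 : ∑ i ∈ univ.erase j, u i * u i = 0 := by omega
  have hsq : u j * u j = 1 := by omega
  refine ⟨j, mul_self_eq_one_iff.1 hsq, ?_⟩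
  funext i
  by_cases hij : i = j
  · subst hij; simp
  · rw [Pi.single_eq_of_ne hij]
    exact mul_self_eq_zero.1 ((sum_eq_zero_iff_of_nonneg fun k _ => mul_self_nonneg _).1 h0 i
      (mem_erase.2 ⟨hij, mem_univ _⟩))

/-- An integral vector of norm two has two non-zero entries, both signs. -/
theorem norm_two_shape {u : ι → ℤ} (h : dotZ u u = 2) :
    ∃ j k, j ≠ k ∧ (u j = 1 ∨ u j = -1) ∧ (u k = 1 ∨ u k = -1) ∧
      u = Pi.single j (u j) + Pi.single k (u k) := by
  obtain ⟨j, hj⟩ : ∃ j, u j ≠ 0 := by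
    by_contra hc
    push Not at hc
    simp [dotZ, hc] at h
  have hsmall : u j * u j ≤ 2 := by
    unfold dotZ at h
    rw [← Finset.add_sum_erase _ _ (mem_univ j)] at h
    have : 0 ≤ ∑ i ∈ univ.erase j, u i * u i := sum_nonneg fun i _ => mul_self_nonneg _
    omega
  have hj' : u j = 1 ∨ u j = -1 := by
    have h1 : u j ≤ 1 := by nlinarith
    have h2 : -1 ≤ u j := by nlinarith
    omega
  have hn : dotZ (u - Pi.single j (u j)) (u - Pi.single j (u j)) = 1 := by
    rw [dotZ_sub_single, h]
    rcases hj' with e | e <;> rw [e] <;> norm_num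
  obtain ⟨k, hk, hu⟩ := norm_one_shape hn
  have hkj : j ≠ k := by
    rintro rfl
    simp at hk
  have hval : (u - Pi.single j (u j) : ι → ℤ) k = u k := by simp [Ne.symm hkj]
  rw [hval] at hk hu
  exact ⟨j, k, hkj, hj', hk, by rw [← hu]; abel⟩

theorem sum_single_mul {R : Type*} [Ring R] (j : ι) (x : ℤ) (f : ι → R) :
    ∑ i, ((Pi.single j x : ι → ℤ) i : R) * f i = (x : R) * f j := by
  rw [Finset.sum_eq_single j]
  · simp
  · intro i _ hi; simp [hi]
  · simp

theorem dotZ_single (j : ι) (x : ℤ) (v : ι → ℤ) : dotZ (Pi.single j x) v = x * v j := by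
  simpa [dotZ] using sum_single_mul (R := ℤ) j x v

theorem dotZ_add (u u' v : ι → ℤ) : dotZ (u + u') v = dotZ u v + dotZ u' v := by
  simp [dotZ, add_mul, sum_add_distrib]

/-- Two norm-two vectors with inner product one share exactly one signed entry. -/
theorem share_one {u v : ι → ℤ} (hu : dotZ u u = 2) (hv : dotZ v v = 2) (huv : dotZ u v = 1) :
    ∃ i j k, i ≠ j ∧ i ≠ k ∧ j ≠ k ∧ (u i = 1 ∨ u i = -1) ∧ (u j = 1 ∨ u j = -1) ∧
      (v k = 1 ∨ v k = -1) ∧ v i = u i ∧ u = Pi.single i (u i) + Pi.single j (u j) ∧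
      v = Pi.single i (u i) + Pi.single k (v k) := by
  obtain ⟨a, b, hab, ha, hb, hu'⟩ := norm_two_shape hu
  obtain ⟨c, d, hcd, hc, hd, hv'⟩ := norm_two_shape hv
  have hval : u a * v a + u b * v b = 1 := by
    rw [hu', dotZ_add, dotZ_single, dotZ_single] at huv
    exact huv
  have hva : v a = 0 ∨ v a = 1 ∨ v a = -1 := by
    by_cases h1 : a = c
    · subst h1; omega
    · by_cases h2 : a = d
      · subst h2; omega
      · left; rw [hv']; simp [h1, h2]
  have hvb : v b = 0 ∨ v b = 1 ∨ v b = -1 := by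
    by_cases h1 : b = c
    · subst h1; omega
    · by_cases h2 : b = d
      · subst h2; omega
      · left; rw [hv']; simp [h1, h2]
  have key : ∀ i j, i ≠ j → (u i = 1 ∨ u i = -1) → (u j = 1 ∨ u j = -1) →
      u = Pi.single i (u i) + Pi.single j (u j) → v i = u i → v j = 0 →
      ∃ i j k, i ≠ j ∧ i ≠ k ∧ j ≠ k ∧ (u i = 1 ∨ u i = -1) ∧ (u j = 1 ∨ u j = -1) ∧
        (v k = 1 ∨ v k = -1) ∧ v i = u i ∧ u = Pi.single i (u i) + Pi.single j (u j) ∧
        v = Pi.single i (u i) + Pi.single k (v k) := by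
    intro i j hij hi hj hsh hvi hvj
    have hn : dotZ (v - Pi.single i (u i)) (v - Pi.single i (u i)) = 1 := by
      rw [dotZ_sub_single, hv, hvi]
      rcases hi with e | e <;> rw [e] <;> norm_num
    obtain ⟨k, hk, hw⟩ := norm_one_shape hn
    have hik : i ≠ k := by
      rintro rfl
      simp [hvi] at hk
    have hk' : (v - Pi.single i (u i) : ι → ℤ) k = v k := by simp [Ne.symm hik]
    rw [hk'] at hk hw
    refine ⟨i, j, k, hij, hik, ?_, hi, hj, hk, hvi, hsh, by rw [← hw]; abel⟩
    rintro rfl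
    omega
  have hsplit : (u a * v a = 1 ∧ v b = 0) ∨ (v a = 0 ∧ u b * v b = 1) := by
    rcases ha with e1 | e1 <;> rcases hb with e2 | e2 <;> rcases hva with e3 | e3 | e3 <;>
      rcases hvb with e4 | e4 | e4 <;> simp [e1, e2, e3, e4] at hval ⊢
  rcases hsplit with ⟨h1, h2⟩ | ⟨h1, h2⟩
  · exact key a b hab ha hb hu' (by rcases ha with e | e <;> rw [e] at h1 ⊢ <;> omega) h2
  · exact key b a (Ne.symm hab) hb ha (by rw [add_comm]; exact hu')
      (by rcases hb with e | e <;> rw [e] at h2 ⊢ <;> omega) h1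

/-- The data: five vectors with prescribed trivial coordinate, inner products and weighted sum. -/
structure Vecs (ι : Type*) [Fintype ι] (o : ι) (d : ι → ℤ) where
  a : ι → ℤ
  a' : ι → ℤ
  b : ι → ℤ
  b' : ι → ℤ
  w : ι → ℤ
  d0 : ∀ i, d i ≠ 0
  d_o : d o = 1
  ao : a o = 1
  a'o : a' o = 0
  bo : b o = 1
  b'o : b' o = 1
  wo : w o = 0
  aa : dotZ a a = 3
  aa' : dotZ a a' = 1
  ab : dotZ a b = 2
  ab' : dotZ a b' = 2
  aw : dotZ a w = 1
  a'a' : dotZ a' a' = 3
  a'b : dotZ a' b = 0
  a'b' : dotZ a' b' = 0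
  a'w : dotZ a' w = 1
  bb : dotZ b b = 3
  bb' : dotZ b b' = 2
  bw : dotZ b w = 2
  b'b' : dotZ b' b' = 3
  b'w : dotZ b' w = 1
  ww : dotZ w w = 4
  za : ∑ i, a i * d i = 0
  za' : ∑ i, a' i * d i = 0
  zb : ∑ i, b i * d i = 0
  zb' : ∑ i, b' i * d i = 0
  zw : ∑ i, w i * d i = 0

variable {o : ι} {d : ι → ℤ}

/-- The column at the involution. -/
def Vecs.col (V : Vecs ι o d) (i : ι) : ℤ :=
  V.a i + V.a' i + 2 * V.b i - 2 * V.b' i - 4 * V.w i

/-- The triple sum of a vector. -/
def Vecs.triple (V : Vecs ι o d) (v : ι → ℤ) : ℚ :=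
  ∑ i, (v i : ℚ) * ((V.col i : ℚ) ^ 2 / (d i : ℚ))

/-- The star: one signed entry common to `a`, `b`, `b'`. -/
theorem Vecs.star_shape (V : Vecs ι o d) :
    ∃ (i j k l : ι) (p q r r' : ℤ), o ≠ i ∧ o ≠ j ∧ o ≠ k ∧ o ≠ l ∧ i ≠ j ∧ i ≠ k ∧ i ≠ l ∧ j ≠ k ∧
      j ≠ l ∧ k ≠ l ∧ p * p = 1 ∧ q * q = 1 ∧ r * r = 1 ∧ r' * r' = 1 ∧
      V.a = Pi.single o 1 + Pi.single i p + Pi.single j q ∧
      V.b = Pi.single o 1 + Pi.single i p + Pi.single k r ∧
      V.b' = Pi.single o 1 + Pi.single i p + Pi.single l r' := by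
  have haa : dotZ (V.a - Pi.single o 1) (V.a - Pi.single o 1) = 2 := by
    rw [dotZ_sub_single, V.aa, V.ao]; ring
  have hbb : dotZ (V.b - Pi.single o 1) (V.b - Pi.single o 1) = 2 := by
    rw [dotZ_sub_single, V.bb, V.bo]; ring
  have hcc : dotZ (V.b' - Pi.single o 1) (V.b' - Pi.single o 1) = 2 := by
    rw [dotZ_sub_single, V.b'b', V.b'o]; ring
  have hab : dotZ (V.a - Pi.single o 1) (V.b - Pi.single o 1) = 1 := by
    rw [dotZ_sub_single, V.ab, V.ao, V.bo]; ring
  have hac : dotZ (V.a - Pi.single o 1) (V.b' - Pi.single o 1) = 1 := by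
    rw [dotZ_sub_single, V.ab', V.ao, V.b'o]; ring
  have hbc : dotZ (V.b - Pi.single o 1) (V.b' - Pi.single o 1) = 1 := by
    rw [dotZ_sub_single, V.bb', V.bo, V.b'o]; ring
  set A := V.a - Pi.single o 1 with hAdef
  set B := V.b - Pi.single o 1 with hBdef
  set C := V.b' - Pi.single o 1 with hCdef
  obtain ⟨i, j, k, hij, hik, hjk, hi, hj, hk, -, hA, hB⟩ := share_one haa hbb hab
  set p := A i with hp
  set q := A j with hq
  set r := B k with hr
  have hpp : p * p = 1 := by rcases hi with e | e <;> rw [e] <;> norm_num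
  have hqq : q * q = 1 := by rcases hj with e | e <;> rw [e] <;> norm_num
  have hrr : r * r = 1 := by rcases hk with e | e <;> rw [e] <;> norm_num
  have hoA : A o = 0 := by simp [hAdef, V.ao]
  have hoB : B o = 0 := by simp [hBdef, V.bo]
  have hoi : o ≠ i := by rintro rfl; omega
  have hoj : o ≠ j := by rintro rfl; omega
  have hok : o ≠ k := by rintro rfl; omega
  have eA : V.a = Pi.single o 1 + Pi.single i p + Pi.single j q := by
    rw [add_assoc, ← hA, hAdef]; abel
  have eB : V.b = Pi.single o 1 + Pi.single i p + Pi.single k r := by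
    rw [add_assoc, ← hB, hBdef]; abel
  have h1 : p * C i + q * C j = 1 := by
    rw [hA, dotZ_add, dotZ_single, dotZ_single] at hac; exact hac
  have h2 : p * C i + r * C k = 1 := by
    rw [hB, dotZ_add, dotZ_single, dotZ_single] at hbc; exact hbc
  -- the triangle is impossible
  have h3 : p * C i = 1 := by
    have hCo : C o = 0 := by simp [hCdef, V.b'o]
    have g1 : p * V.a' i + q * V.a' j = 1 := by
      have h := V.aa'
      rw [eA, dotZ_add, dotZ_add, dotZ_single, dotZ_single, dotZ_single, V.a'o] at h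
      linarith
    have g2 : p * V.a' i + r * V.a' k = 0 := by
      have h := (dotZ_comm _ _).trans V.a'b
      rw [eB, dotZ_add, dotZ_add, dotZ_single, dotZ_single, dotZ_single, V.a'o] at h
      linarith
    have hbound : C i * C i + C j * C j + C k * C k ≤ 2 := by
      rw [← hcc]
      refine le_trans (le_of_eq ?_) (Finset.sum_le_sum_of_subset_of_nonneg
        (subset_univ ({i, j, k} : Finset ι)) fun _ _ _ => mul_self_nonneg _)
      rw [sum_insert (by simp [hij, hik]), sum_insert (by simp [hjk]), sum_singleton]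
      ring
    set x := p * C i with hx
    have e2 : q * C j = 1 - x := by omega
    have e3 : r * C k = 1 - x := by omega
    have hn : x * x + 2 * ((1 - x) * (1 - x)) ≤ 2 := by
      have f1 : x * x = C i * C i := by rw [hx]; linear_combination C i * C i * hpp
      have f2 : (1 - x) * (1 - x) = C j * C j := by rw [← e2]; linear_combination C j * C j * hqq
      have f3 : (1 - x) * (1 - x) = C k * C k := by rw [← e3]; linear_combination C k * C k * hrr
      linarith
    have hx0 : 0 ≤ x := by nlinarith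
    have hx1 : x ≤ 1 := by nlinarith
    by_contra hne
    have hxe : x = 0 := by omega
    -- `C` is supported on `j` and `k`
    have hn2 : C j * C j + C k * C k = 2 := by
      have f2 : (1 - x) * (1 - x) = C j * C j := by rw [← e2]; linear_combination C j * C j * hqq
      have f3 : (1 - x) * (1 - x) = C k * C k := by rw [← e3]; linear_combination C k * C k * hrr
      rw [← f2, ← f3, hxe]; norm_num
    have hzero : ∀ m, m ≠ j → m ≠ k → C m = 0 := by
      intro m hmj hmk
      have hle : C j * C j + C k * C k + C m * C m ≤ 2 := by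
        rw [← hcc]
        refine le_trans (le_of_eq ?_) (Finset.sum_le_sum_of_subset_of_nonneg
          (subset_univ ({j, k, m} : Finset ι)) fun _ _ _ => mul_self_nonneg _)
        rw [sum_insert (by simp [hjk, Ne.symm hmj]), sum_insert (by simp [Ne.symm hmk]), sum_singleton]
        ring
      have : C m * C m = 0 := le_antisymm (by omega) (mul_self_nonneg _)
      exact mul_self_eq_zero.1 this
    have hCj : C j = q := by linear_combination q * e2 - C j * hqq - q * hxe
    have hCk : C k = r := by linear_combination r * e3 - C k * hrr - r * hxe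
    have eC : V.b' = Pi.single o 1 + Pi.single j q + Pi.single k r := by
      funext m
      have hm : V.b' m = C m + (Pi.single o (1 : ℤ) : ι → ℤ) m := by simp [hCdef]
      rw [hm]
      by_cases hmj : m = j
      · subst hmj; simp [hCj, hjk, Ne.symm hoj]
      · by_cases hmk : m = k
        · subst hmk; simp [hCk, Ne.symm hjk, Ne.symm hok]
        · simp [hzero m hmj hmk, hmj, hmk]
    have g3 : q * V.a' j + r * V.a' k = 0 := by
      have h := (dotZ_comm _ _).trans V.a'b'
      rw [eC, dotZ_add, dotZ_add, dotZ_single, dotZ_single, dotZ_single, V.a'o] at h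
      linarith
    omega
  have hCi : C i = p := by linear_combination p * h3 - C i * hpp
  have hn : dotZ (C - Pi.single i p) (C - Pi.single i p) = 1 := by
    rw [dotZ_sub_single, hcc, hCi, hpp]; ring
  obtain ⟨l, hl, hC⟩ := norm_one_shape hn
  set r' := (C - Pi.single i p : ι → ℤ) l with hr'
  have hr'0 : r' ≠ 0 := by rcases hl with e | e <;> omega
  have hCj : C j = 0 := by
    have : q * C j = 0 := by omega
    exact (mul_eq_zero.1 this).resolve_left (by rcases hj with e | e <;> omega)
  have hCk : C k = 0 := by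
    have : r * C k = 0 := by omega
    exact (mul_eq_zero.1 this).resolve_left (by rcases hk with e | e <;> omega)
  have hol : o ≠ l := by
    rintro rfl
    apply hr'0
    simp [hr', hCdef, V.b'o, hoi]
  have hil : i ≠ l := by
    rintro rfl
    apply hr'0
    simp [hr', hCi]
  have hjl : j ≠ l := by
    rintro rfl
    apply hr'0
    simp [hr', hCj, Ne.symm hij]
  have hkl : k ≠ l := by
    rintro rfl
    apply hr'0
    simp [hr', hCk, Ne.symm hik]
  refine ⟨i, j, k, l, p, q, r, r', hoi, hoj, hok, hol, hij, hik, hil, hjk, hjl, hkl, hpp, hqq, hrr,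
    by rcases hl with e | e <;> rw [e] <;> norm_num, eA, eB, ?_⟩
  rw [← hC, hCdef]; abel

theorem nine_div {p x : ℚ} (hp : p * p = 1) (y : ℚ) (hx : x ≠ 0) :
    p * ((y * p) ^ 2 / x) = y ^ 2 / (p * x) := by
  have hp0 : p ≠ 0 := by rintro rfl; norm_num at hp
  field_simp
  linear_combination y ^ 2 * (p * p + 1) * hp

set_option maxHeartbeats 1200000 in
/-- The two triple sums, with the constituents met by them. -/
theorem Vecs.triples_data (V : Vecs ι o d) :
    ∃ P U : ℤ, P ≠ 0 ∧ -1 - P ≠ 0 ∧ U ≠ 0 ∧ 1 - U ≠ 0 ∧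
      V.triple V.a = 1 + 4 / ((-1 - P : ℤ) : ℚ) + 9 / (P : ℚ) ∧
      V.triple V.w = 9 / (P : ℚ) + 4 / ((-1 - P : ℤ) : ℚ) + 9 / (U : ℚ) + 16 / ((1 - U : ℤ) : ℚ) ∧
      (∀ x, V.a x ≠ 0 ∨ V.w x ≠ 0 → V.col x ≠ 0) ∧
      (∃ j, V.a j * V.a j = 1 ∧ V.a j * d j = -1 - P ∧ V.col j = 2 * V.a j) ∧
      ∃ z, V.w z * V.w z = 1 ∧ V.w z * d z = 1 - U ∧ V.col z = -4 * V.w z := by
  obtain ⟨i, j, k, l, p, q, r, r', hoi, hoj, hok, hol, hij, hik, hil, hjk, hjl, hkl, hpp, hqq, hrr,
    hrr', eA, eB, eC⟩ := V.star_shape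
  have z1 : 1 + p * d i + q * d j = 0 := by
    have h := V.za
    simp only [eA, Pi.add_apply, add_mul, sum_add_distrib] at h
    rw [show ∀ (m : ι) (x : ℤ), ∑ n, (Pi.single m x : ι → ℤ) n * d n = x * d m from
      fun m x => dotZ_single m x d] at h
    simp only [show ∀ (m : ι) (x : ℤ), ∑ n, (Pi.single m x : ι → ℤ) n * d n = x * d m from
      fun m x => dotZ_single m x d] at h
    rw [V.d_o] at h
    linarith
  have z2 : 1 + p * d i + r * d k = 0 := by
    have h := V.zb
    simp only [eB, Pi.add_apply, add_mul, sum_add_distrib] at h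
    simp only [show ∀ (m : ι) (x : ℤ), ∑ n, (Pi.single m x : ι → ℤ) n * d n = x * d m from
      fun m x => dotZ_single m x d] at h
    rw [V.d_o] at h
    linarith
  have z3 : 1 + p * d i + r' * d l = 0 := by
    have h := V.zb'
    simp only [eC, Pi.add_apply, add_mul, sum_add_distrib] at h
    simp only [show ∀ (m : ι) (x : ℤ), ∑ n, (Pi.single m x : ι → ℤ) n * d n = x * d m from
      fun m x => dotZ_single m x d] at h
    rw [V.d_o] at h
    linarith
  have g1 : p * V.a' i + q * V.a' j = 1 := by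
    have h := V.aa'
    rw [eA, dotZ_add, dotZ_add, dotZ_single, dotZ_single, dotZ_single, V.a'o] at h
    linarith
  have g2 : p * V.a' i + r * V.a' k = 0 := by
    have h := (dotZ_comm _ _).trans V.a'b
    rw [eB, dotZ_add, dotZ_add, dotZ_single, dotZ_single, dotZ_single, V.a'o] at h
    linarith
  have g3 : p * V.a' i + r' * V.a' l = 0 := by
    have h := (dotZ_comm _ _).trans V.a'b'
    rw [eC, dotZ_add, dotZ_add, dotZ_single, dotZ_single, dotZ_single, V.a'o] at h
    linarith
  set x := p * V.a' i with hxdef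
  have four : ∀ v : ι → ℤ, v i * v i + v j * v j + v k * v k + v l * v l ≤ dotZ v v := by
    intro v
    refine le_trans (le_of_eq ?_) (Finset.sum_le_sum_of_subset_of_nonneg
      (subset_univ ({i, j, k, l} : Finset ι)) fun _ _ _ => mul_self_nonneg _)
    rw [sum_insert (by simp [hij, hik, hil]), sum_insert (by simp [hjk, hjl]),
      sum_insert (by simp [hkl]), sum_singleton]
    ring
  have hsq : ∀ (s y : ℤ), s * s = 1 → (s * y) * (s * y) = y * y := fun s y hs => by
    linear_combination y * y * hs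
  have hx0 : x = 0 := by
    have hb := four V.a'
    rw [V.a'a', ← hsq p (V.a' i) hpp, ← hsq q (V.a' j) hqq, ← hsq r (V.a' k) hrr,
      ← hsq r' (V.a' l) hrr', ← hxdef, show q * V.a' j = 1 - x by omega,
      show r * V.a' k = -x by omega, show r' * V.a' l = -x by omega] at hb
    have hlo : 0 ≤ x := by nlinarith
    have hhi : x ≤ 1 := by nlinarith
    by_contra hne
    have hx1 : x = 1 := by omega
    have hai : V.a' i = p := by linear_combination -(V.a' i) * hpp + p * hx1 - p * hxdef
    have haj : V.a' j = 0 := by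
      have h : q * V.a' j = 0 := by omega
      linear_combination q * h - V.a' j * hqq
    have hak : V.a' k = -r := by
      have h : r * V.a' k = -1 := by omega
      linear_combination r * h - V.a' k * hrr
    have hal : V.a' l = -r' := by
      have h : r' * V.a' l = -1 := by omega
      linear_combination r' * h - V.a' l * hrr'
    have hrest : ∀ m, m ≠ i → m ≠ k → m ≠ l → V.a' m = 0 := by
      intro m hmi hmk hml
      have hle : V.a' i * V.a' i + V.a' k * V.a' k + V.a' l * V.a' l + V.a' m * V.a' m ≤ 3 := by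
        rw [← V.a'a']
        refine le_trans (le_of_eq ?_) (Finset.sum_le_sum_of_subset_of_nonneg
          (subset_univ ({i, k, l, m} : Finset ι)) fun _ _ _ => mul_self_nonneg _)
        rw [sum_insert (by simp [hik, hil, Ne.symm hmi]), sum_insert (by simp [hkl, Ne.symm hmk]),
          sum_insert (by simp [Ne.symm hml]), sum_singleton]
        ring
      rw [hai, hak, hal, hpp, neg_mul_neg, hrr, neg_mul_neg, hrr'] at hle
      exact mul_self_eq_zero.1 (le_antisymm (by omega) (mul_self_nonneg _))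
    have hsum : ∑ m, V.a' m * d m = p * d i - r * d k - r' * d l := by
      rw [← Finset.sum_subset (subset_univ ({i, k, l} : Finset ι))]
      · rw [sum_insert (by simp [hik, hil]), sum_insert (by simp [hkl]), sum_singleton, hai, hak, hal]
        ring
      · intro m _ hm
        simp only [mem_insert, mem_singleton, not_or] at hm
        rw [hrest m hm.1 hm.2.1 hm.2.2, zero_mul]
    rw [V.za'] at hsum
    omega
  have hai : V.a' i = 0 := by linear_combination -(V.a' i) * hpp + p * hx0 - p * hxdef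
  have haj : V.a' j = q := by
    have h : q * V.a' j = 1 := by omega
    linear_combination q * h - V.a' j * hqq
  have hak : V.a' k = 0 := by
    have h : r * V.a' k = 0 := by omega
    linear_combination r * h - V.a' k * hrr
  have hal : V.a' l = 0 := by
    have h : r' * V.a' l = 0 := by omega
    linear_combination r' * h - V.a' l * hrr'
  have hn2 : dotZ (V.a' - Pi.single j q) (V.a' - Pi.single j q) = 2 := by
    rw [dotZ_sub_single, V.a'a', haj, hqq]; ring
  obtain ⟨m, n, hmn, hu, hv, eA'⟩ := norm_two_shape hn2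
  set u := (V.a' - Pi.single j q : ι → ℤ) m with hudef
  set v := (V.a' - Pi.single j q : ι → ℤ) n with hvdef
  have hfresh : ∀ z, (V.a' - Pi.single j q : ι → ℤ) z ≠ 0 →
      o ≠ z ∧ i ≠ z ∧ j ≠ z ∧ k ≠ z ∧ l ≠ z := by
    intro z hz
    refine ⟨?_, ?_, ?_, ?_, ?_⟩ <;> rintro rfl <;> apply hz
    · simp [V.a'o, hoj]
    · simp [hai, hij]
    · simp [haj]
    · simp [hak, Ne.symm hjk]
    · simp [hal, Ne.symm hjl]
  obtain ⟨hom, him, hjm, hkm, hlm⟩ := hfresh m (by rcases hu with e | e <;> omega)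
  obtain ⟨hon, hin, hjn, hkn, hln⟩ := hfresh n (by rcases hv with e | e <;> omega)
  have eA2 : V.a' = Pi.single j q + Pi.single m u + Pi.single n v := by
    rw [add_assoc, ← eA']; abel
  have huu : u * u = 1 := by rcases hu with e | e <;> rw [e] <;> norm_num
  have hvv : v * v = 1 := by rcases hv with e | e <;> rw [e] <;> norm_num
  set y := p * V.w i with hydef
  have w1 : y + q * V.w j = 1 := by
    have h := V.aw
    rw [eA, dotZ_add, dotZ_add, dotZ_single, dotZ_single, dotZ_single, V.wo] at h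
    linarith
  have w2 : y + r * V.w k = 2 := by
    have h := V.bw
    rw [eB, dotZ_add, dotZ_add, dotZ_single, dotZ_single, dotZ_single, V.wo] at h
    linarith
  have w3 : y + r' * V.w l = 1 := by
    have h := V.b'w
    rw [eC, dotZ_add, dotZ_add, dotZ_single, dotZ_single, dotZ_single, V.wo] at h
    linarith
  have w4 : q * V.w j + u * V.w m + v * V.w n = 1 := by
    have h := V.a'w
    rw [eA2, dotZ_add, dotZ_add, dotZ_single, dotZ_single, dotZ_single] at h
    exact h
  have hy1 : y = 1 := by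
    have hb := four V.w
    rw [V.ww, ← hsq p (V.w i) hpp, ← hsq q (V.w j) hqq, ← hsq r (V.w k) hrr,
      ← hsq r' (V.w l) hrr', ← hydef, show q * V.w j = 1 - y by omega,
      show r * V.w k = 2 - y by omega, show r' * V.w l = 1 - y by omega] at hb
    nlinarith [sq_nonneg (y - 1)]
  have hwi : V.w i = p := by linear_combination -(V.w i) * hpp + p * hy1 - p * hydef
  have hwj : V.w j = 0 := by
    have h : q * V.w j = 0 := by omega
    linear_combination q * h - V.w j * hqq
  have hwk : V.w k = r := by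
    have h : r * V.w k = 1 := by omega
    linear_combination r * h - V.w k * hrr
  have hwl : V.w l = 0 := by
    have h : r' * V.w l = 0 := by omega
    linear_combination r' * h - V.w l * hrr'
  have w5 : u * V.w m + v * V.w n = 1 := by rw [hwj, mul_zero, zero_add] at w4; exact w4
  have hmnb : V.w m * V.w m + V.w n * V.w n ≤ 2 := by
    have hle : V.w i * V.w i + V.w k * V.w k + (V.w m * V.w m + V.w n * V.w n) ≤ 4 := by
      rw [← V.ww]
      refine le_trans (le_of_eq ?_) (Finset.sum_le_sum_of_subset_of_nonneg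
        (subset_univ ({i, k, m, n} : Finset ι)) fun _ _ _ => mul_self_nonneg _)
      rw [sum_insert (by simp [hik, him, hin]), sum_insert (by simp [hkm, hkn]),
        sum_insert (by simp [hmn]), sum_singleton]
      ring
    rw [hwi, hwk, hpp, hrr] at hle
    omega
  -- arrange that `w` vanishes at the second new entry
  obtain ⟨m, n, u, v, hom, him, hjm, hkm, hlm, hon, hin, hjn, hkn, hln, hmn, huu, eA2, hwm, hwn⟩ :
      ∃ m n u v, o ≠ m ∧ i ≠ m ∧ j ≠ m ∧ k ≠ m ∧ l ≠ m ∧ o ≠ n ∧ i ≠ n ∧ j ≠ n ∧ k ≠ n ∧ l ≠ n ∧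
        m ≠ n ∧ u * u = 1 ∧ V.a' = Pi.single j q + Pi.single m u + Pi.single n v ∧
        V.w m = u ∧ V.w n = 0 := by
    set X := u * V.w m with hX
    have hX' : v * V.w n = 1 - X := by omega
    have hXb : X * X + (1 - X) * (1 - X) ≤ 2 := by
      rw [← hX', hX, hsq u _ huu, hsq v _ hvv]; exact hmnb
    have h0 : 0 ≤ X := by nlinarith
    have h1 : X ≤ 1 := by nlinarith
    rcases (show X = 0 ∨ X = 1 by omega) with e | e
    · refine ⟨n, m, v, u, hon, hin, hjn, hkn, hln, hom, him, hjm, hkm, hlm, Ne.symm hmn, hvv,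
        by rw [eA2]; abel, ?_, ?_⟩
      · have h : v * V.w n = 1 := by omega
        linear_combination v * h - V.w n * hvv
      · have h : u * V.w m = 0 := by omega
        linear_combination u * h - V.w m * huu
    · refine ⟨m, n, u, v, hom, him, hjm, hkm, hlm, hon, hin, hjn, hkn, hln, hmn, huu, eA2, ?_, ?_⟩
      · have h : u * V.w m = 1 := by omega
        linear_combination u * h - V.w m * huu
      · have h : v * V.w n = 0 := by omega
        linear_combination v * h - V.w n * hvv
  have hn1 : dotZ (V.w - Pi.single i p - Pi.single k r - Pi.single m u)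
      (V.w - Pi.single i p - Pi.single k r - Pi.single m u) = 1 := by
    rw [dotZ_sub_single, dotZ_sub_single, dotZ_sub_single, V.ww]
    simp [hwi, hwk, hwm, Ne.symm hik, Ne.symm him, Ne.symm hkm, hpp, hrr, huu]
  obtain ⟨z, hz, eW⟩ := norm_one_shape hn1
  set s := (V.w - Pi.single i p - Pi.single k r - Pi.single m u : ι → ℤ) z with hsdef
  have hs0 : s ≠ 0 := by rcases hz with e | e <;> omega
  have hoz : o ≠ z := by
    rintro rfl; apply hs0; simp [hsdef, V.wo, hoi, hok, hom]
  have hiz : i ≠ z := by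
    rintro rfl; apply hs0; simp [hsdef, hwi, hik, him]
  have hjz : j ≠ z := by
    rintro rfl; apply hs0; simp [hsdef, hwj, Ne.symm hij, hjk, hjm]
  have hkz : k ≠ z := by
    rintro rfl; apply hs0; simp [hsdef, hwk, Ne.symm hik, hkm]
  have hlz : l ≠ z := by
    rintro rfl; apply hs0; simp [hsdef, hwl, Ne.symm hil, Ne.symm hkl, hlm]
  have hmz : m ≠ z := by
    rintro rfl; apply hs0; simp [hsdef, hwm, Ne.symm him, Ne.symm hkm]
  have hnz : n ≠ z := by
    rintro rfl; apply hs0; simp [hsdef, hwn, Ne.symm hin, Ne.symm hkn, Ne.symm hmn]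
  have eW2 : V.w = Pi.single i p + Pi.single k r + Pi.single m u + Pi.single z s := by
    rw [← eW]; abel
  have zw : p * d i + r * d k + u * d m + s * d z = 0 := by
    have h := V.zw
    simp only [eW2, Pi.add_apply, add_mul, sum_add_distrib] at h
    simp only [show ∀ (m : ι) (x : ℤ), ∑ n, (Pi.single m x : ι → ℤ) n * d n = x * d m from
      fun m x => dotZ_single m x d] at h
    exact h
  have co : V.col o = 1 := by
    simp [Vecs.col, V.ao, V.a'o, V.bo, V.b'o, V.wo]
  have ci : V.col i = -3 * p := by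
    simp [Vecs.col, eA, eA2, eB, eC, eW2, Ne.symm hoi, hij, hik, hil, him, hin, hiz]; ring
  have cj : V.col j = 2 * q := by
    simp [Vecs.col, eA, eA2, eB, eC, eW2, Ne.symm hoj, Ne.symm hij, hjk, hjl, hjm, hjn, hjz]; ring
  have ck : V.col k = -2 * r := by
    simp [Vecs.col, eA, eA2, eB, eC, eW2, Ne.symm hok, Ne.symm hik, Ne.symm hjk, hkl, hkm, hkn, hkz]
    ring
  have cm : V.col m = -3 * u := by
    simp [Vecs.col, eA, eA2, eB, eC, eW2, Ne.symm hom, Ne.symm him, Ne.symm hjm, Ne.symm hkm,
      Ne.symm hlm, hmn, hmz]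
    ring
  have cz : V.col z = -4 * s := by
    simp [Vecs.col, eA, eA2, eB, eC, eW2, Ne.symm hoz, Ne.symm hiz, Ne.symm hjz, Ne.symm hkz,
      Ne.symm hlz, Ne.symm hmz, Ne.symm hnz]
  have hd : ∀ z, (d z : ℚ) ≠ 0 := fun z => Int.cast_ne_zero.2 (V.d0 z)
  have hne : ∀ (s : ℤ) (z : ι), s * s = 1 → s * d z ≠ 0 := fun s z hs =>
    mul_ne_zero (by rintro rfl; norm_num at hs) (V.d0 z)
  have hss : s * s = 1 := by rcases hz with e | e <;> rw [e] <;> norm_num
  have eS : q * d j = -1 - p * d i := by omega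
  have eK : r * d k = -1 - p * d i := by omega
  have eZ : s * d z = 1 - u * d m := by omega
  have haj' : V.a j = q := by simp [eA, Ne.symm hoj, Ne.symm hij]
  have hwz : V.w z = s := by simp [eW2, Ne.symm hiz, Ne.symm hkz, Ne.symm hmz]
  have hsupp : ∀ x, V.a x ≠ 0 ∨ V.w x ≠ 0 → V.col x ≠ 0 := by
    have hp0 : p ≠ 0 := by rintro rfl; norm_num at hpp
    have hq0 : q ≠ 0 := by rintro rfl; norm_num at hqq
    have hr0 : r ≠ 0 := by rintro rfl; norm_num at hrr
    have hu0 : u ≠ 0 := by rintro rfl; norm_num at huu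
    intro x hx
    by_cases h1 : x = o
    · subst h1; rw [co]; norm_num
    by_cases h2 : x = i
    · subst h2; rw [ci]; exact mul_ne_zero (by norm_num) hp0
    by_cases h3 : x = j
    · subst h3; rw [cj]; exact mul_ne_zero (by norm_num) hq0
    by_cases h4 : x = k
    · subst h4; rw [ck]; exact mul_ne_zero (by norm_num) hr0
    by_cases h5 : x = m
    · subst h5; rw [cm]; exact mul_ne_zero (by norm_num) hu0
    by_cases h6 : x = z
    · subst h6; rw [cz]; exact mul_ne_zero (by norm_num) hs0
    exfalso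
    rcases hx with hx | hx
    · apply hx; simp [eA, h1, h2, h3]
    · apply hx; simp [eW2, h2, h4, h5, h6]
  refine ⟨p * d i, u * d m, hne p i hpp, eS ▸ hne q j hqq, hne u m huu, eZ ▸ hne s z hss, ?_, ?_,
    hsupp, ⟨j, by rw [haj']; exact hqq, by rw [haj']; omega, by rw [haj']; exact cj⟩,
    ⟨z, by rw [hwz]; exact hss, by rw [hwz]; omega, by rw [hwz]; exact cz⟩⟩
  · simp only [Vecs.triple, eA, Pi.add_apply, Int.cast_add, add_mul, sum_add_distrib, sum_single_mul]
    rw [co, ci, cj, V.d_o, ← eS]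
    push_cast
    rw [nine_div (by exact_mod_cast hpp) (-3) (hd i), nine_div (by exact_mod_cast hqq) 2 (hd j)]
    ring
  · simp only [Vecs.triple, eW2, Pi.add_apply, Int.cast_add, add_mul, sum_add_distrib, sum_single_mul]
    rw [ci, ck, cm, cz, ← eK, ← eZ]
    push_cast
    rw [nine_div (by exact_mod_cast hpp) (-3) (hd i), nine_div (by exact_mod_cast hrr) (-2) (hd k),
      nine_div (by exact_mod_cast huu) (-3) (hd m), nine_div (by exact_mod_cast hss) (-4) (hd z)]
    ring

/-- The two triple sums. -/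
theorem Vecs.triples (V : Vecs ι o d) :
    ∃ P U : ℤ, P ≠ 0 ∧ -1 - P ≠ 0 ∧ U ≠ 0 ∧ 1 - U ≠ 0 ∧
      V.triple V.a = 1 + 4 / ((-1 - P : ℤ) : ℚ) + 9 / (P : ℚ) ∧
      V.triple V.w = 9 / (P : ℚ) + 4 / ((-1 - P : ℤ) : ℚ) + 9 / (U : ℚ) + 16 / ((1 - U : ℤ) : ℚ) := by
  obtain ⟨P, U, hP, hS, hU, hZ, hA, hW, -, -, -⟩ := V.triples_data
  exact ⟨P, U, hP, hS, hU, hZ, hA, hW⟩

/-- The arithmetic: only two orders survive. -/
theorem order_arith {N : ℕ} {P U : ℤ} (hP : P ≠ 0) (hS : -1 - P ≠ 0) (hU : U ≠ 0) (hZ : 1 - U ≠ 0)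
    (h16 : N % 32 = 16) (hA : (1 : ℚ) + 4 / ((-1 - P : ℤ) : ℚ) + 9 / (P : ℚ) = 4608 / (N : ℚ))
    (hW : 9 / (P : ℚ) + 4 / ((-1 - P : ℤ) : ℚ) + 9 / (U : ℚ) + 16 / ((1 - U : ℤ) : ℚ) =
      -4608 / (N : ℚ)) :
    N = 5616 ∨ N = 7920 := by
  have hN : (N : ℚ) ≠ 0 := Nat.cast_ne_zero.2 (by omega)
  have hPq : (P : ℚ) ≠ 0 := Int.cast_ne_zero.2 hP
  have hSq : ((-1 - P : ℤ) : ℚ) ≠ 0 := Int.cast_ne_zero.2 hS
  have hUq : (U : ℚ) ≠ 0 := Int.cast_ne_zero.2 hU
  have hZq : ((1 - U : ℤ) : ℚ) ≠ 0 := Int.cast_ne_zero.2 hZ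
  have e1 : (N : ℤ) * (P + 3) ^ 2 = 4608 * P * (P + 1) := by
    have h := hA
    field_simp at h
    push_cast at h
    have : (N : ℚ) * ((P : ℚ) + 3) ^ 2 = 4608 * P * (P + 1) := by linear_combination -h
    exact_mod_cast this
  have e2 : (N : ℤ) * (9 * (1 - U) + 16 * U) = ((N : ℤ) - 9216) * U * (1 - U) := by
    have h : 9 / (U : ℚ) + 16 / ((1 - U : ℤ) : ℚ) = 1 - 9216 / (N : ℚ) := by
      linear_combination hW - hA
    field_simp at h
    push_cast at h
    have : (N : ℚ) * (9 * (1 - U) + 16 * U) = ((N : ℚ) - 9216) * U * (1 - U) := by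
      linear_combination h
    exact_mod_cast this
  set D := P + 3 with hD
  have hP' : P = D - 3 := by omega
  rw [hP'] at e1
  have hD0 : D ≠ 0 := by
    intro h0
    rw [h0] at e1
    norm_num at e1
  have hdiv : D ∣ (27648 : ℤ) := ⟨(N : ℤ) * D - 4608 * D + 23040, by linear_combination -e1⟩
  have hcases : ∀ a ∈ Nat.divisors 27648, a = D.natAbs → D = (a : ℤ) ∨ D = -(a : ℤ) := by
    intro a _ ha; omega
  have hmem : D.natAbs ∈ Nat.divisors 27648 := Nat.mem_divisors.2
    ⟨by simpa using Int.natAbs_dvd_natAbs.2 hdiv, by norm_num⟩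
  -- the finite search
  let num : ℤ → ℤ := fun x => 4608 * (x - 3) * (x - 2)
  have key : ∀ a ∈ Nat.divisors 27648, ∀ b ∈ ([(a : ℤ), -(a : ℤ)] : List ℤ),
      (4608 * (b - 3) * (b - 2)) % (b * b) = 0 → (4608 * (b - 3) * (b - 2)) / (b * b) % 32 = 16 →
      (4608 * (b - 3) * (b - 2)) / (b * b) ∈ ([5616, 7920, 2160, 3696] : List ℤ) := by
    decide +kernel
  have hNval : (4608 * (D - 3) * (D - 2)) / (D * D) = (N : ℤ) := by
    rw [show 4608 * (D - 3) * (D - 2) = (N : ℤ) * (D * D) by linear_combination -e1]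
    exact Int.mul_ediv_cancel _ (mul_ne_zero hD0 hD0)
  have hNmod : (4608 * (D - 3) * (D - 2)) % (D * D) = 0 := by
    rw [show 4608 * (D - 3) * (D - 2) = (N : ℤ) * (D * D) by linear_combination -e1]
    exact Int.mul_emod_left _ _
  have hm := key _ hmem D (by
    rcases hcases _ hmem rfl with e | e <;> rw [e] <;> simp) hNmod (by rw [hNval]; omega)
  rw [hNval] at hm
  simp only [List.mem_cons, List.not_mem_nil, or_false] at hm
  rcases hm with h | h | h | h
  · left; omega
  · right; omega
  · exfalso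
    rw [h] at e2
    have hb : -10 ≤ U ∧ U ≤ 10 := by constructor <;> nlinarith
    obtain ⟨h1, h2⟩ := hb
    interval_cases U <;> norm_num at e2
  · exfalso
    rw [h] at e2
    have hb : -10 ≤ U ∧ U ≤ 10 := by constructor <;> nlinarith
    obtain ⟨h1, h2⟩ := hb
    interval_cases U <;> norm_num at e2

end CfsgLib.Blocks.GLTwoThreeCentralizer
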