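import Cfsg.Agent.Lib.Blocks.GLTwoThreeCentralizer.Data

/-!
# Centralizer sizes in `GL(2,3)`
-/

set_option autoImplicit false

namespace CfsgLib.Blocks.GLTwoThreeCentralizer

theorem els_centralizer_cases : ∀ p ∈ els, p = qone ∨ p = qneg ∨
    (els.filter fun q => qmul q p = qmul p q).card = 4 ∨
    (els.filter fun q => qmul q p = qmul p q).card = 6 ∨
    (els.filter fun q => qmul q p = qmul p q).card = 8 := by
  decide +kernel

theorem els_centralizer_four : ∃ p ∈ els, qmul p p = qone ∧
    (els.filter fun q => qmul q p = qmul p q).card = 4 := by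
  decide +kernel

theorem els_centralizer_big : ∀ p ∈ els, 16 ∣ (els.filter fun q => qmul q p = qmul p q).card →
    p = qone ∨ p = qneg := by
  decide +kernel

theorem els_card_central : (els.filter fun q => qmul q qneg = qmul qneg q).card = 48 := by
  decide +kernel

end CfsgLib.Blocks.GLTwoThreeCentralizer
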