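import Mathlib.Algebra.Field.ZMod
import Mathlib.LinearAlgebra.Matrix.Notation
import Mathlib.NumberTheory.Zsqrtd.Basic
import Mathlib.Algebra.BigOperators.Group.Finset.Basic
import Mathlib.Data.Finset.Prod
import Mathlib.Data.Matrix.Basic

/-!
# Class functions on the invertible two-by-two matrices over the field with three elements

Five integral combinations of irreducible characters vanishing outside the elements having `-1` as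
a power, with values in `ℤ[√-2]`, and the finite sums needed for the centralizer computation.
-/

set_option autoImplicit false
set_option maxRecDepth 100000

namespace CfsgLib.Blocks.GLTwoThreeCentralizer

/-- A matrix by its four entries. -/
abbrev Qd := ZMod 3 × ZMod 3 × ZMod 3 × ZMod 3

/-- The values. -/
abbrev Rt := ℤ√(-2)

/-- The determinant. -/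
def qdet (p : Qd) : ZMod 3 := p.1 * p.2.2.2 - p.2.1 * p.2.2.1

/-- The product. -/
def qmul (p q : Qd) : Qd :=
  (p.1 * q.1 + p.2.1 * q.2.2.1, p.1 * q.2.1 + p.2.1 * q.2.2.2,
    p.2.2.1 * q.1 + p.2.2.2 * q.2.2.1, p.2.2.1 * q.2.1 + p.2.2.2 * q.2.2.2)

/-- The identity. -/
def qone : Qd := (1, 0, 0, 1)

/-- The central involution. -/
def qneg : Qd := (2, 0, 0, 2)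

/-- The group. -/
def els : Finset Qd := Finset.univ.filter fun p => qdet p ≠ 0

/-- The involutions. -/
def invs : Finset Qd := els.filter fun p => p ≠ qone ∧ qmul p p = qone

/-- The sign of the determinant. -/
def eps (p : Qd) : Rt := if qdet p = 1 then 1 else -1

/-- The four lines. -/
def lineIdx (x y : ZMod 3) : Fin 4 := if y = 0 then 0 else if x = 0 then 1 else if x = y then 2 else 3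

/-- The action on the four lines. -/
def act4 (p : Qd) (i : Fin 4) : Fin 4 :=
  let v : ZMod 3 × ZMod 3 := ![(1, 0), (0, 1), (1, 1), (1, 2)] i
  lineIdx (p.1 * v.1 + p.2.1 * v.2) (p.2.2.1 * v.1 + p.2.2.2 * v.2)

/-- The action on the three partitions of the lines into pairs. -/
def act3 (p : Qd) (i : Fin 3) : Fin 3 :=
  let a := (act4 p 0).val
  let b := (act4 p i.succ).val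
  let k := if a = 0 then b else if b = 0 then a else 6 - a - b
  if k = 1 then 0 else if k = 2 then 1 else 2

/-- The images of the faithful representation of degree two. -/
def gamTab : List (Rt × Rt × Rt × Rt) := [
  (⟨0,0⟩, ⟨0,0⟩, ⟨0,0⟩, ⟨0,0⟩), (⟨0,0⟩, ⟨0,0⟩, ⟨0,0⟩, ⟨0,0⟩), (⟨0,0⟩, ⟨0,0⟩, ⟨0,0⟩, ⟨0,0⟩),
  (⟨0,0⟩, ⟨0,0⟩, ⟨0,0⟩, ⟨0,0⟩), (⟨0,0⟩, ⟨0,0⟩, ⟨0,0⟩, ⟨0,0⟩), (⟨0,0⟩, ⟨0,0⟩, ⟨0,0⟩, ⟨0,0⟩),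
  (⟨0,0⟩, ⟨0,0⟩, ⟨0,0⟩, ⟨0,0⟩), (⟨0,0⟩, ⟨0,0⟩, ⟨0,0⟩, ⟨0,0⟩), (⟨0,0⟩, ⟨0,0⟩, ⟨0,0⟩, ⟨0,0⟩),
  (⟨0,0⟩, ⟨0,0⟩, ⟨0,0⟩, ⟨0,0⟩), (⟨0,0⟩, ⟨0,0⟩, ⟨0,0⟩, ⟨0,0⟩), (⟨0,0⟩, ⟨0,0⟩, ⟨0,0⟩, ⟨0,0⟩),
  (⟨-1,0⟩, ⟨-1,-1⟩, ⟨0,0⟩, ⟨1,0⟩), (⟨0,0⟩, ⟨1,0⟩, ⟨1,0⟩, ⟨0,1⟩), (⟨1,0⟩, ⟨0,1⟩, ⟨-1,0⟩, ⟨-1,-1⟩),
  (⟨-1,-1⟩, ⟨0,-1⟩, ⟨2,0⟩, ⟨1,1⟩), (⟨2,0⟩, ⟨1,1⟩, ⟨-1,1⟩, ⟨-1,0⟩), (⟨-1,1⟩, ⟨-1,0⟩, ⟨-1,-1⟩, ⟨0,-1⟩),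
  (⟨0,0⟩, ⟨0,0⟩, ⟨0,0⟩, ⟨0,0⟩), (⟨0,0⟩, ⟨0,0⟩, ⟨0,0⟩, ⟨0,0⟩), (⟨0,0⟩, ⟨0,0⟩, ⟨0,0⟩, ⟨0,0⟩),
  (⟨1,1⟩, ⟨0,1⟩, ⟨-2,0⟩, ⟨-1,-1⟩), (⟨1,-1⟩, ⟨1,0⟩, ⟨1,1⟩, ⟨0,1⟩), (⟨-2,0⟩, ⟨-1,-1⟩, ⟨1,-1⟩, ⟨1,0⟩),
  (⟨1,0⟩, ⟨1,1⟩, ⟨0,0⟩, ⟨-1,0⟩), (⟨-1,0⟩, ⟨0,-1⟩, ⟨1,0⟩, ⟨1,1⟩), (⟨0,0⟩, ⟨-1,0⟩, ⟨-1,0⟩, ⟨0,-1⟩),
  (⟨0,0⟩, ⟨0,0⟩, ⟨0,0⟩, ⟨0,0⟩), (⟨1,0⟩, ⟨0,0⟩, ⟨0,0⟩, ⟨1,0⟩), (⟨1,1⟩, ⟨-1,1⟩, ⟨-2,0⟩, ⟨-1,-1⟩),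
  (⟨0,0⟩, ⟨0,0⟩, ⟨0,0⟩, ⟨0,0⟩), (⟨0,0⟩, ⟨1,0⟩, ⟨-1,0⟩, ⟨-1,0⟩), (⟨-2,0⟩, ⟨-1,-1⟩, ⟨1,-1⟩, ⟨2,0⟩),
  (⟨0,0⟩, ⟨0,0⟩, ⟨0,0⟩, ⟨0,0⟩), (⟨-1,0⟩, ⟨-1,0⟩, ⟨1,0⟩, ⟨0,0⟩), (⟨1,-1⟩, ⟨2,0⟩, ⟨1,1⟩, ⟨-1,1⟩),
  (⟨0,0⟩, ⟨0,0⟩, ⟨0,0⟩, ⟨0,0⟩), (⟨-1,-1⟩, ⟨1,-1⟩, ⟨1,0⟩, ⟨0,1⟩), (⟨0,-1⟩, ⟨1,-1⟩, ⟨1,1⟩, ⟨0,1⟩),
  (⟨1,1⟩, ⟨0,1⟩, ⟨-1,0⟩, ⟨-1,0⟩), (⟨0,0⟩, ⟨0,0⟩, ⟨0,0⟩, ⟨0,0⟩), (⟨1,0⟩, ⟨0,1⟩, ⟨0,1⟩, ⟨-1,0⟩),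
  (⟨0,1⟩, ⟨-1,0⟩, ⟨-1,-1⟩, ⟨1,-1⟩), (⟨-1,0⟩, ⟨-1,0⟩, ⟨0,-1⟩, ⟨1,-1⟩), (⟨0,0⟩, ⟨0,0⟩, ⟨0,0⟩, ⟨0,0⟩),
  (⟨0,0⟩, ⟨0,0⟩, ⟨0,0⟩, ⟨0,0⟩), (⟨0,1⟩, ⟨-1,1⟩, ⟨-1,0⟩, ⟨-1,-1⟩), (⟨-1,0⟩, ⟨0,0⟩, ⟨1,-1⟩, ⟨1,0⟩),
  (⟨-1,0⟩, ⟨-1,-1⟩, ⟨1,-1⟩, ⟨2,0⟩), (⟨1,-1⟩, ⟨1,0⟩, ⟨0,1⟩, ⟨-1,0⟩), (⟨0,0⟩, ⟨0,0⟩, ⟨0,0⟩, ⟨0,0⟩),
  (⟨0,1⟩, ⟨-1,0⟩, ⟨-1,0⟩, ⟨0,0⟩), (⟨0,0⟩, ⟨0,0⟩, ⟨0,0⟩, ⟨0,0⟩), (⟨1,-1⟩, ⟨2,0⟩, ⟨0,1⟩, ⟨-1,1⟩),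
  (⟨0,0⟩, ⟨0,0⟩, ⟨0,0⟩, ⟨0,0⟩), (⟨-1,-1⟩, ⟨1,-1⟩, ⟨2,0⟩, ⟨1,1⟩), (⟨-1,0⟩, ⟨0,0⟩, ⟨0,0⟩, ⟨-1,0⟩),
  (⟨0,0⟩, ⟨0,0⟩, ⟨0,0⟩, ⟨0,0⟩), (⟨-1,1⟩, ⟨-2,0⟩, ⟨-1,-1⟩, ⟨1,-1⟩), (⟨1,0⟩, ⟨1,0⟩, ⟨-1,0⟩, ⟨0,0⟩),
  (⟨0,0⟩, ⟨0,0⟩, ⟨0,0⟩, ⟨0,0⟩), (⟨2,0⟩, ⟨1,1⟩, ⟨-1,1⟩, ⟨-2,0⟩), (⟨0,0⟩, ⟨-1,0⟩, ⟨1,0⟩, ⟨1,0⟩),
  (⟨0,0⟩, ⟨0,0⟩, ⟨0,0⟩, ⟨0,0⟩), (⟨1,0⟩, ⟨0,0⟩, ⟨-1,1⟩, ⟨-1,0⟩), (⟨0,-1⟩, ⟨1,-1⟩, ⟨1,0⟩, ⟨1,1⟩),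
  (⟨0,-1⟩, ⟨1,0⟩, ⟨1,0⟩, ⟨0,0⟩), (⟨-1,1⟩, ⟨-2,0⟩, ⟨0,-1⟩, ⟨1,-1⟩), (⟨0,0⟩, ⟨0,0⟩, ⟨0,0⟩, ⟨0,0⟩),
  (⟨1,0⟩, ⟨1,1⟩, ⟨-1,1⟩, ⟨-2,0⟩), (⟨0,0⟩, ⟨0,0⟩, ⟨0,0⟩, ⟨0,0⟩), (⟨-1,1⟩, ⟨-1,0⟩, ⟨0,-1⟩, ⟨1,0⟩),
  (⟨0,0⟩, ⟨0,0⟩, ⟨0,0⟩, ⟨0,0⟩), (⟨0,1⟩, ⟨-1,1⟩, ⟨-1,-1⟩, ⟨0,-1⟩), (⟨1,1⟩, ⟨-1,1⟩, ⟨-1,0⟩, ⟨0,-1⟩),
  (⟨0,-1⟩, ⟨1,0⟩, ⟨1,1⟩, ⟨-1,1⟩), (⟨0,0⟩, ⟨0,0⟩, ⟨0,0⟩, ⟨0,0⟩), (⟨1,0⟩, ⟨1,0⟩, ⟨0,1⟩, ⟨-1,1⟩),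
  (⟨-1,-1⟩, ⟨0,-1⟩, ⟨1,0⟩, ⟨1,0⟩), (⟨-1,0⟩, ⟨0,-1⟩, ⟨0,-1⟩, ⟨1,0⟩), (⟨0,0⟩, ⟨0,0⟩, ⟨0,0⟩, ⟨0,0⟩)]

/-- The faithful representation of degree two. -/
def gam (p : Qd) : Rt × Rt × Rt × Rt :=
  gamTab.getD (27 * p.1.val + 9 * p.2.1.val + 3 * p.2.2.1.val + p.2.2.2.val) (0, 0, 0, 0)

/-- The product of images. -/
def rmul (p q : Rt × Rt × Rt × Rt) : Rt × Rt × Rt × Rt :=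
  (p.1 * q.1 + p.2.1 * q.2.2.1, p.1 * q.2.1 + p.2.1 * q.2.2.2,
    p.2.2.1 * q.1 + p.2.2.2 * q.2.2.1, p.2.2.1 * q.2.1 + p.2.2.2 * q.2.2.2)

/-- The trace of the permutation action on lines. -/
def pi4 (p : Qd) : Rt := ∑ i : Fin 4, if act4 p i = i then 1 else 0

/-- The trace of the permutation action on partitions. -/
def pi3 (p : Qd) : Rt := ∑ i : Fin 3, if act3 p i = i then 1 else 0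

/-- The trace in degree two. -/
def gamTr (p : Qd) : Rt := (gam p).1 + (gam p).2.2.2

/-- `1 + σ - ρ` -/
def fAlpha (p : Qd) : Rt := pi3 p - (pi4 p - 1)

/-- `ε + σ - ρ'` -/
def fAlpha' (p : Qd) : Rt := eps p * fAlpha p

/-- `1 + γ - ρ` -/
def fBeta (p : Qd) : Rt := 1 + gamTr p - (pi4 p - 1)

/-- `1 + γ̄ - ρ` -/
def fBeta' (p : Qd) : Rt := star (fBeta p)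

/-- `γ + δ - ρ - ρ'` -/
def fOmega (p : Qd) : Rt := gamTr p * pi3 p - (pi4 p - 1) * (1 + eps p)

/-- The five functions. -/
def fn : Fin 5 → Qd → Rt := ![fAlpha, fAlpha', fBeta, fBeta', fOmega]

/-- Their inner products. -/
def gram : Fin 5 → Fin 5 → ℤ :=
  ![![3, 1, 2, 2, 1], ![1, 3, 0, 0, 1], ![2, 0, 3, 2, 2], ![2, 0, 2, 3, 1], ![1, 1, 2, 1, 4]]

/-- Their means. -/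
def means : Fin 5 → ℤ := ![1, 0, 1, 1, 0]

/-- The combination supported at the central involution. -/
def coefAt : Fin 5 → ℤ := ![1, 1, 2, -2, -4]

theorem act4_mul : ∀ p ∈ els, ∀ q ∈ els, ∀ i, act4 (qmul p q) i = act4 p (act4 q i) := by
  decide +kernel

theorem act3_mul : ∀ p ∈ els, ∀ q ∈ els, ∀ i, act3 (qmul p q) i = act3 p (act3 q i) := by
  decide +kernel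

theorem act4_one : ∀ i, act4 qone i = i := by decide +kernel

theorem act3_one : ∀ i, act3 qone i = i := by decide +kernel

theorem gam_mul : ∀ p ∈ els, ∀ q ∈ els, gam (qmul p q) = rmul (gam p) (gam q) := by decide +kernel

theorem gam_one : gam qone = (1, 0, 0, 1) := by decide +kernel

theorem eps_mul : ∀ p ∈ els, ∀ q ∈ els, eps (qmul p q) = eps p * eps q := by decide +kernel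

theorem fn_support : ∀ i, ∀ p ∈ els, fn i p ≠ 0 → p = qneg ∨ qmul p p = qneg ∨
    qmul p (qmul p p) = qneg ∨ qmul p (qmul p (qmul p p)) = qneg := by decide +kernel

theorem fn_gram : ∀ i j, ∑ p ∈ els, fn i p * star (fn j p) = ((48 * gram i j : ℤ) : Rt) := by
  decide +kernel

theorem fn_means : ∀ i, ∑ p ∈ els, fn i p = ((48 * means i : ℤ) : Rt) := by decide +kernel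

theorem fn_coefAt : ∀ p ∈ els, ∑ i, (coefAt i : Rt) * fn i p = if p = qneg then 48 else 0 := by
  decide +kernel

theorem fn_pairs_alpha : ∑ x ∈ invs, ∑ y ∈ invs, fn 0 (qmul x y) = 96 := by decide +kernel

theorem fn_pairs_omega : ∑ x ∈ invs, ∑ y ∈ invs, fn 4 (qmul x y) = -96 := by decide +kernel

theorem central_eq : ∀ p ∈ els, (∀ q ∈ els, qmul p q = qmul q p) → p = qone ∨ p = qneg := by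
  decide +kernel

theorem qneg_sq : qmul qneg qneg = qone ∧ qneg ≠ qone ∧ qneg ∈ els := by decide +kernel

theorem card_els : els.card = 48 := by decide +kernel

/-- The involutions other than `-1` are conjugate. -/
theorem noncentral_conj : ∀ x ∈ invs, x = qneg ∨
    ∃ c ∈ els, qmul c (1, 0, 0, 2) = qmul x c := by decide +kernel

theorem det_one_involution : ∀ x ∈ invs, qdet x = 1 → x = qneg := by decide +kernel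

theorem reflection_mem : ((1, 0, 0, 2) : Qd) ∈ invs ∧ qdet (1, 0, 0, 2) ≠ 1 := by decide +kernel

theorem noncentral_centralizer : ∀ x ∈ invs, x = qneg ∨
    (els.filter fun p => qmul p x = qmul x p).card = 4 := by decide +kernel

/-- Products of two involutions. -/
def invProds : Finset Qd := (invs ×ˢ invs).image fun p => qmul p.1 p.2

theorem els_products : els ⊆ (invProds ×ˢ invProds).image fun p => qmul p.1 p.2 := by decide +kernel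

theorem invProds_mem : ∀ p ∈ invProds, p ∈ els := by decide +kernel

theorem exists_els_product {c : Qd} (hc : c ∈ els) :
    ∃ p q, p ∈ invProds ∧ q ∈ invProds ∧ qmul p q = c := by
  obtain ⟨⟨p, q⟩, hpq, h⟩ := Finset.mem_image.1 (els_products hc)
  obtain ⟨hp, hq⟩ := Finset.mem_product.1 hpq
  exact ⟨p, q, hp, hq, h⟩

theorem exists_invProd {z : Qd} (hz : z ∈ invProds) :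
    ∃ a b, a ∈ invs ∧ b ∈ invs ∧ qmul a b = z := by
  obtain ⟨⟨a, b⟩, hab, h⟩ := Finset.mem_image.1 hz
  obtain ⟨ha, hb⟩ := Finset.mem_product.1 hab
  exact ⟨a, b, ha, hb, h⟩

end CfsgLib.Blocks.GLTwoThreeCentralizer
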