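import Mathlib
import Cfsg.Agent.Lib.Char.Virtual
import Cfsg.Agent.Lib.Blocks.GLTwoThreeCentralizer.Data

/-!
# The five combinations are generalized characters
-/

set_option autoImplicit false

namespace CfsgLib.Blocks.GLTwoThreeCentralizer

open CfsgLib.Char
open scoped ComplexConjugate

/-- The group. -/
abbrev GLT := GL (Fin 2) (ZMod 3)

/-- The entries of a matrix. -/
def tup (A : GLT) : Qd :=
  ((A : Matrix (Fin 2) (Fin 2) (ZMod 3)) 0 0, (A : Matrix (Fin 2) (Fin 2) (ZMod 3)) 0 1,
    (A : Matrix (Fin 2) (Fin 2) (ZMod 3)) 1 0, (A : Matrix (Fin 2) (Fin 2) (ZMod 3)) 1 1)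

theorem tup_mul (A B : GLT) : tup (A * B) = qmul (tup A) (tup B) := by
  simp [tup, qmul, Matrix.mul_apply, Fin.sum_univ_two]

theorem tup_one : tup (1 : GLT) = qone := by simp [tup, qone]

theorem tup_injective : Function.Injective tup := by
  intro A B h
  simp only [tup, Prod.mk.injEq] at h
  apply Units.ext
  ext i j
  fin_cases i <;> fin_cases j <;> simp_all

theorem qdet_tup (A : GLT) : qdet (tup A) = (A : Matrix (Fin 2) (Fin 2) (ZMod 3)).det := by
  simp [tup, qdet, Matrix.det_fin_two]

theorem tup_mem (A : GLT) : tup A ∈ els := by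
  have : Fact (Nat.Prime 3) := ⟨Nat.prime_three⟩
  refine Finset.mem_filter.2 ⟨Finset.mem_univ _, ?_⟩
  rw [qdet_tup]
  exact ((Matrix.isUnit_iff_isUnit_det _).1 A.isUnit).ne_zero

theorem exists_tup {p : Qd} (hp : p ∈ els) : ∃ A : GLT, tup A = p := by
  have : Fact (Nat.Prime 3) := ⟨Nat.prime_three⟩
  have hd : qdet p ≠ 0 := (Finset.mem_filter.1 hp).2
  refine ⟨Matrix.GeneralLinearGroup.mkOfDetNeZero !![p.1, p.2.1; p.2.2.1, p.2.2.2]
    (by simpa [Matrix.det_fin_two_of, qdet] using hd), ?_⟩
  simp [tup, Matrix.GeneralLinearGroup.mkOfDetNeZero]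

/-- The square root of `-2`. -/
noncomputable def rootC : ℂ := Complex.I * (Real.sqrt 2 : ℂ)

theorem rootC_mul : rootC * rootC = ((-2 : ℤ) : ℂ) := by
  have h : ((Real.sqrt 2 : ℝ) : ℂ) * (Real.sqrt 2 : ℝ) = 2 := by
    rw [← Complex.ofReal_mul, Real.mul_self_sqrt (by norm_num)]; norm_num
  rw [rootC, mul_mul_mul_comm, Complex.I_mul_I, h]
  norm_num

/-- The values as complex numbers. -/
noncomputable def toC : Rt →+* ℂ := Zsqrtd.lift ⟨rootC, rootC_mul⟩

theorem toC_apply (z : Rt) : toC z = (z.re : ℂ) + (z.im : ℂ) * rootC := rfl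

theorem toC_star (z : Rt) : conj (toC z) = toC (star z) := by
  simp [toC_apply, rootC]

theorem isChar_matrix {A : Type*} [Group A] {n : ℕ} (ρ : A →* Matrix (Fin n) (Fin n) ℂ) :
    Cfsg.IsCharacter A (fun a => Matrix.trace (ρ a)) := by
  let σ : Representation ℂ A (Fin n → ℂ) :=
    (Matrix.toLinAlgEquiv' : Matrix (Fin n) (Fin n) ℂ ≃ₐ[ℂ] _).toAlgHom.toMonoidHom.comp ρ
  refine ⟨n, σ, ?_⟩
  funext a
  exact Matrix.trace_toLin'_eq (ρ a)

theorem isChar_action {n : ℕ} (act : Qd → Fin n → Fin n)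
    (hmul : ∀ p ∈ els, ∀ q ∈ els, ∀ i, act (qmul p q) i = act p (act q i))
    (hone : ∀ i, act qone i = i) :
    Cfsg.IsCharacter GLT (fun A => toC (∑ i : Fin n, if act (tup A) i = i then 1 else 0)) := by
  let ρ : GLT →* Matrix (Fin n) (Fin n) ℂ :=
    { toFun := fun A => Matrix.of fun i j => if act (tup A) j = i then 1 else 0
      map_one' := by
        ext i j
        simp [tup_one, hone, Matrix.one_apply, eq_comm]
      map_mul' := fun A B => by
        ext i j
        simp [Matrix.mul_apply, tup_mul, hmul _ (tup_mem A) _ (tup_mem B)] }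
  convert isChar_matrix ρ using 1
  funext A
  simp [ρ, Matrix.trace]

/-- A function on the matrices, as complex numbers. -/
noncomputable def liftF (f : Qd → Rt) : GLT → ℂ := fun A => toC (f (tup A))

theorem isChar_pi4 : Cfsg.IsCharacter GLT (liftF pi4) := isChar_action act4 act4_mul act4_one

theorem isChar_pi3 : Cfsg.IsCharacter GLT (liftF pi3) := isChar_action act3 act3_mul act3_one

/-- An image as a complex matrix. -/
noncomputable def quadMat (p : Rt × Rt × Rt × Rt) : Matrix (Fin 2) (Fin 2) ℂ :=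
  !![toC p.1, toC p.2.1; toC p.2.2.1, toC p.2.2.2]

theorem isChar_gamTr : Cfsg.IsCharacter GLT (liftF gamTr) := by
  let ρ : GLT →* Matrix (Fin 2) (Fin 2) ℂ :=
    { toFun := fun A => quadMat (gam (tup A))
      map_one' := by
        rw [tup_one, gam_one]
        simp [quadMat, Matrix.one_fin_two]
      map_mul' := fun A B => by
        rw [tup_mul, gam_mul _ (tup_mem A) _ (tup_mem B)]
        simp [quadMat, rmul] }
  convert isChar_matrix ρ using 1
  funext A
  simp [ρ, quadMat, liftF, gamTr, Matrix.trace, Fin.sum_univ_two]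

theorem isChar_eps : Cfsg.IsCharacter GLT (liftF eps) := by
  let ρ : GLT →* Matrix (Fin 1) (Fin 1) ℂ :=
    { toFun := fun A => Matrix.of fun _ _ => toC (eps (tup A))
      map_one' := by
        ext i j
        have h : eps qone = 1 := by decide +kernel
        simp [tup_one, h, Subsingleton.elim i j, Matrix.one_apply]
      map_mul' := fun A B => by
        ext i j
        simp [Matrix.mul_apply, tup_mul, eps_mul _ (tup_mem A) _ (tup_mem B)] }
  convert isChar_matrix ρ using 1
  funext A
  simp [ρ, liftF, Matrix.trace]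

theorem isGen_conj_fun {θ : GLT → ℂ} (h : Cfsg.IsGeneralizedCharacter GLT θ) :
    Cfsg.IsGeneralizedCharacter GLT (fun A => conj (θ A)) := by
  obtain ⟨a, b, ha, hb, rfl⟩ := h
  exact ⟨_, _, IsChar.conj ha, IsChar.conj hb, by funext A; simp⟩

theorem isGen_fn (i : Fin 5) : Cfsg.IsGeneralizedCharacter GLT (liftF (fn i)) := by
  have h4 := IsGen.sub (IsGen.of_isCharacter isChar_pi4) (IsGen.one (G := GLT))
  have ha : Cfsg.IsGeneralizedCharacter GLT (liftF fAlpha) := by
    convert IsGen.sub (IsGen.of_isCharacter isChar_pi3) h4 using 1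
    funext A; simp [liftF, fAlpha]
  have hb : Cfsg.IsGeneralizedCharacter GLT (liftF fBeta) := by
    convert IsGen.sub (IsGen.add (IsGen.one (G := GLT)) (IsGen.of_isCharacter isChar_gamTr)) h4 using 1
    funext A; simp [liftF, fBeta]
  fin_cases i
  · exact ha
  · convert IsGen.mul (IsGen.of_isCharacter isChar_eps) ha using 1
    funext A; simp [liftF, fn, fAlpha']
  · exact hb
  · convert isGen_conj_fun hb using 1
    funext A; simp [liftF, fn, fBeta', toC_star]
  · convert IsGen.sub (IsGen.mul (IsGen.of_isCharacter isChar_gamTr) (IsGen.of_isCharacter isChar_pi3))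
      (IsGen.mul h4 (IsGen.add (IsGen.one (G := GLT)) (IsGen.of_isCharacter isChar_eps))) using 1
    funext A; simp [liftF, fn, fOmega]

theorem sum_tup {M : Type*} [AddCommMonoid M] [Fintype GLT] (f : Qd → M) :
    ∑ A : GLT, f (tup A) = ∑ p ∈ els, f p := by
  classical
  rw [← Finset.sum_image (f := f) fun A _ B _ h => tup_injective h]
  congr 1
  ext p
  simp only [Finset.mem_image, Finset.mem_univ, true_and]
  exact ⟨fun ⟨A, hA⟩ => hA ▸ tup_mem A, exists_tup⟩

end CfsgLib.Blocks.GLTwoThreeCentralizer
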