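import Mathlib
import Cfsg.Agent.Lib.Blocks.GLTwoThreeCentralizer.Reps
import Cfsg.Agent.Lib.Blocks.GLTwoThreeCentralizer.CommutingData
import Cfsg.Agent.Lib.Recog.GLTwoThreeIso
import Cfsg.Agent.Lib.Core.UniqueOrderP

/-!
# A group with the commuting graph of `GL(2,3)` and enough involutions is `GL(2,3)`
-/

set_option autoImplicit false

open scoped Classical

namespace CfsgLib.Blocks.GLTwoThreeCentralizer

/-- The order of a centralizer, counted on entries. -/
theorem card_centralizer_tup (A : GLT) :
    Nat.card (Subgroup.centralizer ({A} : Set GLT)) =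
      (els.filter fun q => qmul q (tup A) = qmul (tup A) q).card := by
  rw [← Nat.card_eq_finsetCard]
  refine Nat.card_congr (Equiv.ofBijective (fun g => ⟨tup g.1, Finset.mem_filter.2
    ⟨tup_mem _, by rw [← tup_mul, ← tup_mul, Subgroup.mem_centralizer_singleton_iff.1 g.2]⟩⟩) ⟨?_, ?_⟩)
  · intro a b hab
    exact Subtype.ext (tup_injective (congrArg Subtype.val hab))
  · rintro ⟨p, hp⟩
    obtain ⟨hp1, hp2⟩ := Finset.mem_filter.1 hp
    obtain ⟨B, rfl⟩ := exists_tup hp1
    rw [← tup_mul, ← tup_mul] at hp2
    exact ⟨⟨B, Subgroup.mem_centralizer_singleton_iff.2 (tup_injective hp2)⟩, rfl⟩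

variable {C : Type*} [Group C] [Finite C]

/-- Two-subgroups normalized by an element of order three fixing only `{1, z}`. -/
theorem card_mod_three_of_fixed {w z : C} (hz1 : z ≠ 1)
    (hzw : Commute w z) (hw : orderOf w = 3) (U : Subgroup C) (hzU : z ∈ U)
    (hwU : w ∈ Subgroup.normalizer (U : Set C))
    (hfix : ∀ u ∈ U, w * u * w⁻¹ = u → u = 1 ∨ u = z) : Nat.card U % 3 = 2 := by
  have : Fact (Nat.Prime 3) := ⟨Nat.prime_three⟩
  let φ : Subgroup.zpowers w →* MulAut U :=
    U.normalizerMonoidHom.comp (Subgroup.inclusion (Subgroup.zpowers_le.2 hwU))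
  letI : MulAction (Subgroup.zpowers w) U := MulAction.compHom U φ
  have hp : IsPGroup 3 (Subgroup.zpowers w) :=
    IsPGroup.of_card (n := 1) (by rw [Nat.card_zpowers, hw, pow_one])
  have h := hp.card_modEq_card_fixedPoints U
  have hsm : ∀ (g : Subgroup.zpowers w) (u : U), ((g • u : U) : C) = (g : C) * (u : C) * (g : C)⁻¹ :=
    fun g u => rfl
  have hset : MulAction.fixedPoints (Subgroup.zpowers w) U = {1, ⟨z, hzU⟩} := by
    ext u
    constructor
    · intro hu
      have h2 := congrArg Subtype.val (hu ⟨w, Subgroup.mem_zpowers w⟩)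
      rw [hsm] at h2
      rcases hfix u u.2 h2 with h3 | h3
      · exact Or.inl (Subtype.ext h3)
      · exact Or.inr (Subtype.ext h3)
    · intro hu g
      refine Subtype.ext ?_
      rw [hsm]
      obtain ⟨k, hk⟩ := Subgroup.mem_zpowers_iff.1 g.2
      rcases hu with rfl | rfl
      · simp
      · show (g : C) * z * (g : C)⁻¹ = z
        rw [← hk, (hzw.zpow_left k).eq, mul_inv_cancel_right]
  have h2 : Nat.card (MulAction.fixedPoints (Subgroup.zpowers w) U) = 2 := by
    rw [hset, Nat.card_coe_set_eq, Set.ncard_pair]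
    intro he
    exact hz1 (congrArg Subtype.val he).symm
  rw [h2] at h
  exact h

/-- Recognition of `GL(2,3)` from a bijection respecting commutation and involutions. -/
theorem nonempty_mulEquiv_GLT (β : C ≃ GLT) (hβ1 : β 1 = 1)
    (hcomm : ∀ a b : C, a * b = b * a ↔ β a * β b = β b * β a)
    (hinv : ∀ a : C, β a * β a = 1 → a * a = 1) : Nonempty (C ≃* GLT) := by
  have : Fact (Nat.Prime 3) := ⟨Nat.prime_three⟩
  have : Fact (Nat.Prime 2) := ⟨Nat.prime_two⟩
  have hC : Nat.card C = 48 := by
    rw [Nat.card_congr β, Matrix.card_GL_field]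
    simp [Fin.prod_univ_two]
  have hcard : ∀ a : C, Nat.card (Subgroup.centralizer ({a} : Set C)) =
      (els.filter fun q => qmul q (tup (β a)) = qmul (tup (β a)) q).card := fun a => by
    rw [← card_centralizer_tup]
    refine Nat.card_congr (β.subtypeEquiv fun b => ?_)
    rw [Subgroup.mem_centralizer_singleton_iff, Subgroup.mem_centralizer_singleton_iff]
    exact hcomm b a
  obtain ⟨Z, hZ⟩ := exists_tup qneg_sq.2.2
  set z := β.symm Z with hz
  have hβz : tup (β z) = qneg := by rw [hz, Equiv.apply_symm_apply, hZ]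
  have hz2 : z * z = 1 := hinv z (tup_injective (by
    rw [tup_mul, hβz, tup_one, qneg_sq.1]))
  have hz1 : z ≠ 1 := fun h => qneg_sq.2.1 (by rw [← hβz, h, hβ1, tup_one])
  have hcases : ∀ a : C, a = 1 ∨ a = z ∨ Nat.card (Subgroup.centralizer ({a} : Set C)) = 4 ∨
      Nat.card (Subgroup.centralizer ({a} : Set C)) = 6 ∨
      Nat.card (Subgroup.centralizer ({a} : Set C)) = 8 := by
    intro a
    rw [hcard]
    rcases els_centralizer_cases _ (tup_mem (β a)) with h | h | h
    · left
      refine β.injective ?_
      rw [hβ1]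
      exact tup_injective (by rw [h, tup_one])
    · right; left
      exact β.injective (tup_injective (by rw [h, hβz]))
    · right; right; exact h
  have hzc : ∀ a : C, a * z = z * a := by
    intro a
    have h48 : Nat.card (Subgroup.centralizer ({z} : Set C)) = 48 := by
      rw [hcard, hβz, els_card_central]
    have htop := Subgroup.eq_top_of_card_eq _ (h48.trans hC.symm)
    exact Subgroup.mem_centralizer_singleton_iff.1 (htop ▸ Subgroup.mem_top a)
  -- an element of order three and its centralizer
  obtain ⟨w, hw⟩ := exists_prime_orderOf_dvd_card' (G := C) 3 (by rw [hC]; norm_num)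
  have hw6 : Nat.card (Subgroup.centralizer ({w} : Set C)) = 6 := by
    have h3 : 3 ∣ Nat.card (Subgroup.centralizer ({w} : Set C)) :=
      hw ▸ Subgroup.orderOf_dvd_natCard _ (Subgroup.mem_centralizer_singleton_iff.2 rfl)
    rcases hcases w with h | h | h | h | h
    · rw [h, orderOf_one] at hw; norm_num at hw
    · have h2 : w ^ 2 = 1 := by rw [h, sq, hz2]
      have := orderOf_dvd_of_pow_eq_one h2
      rw [hw] at this
      norm_num at this
    · rw [h] at h3; norm_num at h3
    · exact h
    · rw [h] at h3; norm_num at h3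
  have hzo : orderOf z = 2 := orderOf_eq_prime (by rw [sq, hz2]) hz1
  have hfix : ∀ (U : Subgroup C), IsPGroup 2 U → z ∈ U → ∀ u ∈ U, w * u * w⁻¹ = u → u = 1 ∨ u = z := by
    intro U hU hzU u hu huw
    set F := U ⊓ Subgroup.centralizer ({w} : Set C)
    have hd : Nat.card F ∣ 2 := by
      obtain ⟨k, hk⟩ := IsPGroup.iff_card.1 (hU.to_le (inf_le_left : F ≤ U))
      have h6 := Subgroup.card_dvd_of_le (inf_le_right : F ≤ Subgroup.centralizer ({w} : Set C))
      rw [hw6, hk, show (6 : ℕ) = 2 * 3 by norm_num] at h6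
      rw [hk]
      exact (Nat.Coprime.pow_left k (by norm_num : Nat.Coprime 2 3)).dvd_of_dvd_mul_right h6
    have hle : Subgroup.zpowers z ≤ F :=
      Subgroup.zpowers_le.2 ⟨hzU, Subgroup.mem_centralizer_singleton_iff.2 (hzc w).symm⟩
    have heq := Subgroup.eq_of_le_of_card_ge hle (by
      rw [Nat.card_zpowers, hzo]; exact Nat.le_of_dvd (by norm_num) hd)
    have huF : u ∈ Subgroup.zpowers z := heq ▸ ⟨hu, Subgroup.mem_centralizer_singleton_iff.2
      ((mul_inv_eq_iff_eq_mul.1 huw).symm)⟩
    obtain ⟨i, hi, rfl⟩ := Finset.mem_image.1 (mem_zpowers_iff_mem_range_orderOf.1 huF)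
    rw [hzo, Finset.mem_range] at hi
    interval_cases i <;> simp
  have hzpn : (Subgroup.zpowers z).Normal := ⟨fun a ha g => by
    obtain ⟨k, rfl⟩ := Subgroup.mem_zpowers_iff.1 ha
    rw [((show Commute g z from hzc g).zpow_right k).eq, mul_inv_cancel_right]
    exact Subgroup.zpow_mem _ (Subgroup.mem_zpowers _) k⟩
  have hzP : ∀ P : Sylow 2 C, z ∈ (P : Subgroup C) := fun P =>
    (IsPGroup.of_card (n := 1) (by rw [Nat.card_zpowers, hzo, pow_one]) :
      IsPGroup 2 (Subgroup.zpowers z)).le_sylow_of_normal P (Subgroup.mem_zpowers z)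
  have h16 : ∀ P : Sylow 2 C, Nat.card (P : Subgroup C) = 16 := by
    intro P
    rw [P.card_eq_multiplicity, hC, show (48 : ℕ) = 2 ^ 4 * 3 by norm_num,
      Nat.factorization_mul (by norm_num) (by norm_num)]
    simp only [Finsupp.coe_add, Pi.add_apply]
    rw [Nat.Prime.factorization_pow Nat.prime_two,
      Nat.factorization_eq_zero_of_not_dvd (by norm_num : ¬ 2 ∣ 3)]
    simp
  -- the intersection of two Sylow subgroups
  obtain ⟨S⟩ := (inferInstance : Nonempty (Sylow 2 C))
  obtain ⟨T, hTS⟩ : ∃ T : Sylow 2 C, T ≠ S := by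
    by_contra h
    push Not at h
    have : Subsingleton (Sylow 2 C) := ⟨fun a b => (h a).trans (h b).symm⟩
    have hn := S.normal_of_subsingleton
    have := card_mod_three_of_fixed hz1 (hzc w) hw S (hzP S)
      (by rw [Subgroup.normalizer_eq_top_iff.2 hn]; exact Subgroup.mem_top w) (hfix S S.isPGroup' (hzP S))
    rw [h16] at this
    norm_num at this
  set F := (S : Subgroup C) ⊓ (T : Subgroup C) with hF
  have hF2 : IsPGroup 2 F := S.isPGroup'.to_le inf_le_left
  have hidx : (S : Subgroup C).index = 3 := by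
    have := (S : Subgroup C).card_mul_index
    rw [h16, hC] at this
    omega
  have hF8 : Nat.card F = 8 := by
    have h1 := (F.subgroupOf T).card_mul_index
    rw [Nat.card_congr (Subgroup.subgroupOfEquivOfLe (inf_le_right : F ≤ T)).toEquiv, h16] at h1
    have h3 : (F.subgroupOf T).index ≤ 3 := by
      rw [← hidx]
      calc (F.subgroupOf T).index = (S : Subgroup C).relIndex T := by
            rw [Subgroup.relIndex, hF, Subgroup.inf_subgroupOf_right]
        _ ≤ (S : Subgroup C).index := by
            rw [← Subgroup.relIndex_top_right]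
            exact Subgroup.relIndex_le_of_le_right le_top (by
              rw [Subgroup.relIndex_top_right]; exact Subgroup.index_ne_zero_of_finite)
    have hne : Nat.card F ≠ 16 := fun h => hTS (Sylow.ext ((Subgroup.eq_of_le_of_card_ge
      (inf_le_right : F ≤ T) (by rw [h16, h])).symm.trans (Subgroup.eq_of_le_of_card_ge
      (inf_le_left : F ≤ S) (by rw [h16, h]))))
    generalize Nat.card F = c at h1 hne ⊢
    generalize (F.subgroupOf T).index = i at h1 h3
    interval_cases i <;> omega
  have hnormal : F.Normal := by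
    refine Subgroup.normalizer_eq_top_iff.1 (Subgroup.eq_top_of_card_eq _ ?_)
    have hle : ∀ P : Sylow 2 C, F ≤ P → (P : Subgroup C) ≤ Subgroup.normalizer (F : Set C) := by
      intro P hP
      have hi : (F.subgroupOf (P : Subgroup C)).index = 2 := by
        have h := (F.subgroupOf (P : Subgroup C)).card_mul_index
        rw [Nat.card_congr (Subgroup.subgroupOfEquivOfLe hP).toEquiv, hF8, h16] at h
        omega
      have := Subgroup.normal_of_index_eq_two hi
      exact (Subgroup.normal_subgroupOf_iff_le_normalizer hP).1 this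
    have hS := hle S inf_le_left
    have hT := hle T inf_le_right
    have hd1 := Subgroup.card_dvd_of_le hS
    have hd2 := (Subgroup.normalizer (F : Set C)).card_subgroup_dvd_card
    rw [h16] at hd1
    rw [hC] at hd2 ⊢
    obtain ⟨m, hm⟩ := hd1
    have hm3 : m ∣ 3 := by
      rw [hm, show (48 : ℕ) = 16 * 3 by norm_num] at hd2
      exact Nat.dvd_of_mul_dvd_mul_left (by norm_num) hd2
    rcases (Nat.dvd_prime Nat.prime_three).1 hm3 with rfl | rfl
    · exfalso
      have hS' := Subgroup.eq_of_le_of_card_ge hS (by rw [h16, hm])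
      exact hTS (Sylow.ext (Subgroup.eq_of_le_of_card_ge (hT.trans hS'.symm.le) (by rw [h16, h16])))
    · exact hm
  have hwF : w ∈ Subgroup.normalizer (F : Set C) := by
    rw [Subgroup.normalizer_eq_top_iff.2 hnormal]; exact Subgroup.mem_top w
  have hzF : z ∈ F := ⟨hzP S, hzP T⟩
  -- an involution with centralizer of order four
  obtain ⟨p, hp, hp2, hp4⟩ := els_centralizer_four
  obtain ⟨A, rfl⟩ := exists_tup hp
  set s := β.symm A with hs
  have hs4 : Nat.card (Subgroup.centralizer ({s} : Set C)) = 4 := by
    rw [hcard, hs, Equiv.apply_symm_apply, hp4]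
  have hs2 : s * s = 1 := hinv s (by
    rw [hs, Equiv.apply_symm_apply]; exact tup_injective (by rw [tup_mul, hp2, tup_one]))
  -- the involution of `F` is unique
  have huniq : ∀ x ∈ F, x * x = 1 → x = 1 ∨ x = z := by
    intro x hx hx2
    by_contra hne
    push Not at hne
    set c : C → C := fun u => w * u * w⁻¹ with hc
    have hw3 : w * w * w = 1 := by
      have h := pow_orderOf_eq_one w
      rw [hw, pow_succ, sq] at h
      exact h
    have hc3 : ∀ u, c (c (c u)) = u := fun u => by
      simp only [hc]
      calc w * (w * (w * u * w⁻¹) * w⁻¹) * w⁻¹ = (w * w * w) * u * (w * w * w)⁻¹ := by group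
        _ = u := by rw [hw3]; simp
    have hcm : ∀ u v, c (u * v) = c u * c v := fun u v => by simp only [hc]; group
    have hcF : ∀ u ∈ F, c u ∈ F := fun u hu => hnormal.conj_mem u hu w
    have hcz : c z = z := by simp only [hc]; rw [hzc w, mul_inv_cancel_right]
    have hnf : ∀ u ∈ F, u ≠ 1 → u ≠ z → c u ≠ u := fun u hu h1 h2 h => by
      rcases hfix F hF2 hzF u hu h with h | h
      · exact h1 h
      · exact h2 h
    have hzx : z * x ≠ 1 ∧ z * x ≠ z := ⟨fun h => hne.2 (by
        rw [eq_inv_of_mul_eq_one_right h]; exact inv_eq_of_mul_eq_one_left hz2), fun h => hne.1 (by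
        simpa using h)⟩
    have hz' : ∀ u, z * (z * u) = u := fun u => by rw [← mul_assoc, hz2, one_mul]
    have hx1 : c x ≠ x := hnf x hx hne.1 hne.2
    have hx2' : c (c x) ≠ c x := fun h => hx1 (by
      have := congrArg (fun u => c (c u)) h
      simpa [hc3] using this)
    have hx3 : c (c x) ≠ x := fun h => hx1 (by
      have := congrArg c h
      rw [hc3] at this
      exact this.symm)
    have hz1x : c x ≠ z * x := fun h => by
      have h' := congrArg c h
      rw [hcm z x, hcz, h, hz'] at h'
      exact hx3 (h.symm ▸ h')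
    have hz2x : c (c x) ≠ z * x := fun h => by
      have h' := congrArg c h
      rw [hc3, hcm, hcz] at h'
      exact hz1x (by rw [← hz' (c x), ← h'])
    have hmemz : ∀ u ∈ F, z * u ∈ F := fun u hu => F.mul_mem hzF hu
    have hall : ∀ u ∈ F, u * u = 1 := by
      have hsq : ∀ u, u * u = 1 → c u * c u = 1 := fun u hu => by
        rw [← hcm, hu]; simp [hc]
      have hzsq : ∀ u, u * u = 1 → z * u * (z * u) = 1 := fun u hu => by
        calc z * u * (z * u) = z * (u * z) * u := by group
          _ = z * (z * u) * u := by rw [hzc u]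
          _ = 1 := by rw [hz', hu]
      intro u hu
      by_contra hu2
      set L : List C := [1, z, x, z * x, c x, z * c x, c (c x), z * c (c x)] with hL
      have hLsq : ∀ v ∈ L, v * v = 1 := by
        intro v hv
        simp only [hL, List.mem_cons, List.not_mem_nil, or_false] at hv
        rcases hv with rfl | rfl | rfl | rfl | rfl | rfl | rfl | rfl
        · simp
        · exact hz2
        · exact hx2
        · exact hzsq _ hx2
        · exact hsq _ hx2
        · exact hzsq _ (hsq _ hx2)
        · exact hsq _ (hsq _ hx2)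
        · exact hzsq _ (hsq _ (hsq _ hx2))
      have hLF : ∀ v ∈ L, v ∈ F := by
        intro v hv
        simp only [hL, List.mem_cons, List.not_mem_nil, or_false] at hv
        rcases hv with rfl | rfl | rfl | rfl | rfl | rfl | rfl | rfl
        exacts [F.one_mem, hzF, hx, hmemz _ hx, hcF _ hx, hmemz _ (hcF _ hx), hcF _ (hcF _ hx),
          hmemz _ (hcF _ (hcF _ hx))]
      have hne1 : ∀ v, v ≠ 1 → c v ≠ 1 := fun v hv h => hv (by
        have := congrArg (fun u => c (c u)) h
        simpa [hc3, hc] using this)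
      have hnez : ∀ v, v ≠ z → c v ≠ z := fun v hv h => hv (by
        have := congrArg (fun u => c (c u)) h
        simpa [hc3, hcz] using this)
      have hzne1 : ∀ v, v ≠ z → z * v ≠ 1 := fun v hv h => hv (by
        rw [eq_inv_of_mul_eq_one_right h]; exact inv_eq_of_mul_eq_one_left hz2)
      have hznez : ∀ v, v ≠ 1 → z * v ≠ z := fun v hv h => hv (by simpa using h)
      have hzv : ∀ v, z * v ≠ v := fun v h => hz1 (by simpa using h)
      have hnd : L.Nodup := by
        have a1 := hne1 x hne.1
        have a2 := hne1 _ a1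
        have b1 := hnez x hne.2
        have b2 := hnez _ b1
        have i1 : ∀ a b : C, a ≠ b → z * a ≠ z * b := fun a b h h' => h (mul_left_cancel h')
        have i2 : ∀ a b : C, a ≠ z * b → z * a ≠ b := fun a b h h' => h (by rw [← h', hz'])
        have hz12 : c (c x) ≠ z * c x := fun h => by
          have h' := congrArg (fun u => c (c u)) h
          simp only [hcm, hcz, hc3] at h'
          exact hz1x h'
        simp only [hL, List.nodup_cons, List.mem_cons, List.not_mem_nil, or_false, not_or,
          not_false_iff, List.nodup_nil, and_true]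
        refine ⟨⟨hz1.symm, hne.1.symm, hzx.1.symm, a1.symm, (hzne1 _ b1).symm, a2.symm,
            (hzne1 _ b2).symm⟩,
          ⟨hne.2.symm, hzx.2.symm, b1.symm, (hznez _ a1).symm, b2.symm, (hznez _ a2).symm⟩,
          ⟨(hzv x).symm, hx1.symm, (i2 _ _ hz1x).symm, hx3.symm, (i2 _ _ hz2x).symm⟩,
          ⟨i2 _ _ (i2 _ _ hz1x).symm, (i1 _ _ hx1.symm), i2 _ _ (i2 _ _ hz2x).symm,
            i1 _ _ hx3.symm⟩,
          ⟨(hzv _).symm, hx2'.symm, (i2 _ _ hz12).symm⟩,
          ⟨i2 _ _ (i2 _ _ hz12).symm, i1 _ _ hx2'.symm⟩, (hzv _).symm⟩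
      have hcardL : (insert u L.toFinset).card ≤ Nat.card F := by
        rw [← Nat.card_eq_finsetCard]
        refine Nat.card_le_card_of_injective (fun v => (⟨v.1, ?_⟩ : F))
          fun a b h => Subtype.ext (by simpa using h)
        rcases Finset.mem_insert.1 v.2 with h | h
        · rw [h]; exact hu
        · exact hLF _ (List.mem_toFinset.1 h)
      rw [Finset.card_insert_of_notMem (fun h => hu2 (hLsq u (List.mem_toFinset.1 h))),
        List.toFinset_card_of_nodup hnd, hF8] at hcardL
      simp [hL] at hcardL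
    have hFcomm : ∀ a ∈ F, ∀ b ∈ F, a * b = b * a := fun a ha b hb => by
      have i : ∀ v ∈ F, v⁻¹ = v := fun v hv => inv_eq_of_mul_eq_one_left (hall v hv)
      rw [← i _ (F.mul_mem ha hb), mul_inv_rev, i a ha, i b hb]
    let ψ : F →* F := MonoidHom.mk' (fun u => ⟨(u : C) * (s * u * s⁻¹),
      F.mul_mem u.2 (hnormal.conj_mem _ u.2 s)⟩) fun a b => Subtype.ext (by
        show (a : C) * b * (s * (a * b) * s⁻¹) = a * (s * a * s⁻¹) * (b * (s * b * s⁻¹))
        calc (a : C) * b * (s * (a * b) * s⁻¹) = a * (b * (s * a * s⁻¹)) * (s * b * s⁻¹) := by group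
          _ = _ := by rw [hFcomm b b.2 _ (hnormal.conj_mem _ a.2 s)]; group)
    have hk : ∀ u : ψ.ker, s * ((u : F) : C) * s⁻¹ = ((u : F) : C) := by
      intro u
      have h : ((u : F) : C) * (s * ((u : F) : C) * s⁻¹) = 1 := congrArg Subtype.val u.2
      rw [eq_inv_of_mul_eq_one_right h]
      exact inv_eq_of_mul_eq_one_left (hall _ (u : F).2)
    have hrk : ψ.range ≤ ψ.ker := by
      rintro _ ⟨u, rfl⟩
      refine Subtype.ext ?_
      show (u : C) * (s * u * s⁻¹) * (s * ((u : C) * (s * u * s⁻¹)) * s⁻¹) = 1
      have hss : s⁻¹ = s := inv_eq_of_mul_eq_one_left hs2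
      have h1 : s * ((u : C) * (s * u * s⁻¹)) * s⁻¹ = s * u * s⁻¹ * u := by
        calc s * ((u : C) * (s * u * s⁻¹)) * s⁻¹ = s * u * s * u * (s⁻¹ * s⁻¹) := by group
          _ = s * u * s⁻¹ * u := by rw [hss, hs2, mul_one]
      rw [h1]
      calc (u : C) * (s * u * s⁻¹) * (s * u * s⁻¹ * u)
          = (u : C) * (s * ((u : C) * u) * s⁻¹) * u := by group
        _ = 1 := by rw [hall _ u.2]; simp [hall _ u.2]
    have hk4 : 4 ≤ Nat.card ψ.ker := by
      have h1 := ψ.ker.card_mul_index
      rw [Subgroup.index_ker, hF8] at h1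
      have h2 := Subgroup.card_dvd_of_le hrk
      have h3 : Nat.card ψ.ker ∣ 8 := hF8 ▸ ψ.ker.card_subgroup_dvd_card
      have h4 := Nat.le_of_dvd Nat.card_pos h2
      have h5 := Nat.mul_le_mul_left (Nat.card ψ.ker) h4
      rw [h1] at h5
      generalize Nat.card ψ.ker = k at *
      have : k ≤ 8 := Nat.le_of_dvd (by norm_num) h3
      interval_cases k <;> first | omega | norm_num at h3
    have hsF : s ∉ F := by
      intro hsF
      have hle : F ≤ Subgroup.centralizer ({s} : Set C) := fun v hv =>
        Subgroup.mem_centralizer_singleton_iff.2 (hFcomm v hv s hsF)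
      have := Subgroup.card_le_of_le hle
      rw [hF8, hs4] at this
      omega
    have h5 : Nat.card (Option ψ.ker) ≤ Nat.card (Subgroup.centralizer ({s} : Set C)) := by
      refine Nat.card_le_card_of_injective (fun o => o.elim
        ⟨s, Subgroup.mem_centralizer_singleton_iff.2 rfl⟩
        fun u => ⟨((u : F) : C), Subgroup.mem_centralizer_singleton_iff.2
          (mul_inv_eq_iff_eq_mul.1 (hk u)).symm⟩) ?_
      rintro (_ | a) (_ | b) h
      · rfl
      · have h' : s = ((b : F) : C) := congrArg Subtype.val h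
        exact (hsF (h' ▸ (b : F).2)).elim
      · have h' : ((a : F) : C) = s := congrArg Subtype.val h
        exact (hsF (h' ▸ (a : F).2)).elim
      · have h' : ((a : F) : C) = ((b : F) : C) :=
          congrArg (fun v : Subgroup.centralizer ({s} : Set C) => (v : C)) h
        exact congrArg _ (Subtype.ext (Subtype.ext h'))
    rw [hs4, Finite.card_option] at h5
    omega
  -- quaternion
  have huniq2 : ∀ H K : Subgroup F, Nat.card H = 2 → Nat.card K = 2 → H = K := by
    have hH : ∀ H : Subgroup F, Nat.card H = 2 → H = Subgroup.zpowers (⟨z, hzF⟩ : F) := by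
      intro H hH
      obtain ⟨x, hx⟩ := exists_prime_orderOf_dvd_card' (G := H) 2 (by rw [hH])
      have hx2 : ((x : F) : C) * ((x : F) : C) = 1 := by
        have := pow_orderOf_eq_one x
        rw [hx, sq] at this
        exact congrArg (fun v : H => ((v : F) : C)) this
      rcases huniq _ (x : F).2 hx2 with h | h
      · exfalso
        have : x = 1 := Subtype.ext (Subtype.ext h)
        rw [this, orderOf_one] at hx
        norm_num at hx
      · refine (Subgroup.eq_of_le_of_card_ge (Subgroup.zpowers_le.2 ?_) ?_).symm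
        · rw [show (⟨z, hzF⟩ : F) = (x : F) from Subtype.ext h.symm]; exact x.2
        · rw [hH, Nat.card_zpowers, ← Subgroup.orderOf_coe, hzo]
    intro H K h1 h2
    rw [hH H h1, hH K h2]
  obtain ⟨n, hn, ⟨e0⟩⟩ : ∃ n, n = 1 ∧ Nonempty (F ≃* QuaternionGroup (2 ^ n)) := by
    rcases CfsgLib.Core.UniqueOrderP.isCyclic_or_quaternion_of_unique hF2 huniq2 with hcyc | ⟨-, n, he⟩
    · exfalso
      obtain ⟨g, hg⟩ := hcyc.exists_generator
      have hgo : orderOf (g : C) = 8 := by
        rw [Subgroup.orderOf_coe, orderOf_eq_card_of_forall_mem_zpowers hg, hF8]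
      obtain ⟨k, hk⟩ := Subgroup.mem_zpowers_iff.1 (hg ⟨w * g * w⁻¹, hnormal.conj_mem _ g.2 w⟩)
      have hk' : w * (g : C) * w⁻¹ = (g : C) ^ k := by
        have := congrArg Subtype.val hk
        rw [Subgroup.coe_zpow] at this
        exact this.symm
      have hw3 : w * w * w = 1 := by
        have h := pow_orderOf_eq_one w
        rw [hw, pow_succ, sq] at h
        exact h
      have hpow : (g : C) ^ (k * k * k) = g := by
        have hit : ∀ v : ℤ, w * (g : C) ^ v * w⁻¹ = (g : C) ^ (k * v) := fun v => by
          rw [← conj_zpow, hk', ← zpow_mul]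
        rw [show k * k * k = k * (k * k) by ring, ← hit, ← hit, ← hk']
        calc w * (w * (w * (g : C) * w⁻¹) * w⁻¹) * w⁻¹ = w * w * w * g * (w * w * w)⁻¹ := by group
          _ = g := by rw [hw3]; simp
      have hmod : (k * k * k - 1) % 8 = 0 := by
        have h : (g : C) ^ (k * k * k - 1) = 1 := by rw [zpow_sub_one, hpow, mul_inv_cancel]
        have := orderOf_dvd_iff_zpow_eq_one.2 h
        rw [hgo] at this
        exact Int.emod_eq_zero_of_dvd (by simpa using this)
      have hk1 : (k - 1) % 8 = 0 := by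
        have key : ∀ a : ZMod 8, a * a * a - 1 = 0 → a - 1 = 0 := by decide
        have h := key (k : ZMod 8) (by
          have := (ZMod.intCast_zmod_eq_zero_iff_dvd (k * k * k - 1) 8).2 (Int.dvd_of_emod_eq_zero hmod)
          push_cast at this
          exact this)
        have h' : ((k - 1 : ℤ) : ZMod 8) = 0 := by push_cast; exact h
        exact Int.emod_eq_zero_of_dvd ((ZMod.intCast_zmod_eq_zero_iff_dvd _ 8).1 h')
      have hgw : w * (g : C) * w⁻¹ = g := by
        rw [hk']
        have h : (g : C) ^ (k - 1) = 1 := orderOf_dvd_iff_zpow_eq_one.1 (by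
          rw [hgo]; exact Int.dvd_of_emod_eq_zero (by simpa using hk1))
        rw [zpow_sub_one, mul_inv_eq_one] at h
        exact h
      have hle : Subgroup.zpowers (g : C) ≤ Subgroup.centralizer ({w} : Set C) :=
        Subgroup.zpowers_le.2 (Subgroup.mem_centralizer_singleton_iff.2 (mul_inv_eq_iff_eq_mul.1 hgw).symm)
      have := Subgroup.card_dvd_of_le hle
      rw [Nat.card_zpowers, hgo, hw6] at this
      norm_num at this
    · obtain ⟨e⟩ := he
      refine ⟨n, ?_, ⟨e⟩⟩
      have h := Nat.card_congr e.toEquiv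
      haveI : NeZero (2 ^ n) := ⟨(Nat.two_pow_pos n).ne'⟩
      rw [hF8, Nat.card_eq_fintype_card, QuaternionGroup.card] at h
      have h2 : 2 ^ n = 2 ^ 1 := by omega
      exact Nat.pow_right_injective le_rfl h2
  subst hn
  let e : QuaternionGroup 2 ≃* F := e0.symm
  -- `F` contains its centralizer
  have hcentF : Subgroup.centralizer (F : Set C) ≤ F := by
    set K := Subgroup.centralizer (F : Set C) with hK
    have hKn : K.Normal := inferInstanceAs (Subgroup.centralizer (F : Set C)).Normal
    have hwK : w ∈ Subgroup.normalizer (K : Set C) := by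
      rw [Subgroup.normalizer_eq_top_iff.2 hKn]; exact Subgroup.mem_top w
    have hzK : z ∈ K := Subgroup.mem_centralizer_iff.2 fun v _ => hzc v
    have h3 : ¬ 3 ∣ Nat.card K := by
      intro h3
      obtain ⟨v, hv⟩ := exists_prime_orderOf_dvd_card' (G := K) 3 h3
      have hle : F ≤ Subgroup.centralizer ({(v : C)} : Set C) := fun a ha =>
        Subgroup.mem_centralizer_singleton_iff.2 (Subgroup.mem_centralizer_iff.1 v.2 a ha)
      have h8 := Subgroup.card_dvd_of_le hle
      have h3' : 3 ∣ Nat.card (Subgroup.centralizer ({(v : C)} : Set C)) :=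
        (Subgroup.orderOf_coe v ▸ hv) ▸ Subgroup.orderOf_dvd_natCard _
          (Subgroup.mem_centralizer_singleton_iff.2 (rfl : (v : C) * v = v * v))
      rw [hF8] at h8
      rcases hcases (v : C) with h | h | h | h | h
      · rw [show v = 1 from Subtype.ext h, orderOf_one] at hv; norm_num at hv
      · rw [← Subgroup.orderOf_coe, h, hzo] at hv; norm_num at hv
      · rw [h] at h8; norm_num at h8
      · rw [h] at h8; norm_num at h8
      · rw [h] at h3'; norm_num at h3'
    have hdvd : Nat.card K ∣ 16 := by
      have hco : Nat.Coprime (Nat.card K) 3 := (Nat.prime_three.coprime_iff_not_dvd.2 h3).symm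
      refine hco.dvd_of_dvd_mul_right ?_
      rw [show 16 * 3 = Nat.card C by rw [hC]]
      exact K.card_subgroup_dvd_card
    have hK2 : IsPGroup 2 K := by
      obtain ⟨k, -, hk⟩ := (Nat.dvd_prime_pow Nat.prime_two).1 (show Nat.card K ∣ 2 ^ 4 by simpa using hdvd)
      exact IsPGroup.of_card hk
    have hmod := card_mod_three_of_fixed hz1 (hzc w) hw K hzK hwK (hfix K hK2 hzK)
    have hint : Nat.card ↥(F ⊓ K) ≤ 2 := by
      rw [show 2 = Nat.card {q : QuaternionGroup 2 // ∀ r, q * r = r * q} by
        rw [Nat.card_eq_fintype_card]; decide]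
      refine Nat.card_le_card_of_injective (fun v => ⟨e.symm ⟨v, v.2.1⟩, fun r => ?_⟩) ?_
      · refine e.injective ?_
        rw [map_mul, map_mul, e.apply_symm_apply]
        exact Subtype.ext (Subgroup.mem_centralizer_iff.1 v.2.2 _ (e r).2).symm
      · intro a b h
        have := e.symm.injective (congrArg Subtype.val h)
        exact Subtype.ext (congrArg (fun u : F => (u : C)) this)
    have hprod : Nat.card K * 8 ≤ 96 := by
      have h1 := (F ⊓ K).subgroupOf K |>.card_mul_index
      have h2 : ((F ⊓ K).subgroupOf K).index ≤ 6 := by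
        have : F.index = 6 := by
          have := F.card_mul_index
          rw [hF8, hC] at this
          omega
        rw [← this]
        calc ((F ⊓ K).subgroupOf K).index = F.relIndex K := by
              rw [Subgroup.relIndex, Subgroup.inf_subgroupOf_right]
          _ ≤ F.index := by
              rw [← Subgroup.relIndex_top_right]
              exact Subgroup.relIndex_le_of_le_right le_top (by
                rw [Subgroup.relIndex_top_right]; exact Subgroup.index_ne_zero_of_finite)
      rw [Nat.card_congr (Subgroup.subgroupOfEquivOfLe (inf_le_right : F ⊓ K ≤ K)).toEquiv] at h1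
      have := Nat.mul_le_mul hint h2
      omega
    have hK2' : Nat.card K = 2 ∨ Nat.card K = 8 := by
      have key : ∀ d ∈ Nat.divisors 16, d % 3 = 2 → d = 2 ∨ d = 8 := by decide
      exact key _ (Nat.mem_divisors.2 ⟨hdvd, by norm_num⟩) hmod
    rcases hK2' with h | h
    · intro v hv
      have heq := Subgroup.eq_of_le_of_card_ge (Subgroup.zpowers_le.2 hzK)
        (by rw [h, Nat.card_zpowers, hzo])
      exact Subgroup.zpowers_le.2 hzF (heq.symm ▸ hv : v ∈ Subgroup.zpowers z)
    · -- then `K` and `F` would generate a `2`-group of order above sixteen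
      exfalso
      have hSK : ∀ P : Sylow 2 C, K ≤ P := fun P => hK2.le_sylow_of_normal P
      have hFK : K ≤ F := le_inf (hSK S) (hSK T)
      rw [show F ⊓ K = K from inf_eq_right.2 hFK, h] at hint
      omega
  have hsF : s ∉ F := by
    intro hsF
    rcases huniq s hsF hs2 with h | h
    · rw [h, show Subgroup.centralizer ({(1 : C)} : Set C) = ⊤ from
        Subgroup.ext fun g => by simp [Subgroup.mem_centralizer_singleton_iff], Subgroup.card_top, hC] at hs4
      norm_num at hs4
    · rw [h, hcard, hβz, els_card_central] at hs4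
      norm_num at hs4
  have := hnormal
  obtain ⟨e', y, hy3, hyF, hy, hs'⟩ := CfsgLib.GLTwoThree.exists_frame e hcentF (by rw [hC]; norm_num)
    hsF fun v => by rw [hs2, map_one, MulAut.one_apply]
  exact CfsgLib.GLTwoThree.glTwoThree_of_frame e' hcentF hy3 hyF hsF hy hs' hC hs2

end CfsgLib.Blocks.GLTwoThreeCentralizer
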