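import Mathlib
import Cfsg.Agent.Lib.Blocks.GLTwoThreeCentralizer.Reps
import Cfsg.Agent.Lib.Transfer.ThompsonTransfer
import Cfsg.Agent.Lib.Signalizer.OrderFormula

/-!
# A simple group with an involution centralizer isomorphic to `GL(2,3)`: the involutions
-/

set_option autoImplicit false

namespace CfsgLib.Blocks.GLTwoThreeCentralizer

open scoped Classical

variable {G : Type*} [Group G] {t : G}
variable (e : Subgroup.centralizer ({t} : Set G) ≃* GLT)

/-- The entries of an element of the centralizer. -/
def ct (x : Subgroup.centralizer ({t} : Set G)) : Qd := tup (e x)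

theorem ct_mul (x y : Subgroup.centralizer ({t} : Set G)) : ct e (x * y) = qmul (ct e x) (ct e y) := by
  simp [ct, tup_mul]

theorem ct_one : ct e 1 = qone := by simp [ct, tup_one]

theorem ct_injective : Function.Injective (ct e) := fun _ _ h => e.injective (tup_injective h)

theorem ct_mem (x : Subgroup.centralizer ({t} : Set G)) : ct e x ∈ els := tup_mem _

theorem exists_ct {p : Qd} (hp : p ∈ els) : ∃ x, ct e x = p := by
  obtain ⟨A, hA⟩ := exists_tup hp
  exact ⟨e.symm A, by simp [ct, hA]⟩

/-- The given involution, inside its centralizer. -/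
def tC (t : G) : Subgroup.centralizer ({t} : Set G) :=
  ⟨t, Subgroup.mem_centralizer_singleton_iff.2 rfl⟩

theorem tC_commute (x : Subgroup.centralizer ({t} : Set G)) : tC t * x = x * tC t :=
  Subtype.ext (Subgroup.mem_centralizer_singleton_iff.1 x.2).symm

variable (ht : orderOf t = 2)

include ht in
theorem tC_ne_one : tC t ≠ 1 := fun h => by
  have : t = 1 := congrArg Subtype.val h
  rw [this, orderOf_one] at ht
  norm_num at ht

include ht in
theorem ct_t : ct e (tC t) = qneg := by
  refine (central_eq _ (ct_mem e _) fun q hq => ?_).resolve_left fun h =>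
    tC_ne_one ht (ct_injective e (h.trans (ct_one e).symm))
  obtain ⟨x, rfl⟩ := exists_ct e hq
  rw [← ct_mul, ← ct_mul, tC_commute]

include ht in
theorem ct_mem_invs {x : Subgroup.centralizer ({t} : Set G)} (hx : orderOf (x : G) = 2) :
    ct e x ∈ invs := by
  refine Finset.mem_filter.2 ⟨ct_mem e x, fun h => ?_, ?_⟩
  · have : x = 1 := ct_injective e (h.trans (ct_one e).symm)
    rw [this, Subgroup.coe_one, orderOf_one] at hx
    norm_num at hx
  · rw [← ct_mul, ← ct_one e]
    congr 1
    refine Subtype.ext ?_
    rw [Subgroup.coe_mul, Subgroup.coe_one, ← sq, ← hx, pow_orderOf_eq_one]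

theorem orderOf_of_mem_invs {x : Subgroup.centralizer ({t} : Set G)} (hx : ct e x ∈ invs) :
    orderOf (x : G) = 2 := by
  obtain ⟨-, h1, h2⟩ := Finset.mem_filter.1 hx
  refine orderOf_eq_prime ?_ fun h => h1 ?_
  · rw [sq]
    exact congrArg Subtype.val (ct_injective e ((ct_mul e x x).trans (h2.trans (ct_one e).symm)))
  · rw [show x = 1 from Subtype.ext h, ct_one]

theorem card_GLT : Nat.card GLT = 48 := by
  have : Fact (Nat.Prime 3) := ⟨Nat.prime_three⟩
  rw [Matrix.card_GL_field]
  simp [Fin.prod_univ_two]

include e in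
theorem card_centralizer : Nat.card (Subgroup.centralizer ({t} : Set G)) = 48 :=
  (Nat.card_congr e.toEquiv).trans card_GLT

variable [Finite G]

include e ht in
/-- A Sylow `2`-subgroup of the centralizer is one of the group. -/
theorem exists_sylow_le :
    ∃ P : Sylow 2 G, Nat.card (P : Subgroup G) = 16 ∧
      (P : Subgroup G) ≤ Subgroup.centralizer ({t} : Set G) := by
  set C := Subgroup.centralizer ({t} : Set G) with hCdef
  have : Fact (Nat.Prime 2) := ⟨Nat.prime_two⟩
  let S : Sylow 2 C := default
  have hScard : Nat.card (S : Subgroup C) = 16 := by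
    rw [S.card_eq_multiplicity, card_centralizer e]
    rw [show (48 : ℕ).factorization 2 = 4 from by
      rw [show (48 : ℕ) = 2 ^ 4 * 3 by norm_num,
        Nat.factorization_mul (by norm_num) (by norm_num)]
      simp only [Finsupp.coe_add, Pi.add_apply]
      rw [Nat.Prime.factorization_pow Nat.prime_two,
        Nat.factorization_eq_zero_of_not_dvd (by norm_num : ¬ 2 ∣ 3)]
      simp]
    norm_num
  obtain ⟨P, hP⟩ := (S.2.map C.subtype).exists_le_sylow
  set S0 := (S : Subgroup C).map C.subtype with hS0
  have hS0card : Nat.card S0 = 16 := by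
    rw [hS0, Subgroup.card_map_of_injective C.subtype_injective, hScard]
  have htS : t ∈ S0 := by
    have hn : (Subgroup.zpowers (tC t)).Normal := ⟨fun a ha g => by
      obtain ⟨k, rfl⟩ := Subgroup.mem_zpowers_iff.1 ha
      have hc : Commute g (tC t) := (tC_commute g).symm
      rw [(hc.zpow_right k).eq, mul_inv_cancel_right]
      exact Subgroup.zpow_mem _ (Subgroup.mem_zpowers _) k⟩
    have hp : IsPGroup 2 (Subgroup.zpowers (tC t)) := IsPGroup.of_card (n := 1) (by
      rw [Nat.card_zpowers, ← Subgroup.orderOf_coe]; simpa [tC] using ht)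
    exact ⟨tC t, hp.le_sylow_of_normal S (Subgroup.mem_zpowers _), rfl⟩
  refine ⟨P, ?_⟩
  have hle : (P : Subgroup G) ≤ S0 := by
    by_contra hcon
    have hlt : S0.subgroupOf (P : Subgroup G) < ⊤ := by
      rw [lt_top_iff_ne_top, Ne, Subgroup.subgroupOf_eq_top]
      exact hcon
    have := IsPGroup.isNilpotent P.2
    obtain ⟨g, hgN, hgS⟩ := SetLike.exists_of_lt (Group.normalizerCondition_of_isNilpotent _ hlt)
    have hconj : ∀ y ∈ S0, (g : G) * y * (g : G)⁻¹ ∈ S0 := fun y hy => by
      have h := (Subgroup.mem_normalizer_iff.1 hgN ⟨y, hP hy⟩).1 (Subgroup.mem_subgroupOf.2 hy)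
      simpa [Subgroup.mem_subgroupOf] using h
    obtain ⟨x, hxS, hx⟩ := hconj t htS
    have hxo : orderOf (x : G) = 2 := by
      have : (x : G) = MulAut.conj (g : G) t := hx
      rw [this, MulEquiv.orderOf_eq, ht]
    rcases noncentral_centralizer _ (ct_mem_invs e ht hxo) with h | h
    · apply hgS
      rw [Subgroup.mem_subgroupOf]
      have hxt : x = tC t := ct_injective e (h.trans (ct_t e ht).symm)
      have hgC : (g : G) ∈ C := by
        rw [hCdef, Subgroup.mem_centralizer_singleton_iff]
        have : (g : G) * t * (g : G)⁻¹ = t := by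
          have h' : (x : G) = t := by rw [hxt]; rfl
          exact hx.symm.trans h'
        calc (g : G) * t = (g : G) * t * (g : G)⁻¹ * g := by group
          _ = t * g := by rw [this]
      have hmem : (⟨g, hgC⟩ : C) ∈ (S : Subgroup C) := by
        have hP' : IsPGroup 2 ((P : Subgroup G).subgroupOf C) :=
          P.2.comap_of_injective C.subtype C.subtype_injective
        have hSP : (S : Subgroup C) ≤ (P : Subgroup G).subgroupOf C := fun y hy =>
          Subgroup.mem_subgroupOf.2 (hP ⟨y, hy, rfl⟩)
        rw [← S.3 hP' hSP]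
        exact Subgroup.mem_subgroupOf.2 g.2
      exact ⟨_, hmem, rfl⟩
    · have hsub : (Finset.univ.filter fun y : Qd => ∃ z ∈ (S : Subgroup C), ct e z = y) ⊆
          els.filter fun p => qmul p (ct e x) = qmul (ct e x) p := by
        intro y hy
        obtain ⟨z, hz, rfl⟩ := (Finset.mem_filter.1 hy).2
        refine Finset.mem_filter.2 ⟨ct_mem e z, ?_⟩
        rw [← ct_mul, ← ct_mul]
        congr 1
        refine Subtype.ext ?_
        -- `x` is the image of the central involution under an automorphism of `S0`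
        have hz' : (g : G)⁻¹ * (z : G) * (g : G) ∈ S0 := by
          have hgi := Subgroup.inv_mem _ hgN
          have hh := (Subgroup.mem_normalizer_iff.1 hgi ⟨(z : G), hP ⟨z, hz, rfl⟩⟩).1
            (Subgroup.mem_subgroupOf.2 ⟨z, hz, rfl⟩)
          simpa [Subgroup.mem_subgroupOf] using hh
        obtain ⟨w, -, hw⟩ := hz'
        have hwc : (w : G) * t = t * w := congrArg Subtype.val (tC_commute w).symm
        have hz'' : (z : G) = (g : G) * w * (g : G)⁻¹ := by
          rw [show (w : G) = (g : G)⁻¹ * z * g from hw]; group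
        have hxv : (x : G) = (g : G) * t * (g : G)⁻¹ := hx
        rw [Subgroup.coe_mul, Subgroup.coe_mul, hz'', hxv]
        calc _ = (g : G) * ((w : G) * t) * (g : G)⁻¹ := by group
          _ = _ := by rw [hwc]; group
      have hcard := Finset.card_le_card hsub
      rw [h] at hcard
      have h16 : (Finset.univ.filter fun y : Qd => ∃ z ∈ (S : Subgroup C), ct e z = y).card = 16 := by
        let _ : Fintype (S : Subgroup C) := Fintype.ofFinite _
        rw [← hScard, Nat.card_eq_fintype_card, ← Finset.card_univ,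
          ← Finset.card_image_of_injective _ ((ct_injective e).comp Subtype.val_injective)]
        congr 1
        ext y
        simp only [Finset.mem_filter, Finset.mem_univ, true_and, Finset.mem_image, Function.comp_apply]
        exact ⟨fun ⟨z, hz, hzy⟩ => ⟨⟨z, hz⟩, hzy⟩, fun ⟨z, hzy⟩ => ⟨z, z.2, hzy⟩⟩
      omega
  have heq : (P : Subgroup G) = S0 := le_antisymm hle hP
  exact ⟨by rw [heq, hS0card], by rw [heq]; exact Subgroup.map_subtype_le _⟩

include e ht in
theorem card_mod : Nat.card G % 32 = 16 := by
  have : Fact (Nat.Prime 2) := ⟨Nat.prime_two⟩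
  obtain ⟨P, hP, -⟩ := exists_sylow_le e ht
  have h := (P : Subgroup G).card_mul_index
  have hodd := P.not_dvd_index
  rw [hP] at h
  omega

/-- The determinant of an element of the centralizer. -/
noncomputable def detC : Subgroup.centralizer ({t} : Set G) →* (ZMod 3)ˣ :=
  Matrix.GeneralLinearGroup.det.comp e.toMonoidHom

theorem card_range_units {A : Type*} [Group A] (f : A →* (ZMod 3)ˣ) :
    Nat.card f.range = 1 ∨ Nat.card f.range = 2 := by
  have : Fact (Nat.Prime 3) := ⟨Nat.prime_three⟩
  have h := Subgroup.card_subgroup_dvd_card f.range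
  rw [show Nat.card (ZMod 3)ˣ = 2 by
    rw [Nat.card_eq_fintype_card, ZMod.card_units]] at h
  exact (Nat.dvd_prime Nat.prime_two).1 h

include e ht in
/-- All involutions are conjugate when no normal subgroup has index two. -/
theorem isConj_t_of_no_index_two (hidx : ∀ M : Subgroup G, M.Normal → M.index ≠ 2) {x : G}
    (hx : orderOf x = 2) : IsConj t x := by
  set C := Subgroup.centralizer ({t} : Set G)
  have : Fact (Nat.Prime 2) := ⟨Nat.prime_two⟩
  obtain ⟨P, hPcard, hPC⟩ := exists_sylow_le e ht
  set K := (detC e).ker.map C.subtype with hK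
  have hdet : ∀ y : C, qdet (ct e y) = ((detC e y : (ZMod 3)ˣ) : ZMod 3) := fun y => by
    rw [ct, qdet_tup]; rfl
  have hKmem : ∀ (y : C), (y : G) ∈ K ↔ qdet (ct e y) = 1 := fun y => by
    rw [hdet, Units.val_eq_one, ← MonoidHom.mem_ker, hK]
    exact Subgroup.mem_map_iff_mem C.subtype_injective
  let ψ : (P : Subgroup G) →* (ZMod 3)ˣ := (detC e).comp (Subgroup.inclusion hPC)
  have hker : K.subgroupOf (P : Subgroup G) = ψ.ker := by
    ext y
    rw [Subgroup.mem_subgroupOf, MonoidHom.mem_ker, hK]
    exact (Subgroup.mem_map_iff_mem C.subtype_injective (x := Subgroup.inclusion hPC y))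
  have hne : ψ.range ≠ ⊥ := by
    intro h
    rw [MonoidHom.range_eq_bot_iff] at h
    have hle : (P : Subgroup G) ≤ K := fun y hy => by
      have h1 : (⟨y, hy⟩ : (P : Subgroup G)) ∈ ψ.ker := by rw [h]; simp
      rw [← hker, Subgroup.mem_subgroupOf] at h1
      exact h1
    have hd := Subgroup.card_dvd_of_le hle
    rw [hPcard, hK, Subgroup.card_map_of_injective C.subtype_injective] at hd
    have hd2 := (detC e).ker.card_mul_index
    rw [card_centralizer e, Subgroup.index_ker] at hd2
    have hsurj : Nat.card (detC e).range = 2 := by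
      rcases card_range_units (detC e) with h1 | h1
      · exfalso
        obtain ⟨y, hy⟩ := exists_ct e (Finset.mem_filter.1 reflection_mem.1).1
        have hbot := Subgroup.card_eq_one.1 h1
        rw [MonoidHom.range_eq_bot_iff] at hbot
        apply reflection_mem.2
        rw [← hy, hdet, hbot]
        simp
      · exact h1
    rw [hsurj] at hd2
    exact absurd ((mul_dvd_mul_right hd 2).trans (dvd_of_eq hd2)) (by norm_num)
  have hrel : K.relIndex (P : Subgroup G) = 2 := by
    show (K.subgroupOf (P : Subgroup G)).index = 2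
    rw [hker, Subgroup.index_ker]
    rcases card_range_units ψ with h1 | h1
    · exact absurd (Subgroup.card_eq_one.1 h1) hne
    · exact h1
  obtain ⟨u, hu⟩ := exists_ct e (Finset.mem_filter.1 reflection_mem.1).1
  have huo : orderOf (u : G) = 2 := orderOf_of_mem_invs e (hu ▸ reflection_mem.1)
  have hut : IsConj t (u : G) := by
    rcases CfsgLib.Transfer.thompson_transfer P K hrel huo with ⟨M, hM, hM2, -⟩ | ⟨g, hg⟩
    · exact absurd hM2 (hidx M hM)
    · obtain ⟨y, -, hy⟩ := id hg
      have hyo : orderOf (y : G) = 2 := by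
        rw [show (y : G) = MulAut.conj g u from hy, MulEquiv.orderOf_eq, huo]
      have hdy : qdet (ct e y) = 1 := (hKmem y).1 (by rw [show (y : G) = _ from hy]; exact hg)
      have hyt : y = tC t :=
        ct_injective e ((det_one_involution _ (ct_mem_invs e ht hyo) hdy).trans (ct_t e ht).symm)
      refine (isConj_iff.2 ⟨g, ?_⟩ : IsConj (u : G) t).symm
      exact hy.symm.trans (by rw [hyt]; rfl)
  obtain ⟨Q, hQ⟩ := (IsPGroup.of_card (n := 1) (by rw [Nat.card_zpowers, hx]; norm_num) :
    IsPGroup 2 (Subgroup.zpowers x)).exists_le_sylow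
  obtain ⟨g, hg⟩ := MulAction.exists_smul_eq G Q P
  have hgx : g * x * g⁻¹ ∈ (P : Subgroup G) := by
    rw [← hg, Sylow.coe_subgroup_smul]
    exact Subgroup.smul_mem_pointwise_smul x (MulAut.conj g) _ (hQ (Subgroup.mem_zpowers x))
  have hconj : IsConj x (g * x * g⁻¹) := isConj_iff.2 ⟨g, rfl⟩
  refine IsConj.trans ?_ hconj.symm
  have hzo : orderOf (g * x * g⁻¹) = 2 := by
    rw [show g * x * g⁻¹ = MulAut.conj g x from rfl, MulEquiv.orderOf_eq, hx]
  set z : C := ⟨g * x * g⁻¹, hPC hgx⟩
  rcases noncentral_conj _ (ct_mem_invs e ht (x := z) hzo) with h | ⟨c, hc, hcz⟩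
  · rw [show g * x * g⁻¹ = t from congrArg Subtype.val (ct_injective e (h.trans (ct_t e ht).symm))]
  · obtain ⟨w, rfl⟩ := exists_ct e hc
    rw [← hu, ← ct_mul, ← ct_mul] at hcz
    have hw : (w : G) * u = g * x * g⁻¹ * w := congrArg Subtype.val (ct_injective e hcz)
    exact hut.trans (isConj_iff.2 ⟨w, by rw [hw, mul_inv_cancel_right]⟩)

include e ht in
/-- All involutions are conjugate. -/
theorem isConj_t [IsSimpleGroup G] {x : G} (hx : orderOf x = 2) : IsConj t x := by
  refine isConj_t_of_no_index_two e ht (fun M hM hM2 => ?_) hx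
  rcases IsSimpleGroup.eq_bot_or_eq_top_of_normal M hM with e1 | e1 <;> rw [e1] at hM2
  · rw [Subgroup.index_bot] at hM2
    have hmod := card_mod e ht
    omega
  · simp at hM2

end CfsgLib.Blocks.GLTwoThreeCentralizer
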