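import Mathlib
import Cfsg.Agent.Lib.Blocks.GLTwoThreeCentralizer.Local
import Cfsg.Agent.Lib.Blocks.GLTwoThreeCentralizer.Coef
import Cfsg.Agent.Lib.Char.Exceptional.TISet
import Cfsg.Agent.Lib.Char.Central

/-!
# The order of a simple group with an involution centralizer isomorphic to `GL(2,3)`

The five class functions induce isometrically; the two pair sums over the involutions give the order.
-/

set_option autoImplicit false

namespace CfsgLib.Blocks.GLTwoThreeCentralizer

open CfsgLib.Char CfsgLib.CharIntegral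
open scoped Classical ComplexConjugate

variable {G : Type*} [Group G] [Fintype G] [IsSimpleGroup G] {t : G}
variable (e : Subgroup.centralizer ({t} : Set G) ≃* GLT)

/-- The `i`th class function on the centralizer. -/
noncomputable def phi (i : Fin 5) : Subgroup.centralizer ({t} : Set G) → ℂ :=
  fun x => toC (fn i (ct e x))

/-- The elements having the involution as a power. -/
def specialSet (t : G) : Set G := {x | ∃ k : ℕ, x ^ k = t}

omit [Fintype G] [IsSimpleGroup G] in
theorem isGen_phi (i : Fin 5) :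
    Cfsg.IsGeneralizedCharacter (Subgroup.centralizer ({t} : Set G)) (phi e i) :=
  IsGen.comp e.toMonoidHom (isGen_fn i)

variable (ht : orderOf t = 2)

omit [IsSimpleGroup G] in
theorem pair_class_sum (χ : Cfsg.IrrCharacter G) (t g : G) :
    ∑ x ∈ classFinset t, (χ : G → ℂ) (x * g) =
      ((Subgroup.centralizer ({t} : Set G)).index : ℂ) * (χ : G → ℂ) t / (χ : G → ℂ) 1 *
        (χ : G → ℂ) g := by
  obtain ⟨n, ρ, hρ, hρc'⟩ := χ.2
  have hρc := hρc'.symm
  have := hρ
  rw [hρc]
  have h := congrArg (fun f : Module.End ℂ (Fin n → ℂ) => LinearMap.trace ℂ (Fin n → ℂ) (f * ρ g))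
    (classSum_eq_scalar ρ t)
  simp only [Finset.sum_mul, map_sum, ← map_mul] at h
  refine h.trans ?_
  rw [smul_mul_assoc, map_smul, smul_eq_mul, Representation.char_one]
  rfl

omit [IsSimpleGroup G] [Fintype G] in
theorem specialSet_subset : specialSet t ⊆ Subgroup.centralizer ({t} : Set G) := by
  rintro x ⟨k, hk⟩
  rw [SetLike.mem_coe, Subgroup.mem_centralizer_singleton_iff, ← hk, ← pow_succ', ← pow_succ]

include ht in
omit [IsSimpleGroup G] in
theorem specialSet_ti : ∀ g : G, g ∉ Subgroup.centralizer ({t} : Set G) →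
    ∀ s ∈ specialSet t, g * s * g⁻¹ ∉ specialSet t := by
  intro g hg s ⟨k, hk⟩ ⟨m, hm⟩
  apply hg
  have h1 : g * t * g⁻¹ ∈ Subgroup.zpowers (g * s * g⁻¹) := by
    rw [← hk, ← conj_pow]
    exact Subgroup.pow_mem _ (Subgroup.mem_zpowers _) _
  have h2 : t ∈ Subgroup.zpowers (g * s * g⁻¹) := by
    nth_rewrite 1 [← hm]
    exact Subgroup.pow_mem _ (Subgroup.mem_zpowers _) _
  have he : g * t * g⁻¹ = t := CfsgLib.Signalizer.unique_involution_in_zpowers h1 h2
    (by rw [show g * t * g⁻¹ = MulAut.conj g t from rfl, MulEquiv.orderOf_eq, ht]) ht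
  rw [Subgroup.mem_centralizer_singleton_iff]
  calc g * t = g * t * g⁻¹ * g := by group
    _ = t * g := by rw [he]

include ht in
omit [IsSimpleGroup G] [Fintype G] in
theorem specialSet_inv : ∀ s ∈ specialSet t, s⁻¹ ∈ specialSet t := by
  rintro s ⟨k, hk⟩
  refine ⟨k, ?_⟩
  rw [inv_pow, hk, inv_eq_iff_mul_eq_one, ← sq, ← ht, pow_orderOf_eq_one]

include ht in
omit [IsSimpleGroup G] [Fintype G] in
theorem phi_support (i : Fin 5) (x : Subgroup.centralizer ({t} : Set G))
    (hx : (x : G) ∉ specialSet t) : phi e i x = 0 := by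
  by_contra hne
  have hf : fn i (ct e x) ≠ 0 := fun h => hne (by rw [phi, h, map_zero])
  have hpow : ∀ k : ℕ, ct e (x ^ k) = qneg → False := fun k hk => hx ⟨k, by
    have := congrArg Subtype.val (ct_injective e (hk.trans (ct_t e ht).symm))
    simpa [tC] using this⟩
  rcases fn_support i _ (ct_mem e x) hf with h | h | h | h
  · exact hpow 1 (by rw [pow_one]; exact h)
  · exact hpow 2 (by rw [sq, ct_mul]; exact h)
  · exact hpow 3 (by rw [pow_succ', sq, ct_mul, ct_mul]; exact h)
  · exact hpow 4 (by rw [pow_succ', pow_succ', sq, ct_mul, ct_mul, ct_mul]; exact h)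

omit [Fintype G] [IsSimpleGroup G] in
theorem sum_ct [Fintype (Subgroup.centralizer ({t} : Set G))] (f : Qd → Rt) :
    ∑ x, toC (f (ct e x)) = toC (∑ p ∈ els, f p) := by
  have : Fintype GLT := Fintype.ofFinite _
  rw [← map_sum, ← sum_tup f]
  exact congrArg toC (Fintype.sum_equiv e.toEquiv _ _ fun x => rfl)

omit [IsSimpleGroup G] in
theorem inner_phi (i j : Fin 5) : Cfsg.classInner (phi e i) (phi e j) = (gram i j : ℂ) := by
  unfold Cfsg.classInner
  rw [card_centralizer e, Finset.sum_congr rfl (fun x _ => show phi e i x * conj (phi e j x) =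
      toC ((fun p => fn i p * star (fn j p)) (ct e x)) by rw [phi, phi, toC_star, map_mul]),
    sum_ct e (fun p => fn i p * star (fn j p)), fn_gram, map_intCast]
  push_cast
  ring

omit [IsSimpleGroup G] in
theorem inner_phi_one (i : Fin 5) :
    Cfsg.classInner (phi e i) (fun _ => (1 : ℂ)) = (means i : ℂ) := by
  unfold Cfsg.classInner
  simp only [map_one, mul_one]
  rw [card_centralizer e, Finset.sum_congr rfl (fun x _ => show phi e i x = toC (fn i (ct e x)) from rfl),
    sum_ct e, fn_means, map_intCast]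
  push_cast
  ring

include ht in
omit [IsSimpleGroup G] in
theorem coef_phi (χ : Cfsg.IrrCharacter G) :
    ∑ i, (coefAt i : ℂ) * Cfsg.classInner (phi e i)
      (fun x : Subgroup.centralizer ({t} : Set G) => (χ : G → ℂ) x) = conj ((χ : G → ℂ) t) := by
  unfold Cfsg.classInner
  rw [card_centralizer e]
  simp only [← mul_assoc, mul_comm _ ((48 : ℕ) : ℂ)⁻¹]
  simp only [mul_assoc, ← Finset.mul_sum]
  simp only [Finset.mul_sum _ _ (coefAt _ : ℂ), ← mul_assoc]
  rw [Finset.sum_comm]
  simp only [← Finset.sum_mul]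
  have hfun : ∀ x : Subgroup.centralizer ({t} : Set G),
      ∑ i, (coefAt i : ℂ) * phi e i x = if x = tC t then 48 else 0 := by
    intro x
    have h := congrArg toC (fn_coefAt _ (ct_mem e x))
    rw [map_sum] at h
    simp only [map_mul, map_intCast] at h
    refine h.trans ?_
    by_cases hx : x = tC t
    · rw [if_pos hx, if_pos (by rw [hx, ct_t e ht]), map_ofNat]
    · rw [if_neg hx, if_neg fun hc => hx (ct_injective e (hc.trans (ct_t e ht).symm)), map_zero]
  simp only [hfun, ite_mul, zero_mul, Finset.sum_ite_eq', Finset.mem_univ, if_true]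
  rw [← mul_assoc]
  norm_num
  rfl

include e ht in
theorem card_eq : Nat.card G = 5616 ∨ Nat.card G = 7920 := by
  have := Fintype.ofFinite (Cfsg.IrrCharacter G)
  set C := Subgroup.centralizer ({t} : Set G) with hC
  have hS := phi_support e ht
  have hcl : ∀ i, Cfsg.IsClassFunction C (phi e i) := fun i => IsGen.isClassFunction (isGen_phi e i)
  set F : Fin 5 → G → ℂ := fun i => Cfsg.indFun C (phi e i) with hF
  have hgen : ∀ i, Cfsg.IsGeneralizedCharacter G (F i) := fun i => IsGen.indFun (isGen_phi e i)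
  choose m hm using fun i => IsGen.exists_sum (hgen i)
  have hdot : ∀ i j, dotZ (m i) (m j) = gram i j := fun i j => by
    have h := Exceptional.ti_indFun_inner (specialSet_ti ht) (hS i) (hcl j) (hS j)
    rw [inner_phi e i j] at h
    change Cfsg.classInner (F i) (F j) = _ at h
    rw [hm i, hm j, classInner_sum_right] at h
    simp only [classInner_smul_right, classInner_sum_irr, map_intCast] at h
    rw [← Int.cast_inj (α := ℂ), ← h, dotZ]
    push_cast
    exact Finset.sum_congr rfl fun χ _ => mul_comm _ _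
  have hcoef : ∀ i χ, ((m i χ : ℤ) : ℂ) =
      Cfsg.classInner (phi e i) (fun x : C => (χ : Cfsg.IrrCharacter G).1 x) := fun i χ => by
    rw [← frobenius_reciprocity C (phi e i) (IsIrr.isClassFunction χ.2)]
    change _ = Cfsg.classInner (F i) _
    rw [hm i, classInner_sum_irr]
  have htriv : ∀ i, m i (trivChar G) = means i := fun i => by
    rw [← Int.cast_inj (α := ℂ), hcoef, ← inner_phi_one e i]
    rfl
  choose dN hdN0 hdN using fun χ : Cfsg.IrrCharacter G => IsIrr.exists_degree χ.2
  set d : Cfsg.IrrCharacter G → ℤ := fun χ => dN χ with hd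
  have hdC : ∀ χ : Cfsg.IrrCharacter G, (χ : G → ℂ) 1 = (d χ : ℂ) := fun χ => by simp [hd, hdN χ]
  have hzero : ∀ i, ∑ χ, m i χ * d χ = 0 := fun i => by
    have h : F i 1 = 0 := Exceptional.indFun_eq_zero_of_support (hS i) fun y => by
      simp only [mul_one, inv_mul_cancel]
      rintro ⟨k, hk⟩
      rw [one_pow] at hk
      rw [← hk, orderOf_one] at ht
      norm_num at ht
    rw [hm i, Finset.sum_apply] at h
    simp only [Pi.smul_apply, smul_eq_mul, hdC] at h
    exact_mod_cast h
  let V : Vecs (Cfsg.IrrCharacter G) (trivChar G) d :=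
    { a := m 0, a' := m 1, b := m 2, b' := m 3, w := m 4
      d0 := fun χ => by simpa [hd] using (hdN0 χ).ne'
      d_o := by
        have h := hdC (trivChar G)
        rw [trivChar_apply] at h
        exact_mod_cast h.symm
      ao := htriv 0, a'o := htriv 1, bo := htriv 2, b'o := htriv 3, wo := htriv 4
      aa := hdot 0 0, aa' := hdot 0 1, ab := hdot 0 2, ab' := hdot 0 3, aw := hdot 0 4
      a'a' := hdot 1 1, a'b := hdot 1 2, a'b' := hdot 1 3, a'w := hdot 1 4
      bb := hdot 2 2, bb' := hdot 2 3, bw := hdot 2 4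
      b'b' := hdot 3 3, b'w := hdot 3 4, ww := hdot 4 4
      za := hzero 0, za' := hzero 1, zb := hzero 2, zb' := hzero 3, zw := hzero 4 }
  have hcol : ∀ χ : Cfsg.IrrCharacter G, (χ : G → ℂ) t = (V.col χ : ℂ) := fun χ => by
    have h := coef_phi e ht χ
    rw [Fin.sum_univ_five, ← hcoef 0 χ, ← hcoef 1 χ, ← hcoef 2 χ, ← hcoef 3 χ, ← hcoef 4 χ] at h
    rw [← Complex.conj_conj ((χ : G → ℂ) t), ← h]
    simp [coefAt, Vecs.col, V, map_ofNat]
    ring
  -- pair sums
  set K := classFinset t
  set k : ℕ := C.index with hk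
  have hside : ∀ i, ∑ x ∈ K, ∑ y ∈ K, F i (x * y) = (k : ℂ) ^ 2 * ((V.triple (m i) : ℚ) : ℂ) := by
    intro i
    rw [hm i]
    simp only [Finset.sum_apply, Pi.smul_apply, smul_eq_mul]
    simp only [Vecs.triple, Rat.cast_sum, Rat.cast_mul, Rat.cast_div, Rat.cast_pow, Rat.cast_intCast]
    rw [Finset.mul_sum]
    rw [Finset.sum_congr rfl (fun x _ => Finset.sum_comm), Finset.sum_comm]
    refine Finset.sum_congr rfl fun χ _ => ?_
    simp only [← Finset.mul_sum]
    rw [mul_left_comm]
    congr 1
    rw [Finset.sum_comm, ← hdC, ← hcol]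
    have hy : ∀ y ∈ K, ∑ x ∈ K, (χ : G → ℂ) (x * y) =
        (k : ℂ) * (χ : G → ℂ) t / (χ : G → ℂ) 1 * (χ : G → ℂ) t := by
      intro y hy
      rw [pair_class_sum χ t y]
      congr 1
      exact (isClassFunction_iff_isConj.1 (IsIrr.isClassFunction χ.2) _ _
        (mem_classFinset.1 hy)).symm
    rw [Finset.sum_congr rfl hy, Finset.sum_const, card_classFinset, nsmul_eq_mul]
    ring
  have hHside : ∀ i, ∑ x ∈ K, ∑ y ∈ K, F i (x * y) = (k : ℂ) * toC (∑ p ∈ invs, ∑ q ∈ invs, fn i (qmul p q)) := by
    intro i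
    have h := Exceptional.ti_involution_pair_sum (specialSet_ti ht) specialSet_subset
      (specialSet_inv ht) (hS i) ht ht
    rw [finsum_mem_eq_toFinset_sum, finsum_mem_eq_toFinset_sum] at h
    have e1 : {p : G × G | IsConj t p.1 ∧ IsConj t p.2}.toFinset = K ×ˢ K := by
      ext p; simp [K, mem_classFinset]
    set I := Finset.univ.filter fun x : C => IsConj t (x : G) with hI
    have e2 : {p : C × C | IsConj t (p.1 : G) ∧ IsConj t (p.2 : G)}.toFinset = I ×ˢ I := by
      ext p; simp [hI]
    rw [e1, e2, Finset.sum_product, Finset.sum_product] at h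
    refine h.trans ?_
    congr 1
    have himg : invs = I.image (ct e) := by
      ext p
      simp only [Finset.mem_image, hI, Finset.mem_filter, Finset.mem_univ, true_and]
      constructor
      · intro hp
        obtain ⟨x, rfl⟩ := exists_ct e (Finset.mem_filter.1 hp).1
        exact ⟨x, isConj_t e ht (orderOf_of_mem_invs e hp), rfl⟩
      · rintro ⟨x, hx, rfl⟩
        refine ct_mem_invs e ht ?_
        obtain ⟨c, hc⟩ := isConj_iff.1 hx
        rw [← hc, show c * t * c⁻¹ = MulAut.conj c t from rfl, MulEquiv.orderOf_eq, ht]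
    rw [himg, Finset.sum_image fun a _ b _ hab => ct_injective e hab, map_sum]
    refine Finset.sum_congr rfl fun x _ => ?_
    rw [Finset.sum_image fun a _ b _ hab => ct_injective e hab, map_sum]
    refine Finset.sum_congr rfl fun y _ => ?_
    rw [phi, ct_mul]
  have hk0 : (k : ℂ) ≠ 0 := Nat.cast_ne_zero.2 Subgroup.index_ne_zero_of_finite
  have hN : (Nat.card G : ℚ) = 48 * k := by
    rw [← C.card_mul_index, card_centralizer e, hk]; push_cast; ring
  have htriple : ∀ i (M : ℤ), ∑ p ∈ invs, ∑ q ∈ invs, fn i (qmul p q) = (M : Rt) →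
      V.triple (m i) = (48 * M : ℚ) / (Nat.card G : ℚ) := by
    intro i M hM
    have h := (hside i).symm.trans (hHside i)
    rw [hM, map_intCast, sq, mul_assoc] at h
    have h2 : (k : ℚ) * V.triple (m i) = (M : ℚ) := by
      have h3 := mul_left_cancel₀ hk0 h
      exact_mod_cast h3
    have : (k : ℚ) ≠ 0 := Nat.cast_ne_zero.2 Subgroup.index_ne_zero_of_finite
    rw [hN, ← h2]
    field_simp
  obtain ⟨P, U, hP, hS', hU, hZ, hA, hW⟩ := V.triples
  refine order_arith hP hS' hU hZ (card_mod e ht) ?_ ?_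
  · rw [← hA, htriple 0 96 (by rw [fn_pairs_alpha]; rfl)]
    norm_num
  · rw [← hW, htriple 4 (-96) (by rw [fn_pairs_omega]; rfl)]
    norm_num

end CfsgLib.Blocks.GLTwoThreeCentralizer
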