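import Cfsg.Agent.Lib.Blocks.GLTwoThreeCentralizer.Data

/-!
# Elements of order three of the invertible two-by-two matrices over the field with three elements
-/

set_option autoImplicit false
set_option maxRecDepth 100000

namespace CfsgLib.Blocks.GLTwoThreeCentralizer

/-- The elements of order three. -/
def threes : Finset Qd := els.filter fun p => p ≠ qone ∧ qmul p (qmul p p) = qone

theorem three_centralizer : ∀ x ∈ threes,
    (els.filter fun p => qmul p x = qmul x p).card = 6 := by decide +kernel

theorem three_normalizer : ∀ x ∈ threes,
    (els.filter fun p => qmul p x = qmul x p ∨ qmul p x = qmul (qmul x x) p).card = 12 := by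
  decide +kernel

theorem three_conj : ∀ x ∈ threes, ∃ c ∈ els, qmul c (1, 1, 0, 1) = qmul x c := by decide +kernel

theorem four_not_normalizing : ∀ q ∈ els, qmul q q = qneg → ∀ x ∈ threes,
    qmul q x ≠ qmul x q ∧ qmul q x ≠ qmul (qmul x x) q := by decide +kernel

theorem unipotent_mem : ((1, 1, 0, 1) : Qd) ∈ threes := by decide +kernel

end CfsgLib.Blocks.GLTwoThreeCentralizer
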