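import Mathlib
import Cfsg.Agent.Lib.Blocks.GLTwoThreeCentralizer.ThreeData
import Cfsg.Agent.Lib.Blocks.GLTwoThreeCentralizer.Local

/-!
# The `3`-local structure when the order is `5616`

A subgroup of order nine whose normalizer has order `432` and is transitive on its non-trivial
elements.
-/

set_option autoImplicit false

namespace CfsgLib.Blocks.GLTwoThreeCentralizer

open scoped Classical

variable {G : Type*} [Group G] [Finite G] {t : G}
variable (e : Subgroup.centralizer ({t} : Set G) ≃* GLT) (ht : orderOf t = 2)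

omit [Finite G] in
/-- An element of odd order does not invert an element of order three. -/
theorem no_odd_inverts {g u : G} (hu : orderOf u = 3) (hg : Odd (orderOf g))
    (h : g * u * g⁻¹ = u⁻¹) : False := by
  obtain ⟨k, hk⟩ := hg
  have h2 : ∀ n : ℕ, g ^ (2 * n) * u * (g ^ (2 * n))⁻¹ = u := by
    intro n
    induction n with
    | zero => simp
    | succ n ih =>
      rw [show 2 * (n + 1) = 2 * n + 1 + 1 by ring, pow_succ', pow_succ']
      rw [show g * (g * g ^ (2 * n)) * u * (g * (g * g ^ (2 * n)))⁻¹ =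
        g * (g * (g ^ (2 * n) * u * (g ^ (2 * n))⁻¹) * g⁻¹) * g⁻¹ by group, ih, h]
      rw [show g * u⁻¹ * g⁻¹ = (g * u * g⁻¹)⁻¹ by group, h, inv_inv]
  have hone : g ^ (2 * k + 1) = 1 := by rw [← hk]; exact pow_orderOf_eq_one g
  have h3 := h2 k
  have : u⁻¹ = u := by
    rw [← h]
    nth_rewrite 1 [← h3]
    rw [show g * (g ^ (2 * k) * u * (g ^ (2 * k))⁻¹) * g⁻¹ =
      (g * g ^ (2 * k)) * u * (g * g ^ (2 * k))⁻¹ by group, ← pow_succ', hone]
    simp
  have hu2 : u ^ 2 = 1 := by rw [sq]; nth_rewrite 1 [← this]; exact inv_mul_cancel u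
  have := orderOf_dvd_of_pow_eq_one hu2
  rw [hu] at this
  norm_num at this

omit [Finite G] in
theorem mem_centralizer_single {x g : G} :
    g ∈ Subgroup.centralizer ({x} : Set G) ↔ g * x * g⁻¹ = x := by
  rw [Subgroup.mem_centralizer_singleton_iff, mul_inv_eq_iff_eq_mul]

omit [Finite G] in
theorem orderOf_conj3 (c x : G) : orderOf (c * x * c⁻¹) = orderOf x :=
  MulEquiv.orderOf_eq (MulAut.conj c) x

include e ht

omit [Finite G] in
theorem mem_threes {x : Subgroup.centralizer ({t} : Set G)} (hx : orderOf (x : G) = 3) :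
    ct e x ∈ threes := by
  refine Finset.mem_filter.2 ⟨ct_mem e x, fun h => ?_, ?_⟩
  · have : x = 1 := ct_injective e (h.trans (ct_one e).symm)
    rw [this, Subgroup.coe_one, orderOf_one] at hx
    norm_num at hx
  · rw [← ct_mul, ← ct_mul, ← ct_one e]
    congr 1
    refine Subtype.ext ?_
    rw [Subgroup.coe_mul, Subgroup.coe_mul, Subgroup.coe_one, ← sq, ← pow_succ']
    exact (congrArg ((x : G) ^ ·) hx.symm).trans (pow_orderOf_eq_one _)

/-- A representative of the elements of order three of the centralizer. -/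
noncomputable def u0 : G :=
  ((exists_ct e (Finset.mem_filter.1 unipotent_mem).1).choose : G)

omit [Finite G] in
/-- An element of order three commuting with the involution is conjugate to the representative. -/
theorem isConj_u0 {x : G} (hx : orderOf x = 3) (hc : x * t = t * x) : IsConj (u0 e) x := by
  obtain ⟨c, hc', hcx⟩ := three_conj _
    (mem_threes e ht (x := ⟨x, Subgroup.mem_centralizer_singleton_iff.2 hc⟩) hx)
  obtain ⟨w, rfl⟩ := exists_ct e hc'
  rw [← (exists_ct e (Finset.mem_filter.1 unipotent_mem).1).choose_spec, ← ct_mul, ← ct_mul] at hcx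
  refine isConj_iff.2 ⟨w, ?_⟩
  have h := congrArg Subtype.val (ct_injective e hcx)
  simp only [Subgroup.coe_mul] at h
  rw [u0, h, mul_inv_cancel_right]

omit [Finite G] in
theorem orderOf_u0 : orderOf (u0 e) = 3 := by
  obtain ⟨-, h1, h2⟩ := Finset.mem_filter.1 unipotent_mem
  have hspec := (exists_ct e (Finset.mem_filter.1 unipotent_mem).1).choose_spec
  unfold u0
  generalize (exists_ct e (Finset.mem_filter.1 unipotent_mem).1).choose = w at hspec ⊢
  rw [← hspec] at h1 h2
  refine orderOf_eq_prime ?_ fun h => h1 ?_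
  · rw [← ct_mul, ← ct_mul, ← ct_one e] at h2
    have := congrArg Subtype.val (ct_injective e h2)
    rw [Subgroup.coe_mul, Subgroup.coe_mul, Subgroup.coe_one] at this
    rw [pow_succ', sq]
    exact this
  · rw [(Subtype.ext h : w = 1), ct_one]

/-- Elements commuting with `t` and with an element of order three of its centralizer. -/
theorem card_centralizer_inf {x : G} (hx : orderOf x = 3) (hc : x * t = t * x) :
    Nat.card ↥(Subgroup.centralizer ({x} : Set G) ⊓ Subgroup.centralizer ({t} : Set G)) = 6 := by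
  set xC : Subgroup.centralizer ({t} : Set G) := ⟨x, Subgroup.mem_centralizer_singleton_iff.2 hc⟩
  have := three_centralizer _ (mem_threes e ht (x := xC) hx)
  rw [← this, ← Nat.card_eq_finsetCard]
  refine Nat.card_congr (Equiv.ofBijective (fun g => ⟨ct e ⟨g, g.2.2⟩, Finset.mem_filter.2
    ⟨ct_mem e _, by
      rw [← ct_mul, ← ct_mul]
      congr 1
      exact Subtype.ext (Subgroup.mem_centralizer_singleton_iff.1 g.2.1)⟩⟩) ⟨?_, ?_⟩)
  · intro a b hab
    have h := ct_injective e (congrArg Subtype.val hab)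
    exact Subtype.ext (congrArg (fun z : Subgroup.centralizer ({t} : Set G) => (z : G)) h)
  · rintro ⟨p, hp⟩
    obtain ⟨hp1, hp2⟩ := Finset.mem_filter.1 hp
    obtain ⟨y, rfl⟩ := exists_ct e hp1
    rw [← ct_mul, ← ct_mul] at hp2
    exact ⟨⟨y, Subgroup.mem_centralizer_singleton_iff.2 (congrArg Subtype.val (ct_injective e hp2)),
      y.2⟩, rfl⟩

/-- A subgroup of the centralizer normalizing a subgroup of order three has at most twelve elements. -/
theorem card_normalizing_le {x : G} (hx : orderOf x = 3) (hc : x * t = t * x) (K : Subgroup G)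
    (hK : K ≤ Subgroup.centralizer ({t} : Set G)) (hn : ∀ g ∈ K, g * x * g⁻¹ ∈ Subgroup.zpowers x) :
    Nat.card K ≤ 12 := by
  set xC : Subgroup.centralizer ({t} : Set G) := ⟨x, Subgroup.mem_centralizer_singleton_iff.2 hc⟩
  rw [← three_normalizer _ (mem_threes e ht (x := xC) hx), ← Nat.card_eq_finsetCard]
  refine Nat.card_le_card_of_injective (fun g => ⟨ct e ⟨g, hK g.2⟩, Finset.mem_filter.2
    ⟨ct_mem e _, ?_⟩⟩) ?_
  · obtain ⟨i, hi, hgi⟩ := Finset.mem_image.1 (mem_zpowers_iff_mem_range_orderOf.1 (hn g g.2))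
    rw [hx, Finset.mem_range] at hi
    have hgx : (g : G) * x = x ^ i * g := by rw [hgi, inv_mul_cancel_right]
    interval_cases i
    · exfalso
      have h1 : x = 1 := by simpa using hgx
      rw [h1, orderOf_one] at hx
      norm_num at hx
    · left
      rw [← ct_mul, ← ct_mul]
      congr 1
      exact Subtype.ext (by simpa using hgx)
    · right
      rw [← ct_mul, ← ct_mul, ← ct_mul]
      congr 1
      exact Subtype.ext (by simpa [sq] using hgx)
  · intro a b hab
    have h := ct_injective e (congrArg Subtype.val hab)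
    exact Subtype.ext (congrArg (fun z : Subgroup.centralizer ({t} : Set G) => (z : G)) h)

/-- A `3`-subgroup centralized by an involution has order dividing three. -/
theorem card_three_group_dvd [IsSimpleGroup G] {i : G} (hi : orderOf i = 2) {Q : Subgroup G}
    (hQ : IsPGroup 3 Q) (hQi : Q ≤ Subgroup.centralizer ({i} : Set G)) : Nat.card Q ∣ 3 := by
  have : Fact (Nat.Prime 3) := ⟨Nat.prime_three⟩
  obtain ⟨g, hg⟩ := isConj_iff.1 (isConj_t e ht hi)
  have hcard : Nat.card Q ∣ 48 := by
    rw [← card_centralizer e, ← Subgroup.card_map_of_injective (K := Q)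
      (f := (MulAut.conj g⁻¹).toMonoidHom) (MulAut.conj g⁻¹).injective]
    refine Subgroup.card_dvd_of_le ?_
    rintro _ ⟨q, hq, rfl⟩
    have hqi := Subgroup.mem_centralizer_singleton_iff.1 (hQi hq)
    rw [Subgroup.mem_centralizer_singleton_iff]
    rw [← hg] at hqi
    show g⁻¹ * q * g⁻¹⁻¹ * t = t * (g⁻¹ * q * g⁻¹⁻¹)
    rw [inv_inv]
    calc g⁻¹ * q * g * t = g⁻¹ * (q * (g * t * g⁻¹)) * g := by group
      _ = _ := by rw [hqi]; group
  obtain ⟨n, hn⟩ := IsPGroup.iff_card.1 hQ
  rw [hn] at hcard ⊢
  rcases n with _ | _ | n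
  · norm_num
  · norm_num
  · exfalso
    have : 9 ∣ 48 := dvd_trans ⟨3 ^ n, by ring⟩ hcard
    norm_num at this

variable [IsSimpleGroup G] (hN : Nat.card G = 5616)
include hN

omit e ht in
theorem no_trivial_sylow {p : ℕ} [Fact p.Prime] (P : Sylow p G) (hp : p ∣ 5616)
    (hle : Subgroup.normalizer ((P : Subgroup G) : Set G) ≤ Subgroup.centralizer ((P : Subgroup G) : Set G))
    (hlt : Nat.card (P : Subgroup G) < 5616) : False := by
  have hcompl := MonoidHom.ker_transferSylow_isComplement' P hle
  rcases IsSimpleGroup.eq_bot_or_eq_top_of_normal (MonoidHom.transferSylow P hle).ker inferInstance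
    with h | h
  · rw [h] at hcompl
    have := hcompl.card_mul
    rw [Subgroup.card_bot, one_mul, hN] at this
    omega
  · rw [h] at hcompl
    have h1 := Subgroup.isComplement'_top_left.1 hcompl
    exact Sylow.ne_bot_of_dvd_card P (hN ▸ hp) h1

/-- An element of order three commutes with no element of order thirteen. -/
theorem no_thirteen_three {y x : G} (hy : orderOf y = 13) (hx : orderOf x = 3) : ¬ Commute y x := by
  intro hc
  have : Fact (Nat.Prime 13) := ⟨by norm_num⟩
  have : Fact (Nat.Prime 2) := ⟨Nat.prime_two⟩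
  obtain ⟨P, hP⟩ := (IsPGroup.of_card (n := 1) (by rw [Nat.card_zpowers, hy, pow_one]) :
    IsPGroup 13 (Subgroup.zpowers y)).exists_le_sylow
  have hPc : Nat.card (P : Subgroup G) = 13 := by
    rw [P.card_eq_multiplicity, hN, show (5616 : ℕ) = 13 ^ 1 * 432 by norm_num,
      Nat.factorization_mul (by norm_num) (by norm_num)]
    simp only [Finsupp.coe_add, Pi.add_apply]
    rw [Nat.Prime.factorization_pow (by norm_num : Nat.Prime 13),
      Nat.factorization_eq_zero_of_not_dvd (show ¬ 13 ∣ 432 by norm_num)]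
    simp
  have hPy : (P : Subgroup G) = Subgroup.zpowers y :=
    (Subgroup.eq_of_le_of_card_ge hP (by rw [hPc, Nat.card_zpowers, hy])).symm
  set N := Subgroup.normalizer ((P : Subgroup G) : Set G)
  set K := Subgroup.centralizer ((P : Subgroup G) : Set G)
  have hKy : ∀ g, g ∈ K → g * y = y * g := fun g hg =>
    ((Subgroup.mem_centralizer_iff.1 hg) y (hPy ▸ Subgroup.mem_zpowers y)).symm
  have hxK : x ∈ K := by
    refine Subgroup.mem_centralizer_iff.2 fun z hz => ?_
    rw [hPy, SetLike.mem_coe, Subgroup.mem_zpowers_iff] at hz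
    obtain ⟨k, rfl⟩ := hz
    exact (hc.zpow_left k).eq
  have hKodd : ¬ 2 ∣ Nat.card K := by
    intro h2
    obtain ⟨i, hi⟩ := exists_prime_orderOf_dvd_card' (G := K) 2 h2
    obtain ⟨g, hg⟩ := isConj_iff.1 (isConj_t e ht (x := (i : G)) (by rw [Subgroup.orderOf_coe, hi]))
    have hmem : g⁻¹ * y * g ∈ Subgroup.centralizer ({t} : Set G) := by
      rw [Subgroup.mem_centralizer_singleton_iff]
      have h := hKy i i.2
      rw [← hg] at h
      calc g⁻¹ * y * g * t = g⁻¹ * (y * (g * t * g⁻¹)) * g := by group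
        _ = _ := by rw [← h]; group
    have hd := Subgroup.orderOf_dvd_natCard _ hmem
    have he : orderOf (g⁻¹ * y * g) = 13 := by
      simpa [hy] using orderOf_conj3 g⁻¹ y
    rw [he, card_centralizer e] at hd
    norm_num at hd
  have hKN : K ≤ N := Subgroup.centralizer_le_normalizer _
  have hidx := P.card_eq_index_normalizer
  have hmod := card_sylow_modEq_one (p := 13) (G := G)
  have hmul := N.card_mul_index
  rw [hN, show N.index = Nat.card (Sylow 13 G) from hidx.symm] at hmul
  have hdvd : Nat.card (Sylow 13 G) ∣ 432 := by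
    have h := P.card_dvd_index
    have h2 := (P : Subgroup G).card_mul_index
    rw [hN, hPc] at h2
    rwa [show (P : Subgroup G).index = 432 by omega] at h
  have hcases : ∀ d ∈ Nat.divisors 432, d % 13 = 1 → d = 1 ∨ d = 27 ∨ d = 144 := by decide +kernel
  have hpk : 13 * 3 ∣ Nat.card K := by
    refine Nat.Coprime.mul_dvd_of_dvd_of_dvd (by norm_num) ?_ ?_
    · rw [← hPc]
      refine Subgroup.card_dvd_of_le ?_
      rw [hPy, Subgroup.zpowers_le]
      refine Subgroup.mem_centralizer_iff.2 fun z hz => ?_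
      rw [hPy, SetLike.mem_coe, Subgroup.mem_zpowers_iff] at hz
      obtain ⟨k, rfl⟩ := hz
      exact ((Commute.refl y).zpow_left k).eq
    · rw [← hx]; exact Subgroup.orderOf_dvd_natCard _ hxK
  have hKd := Subgroup.card_dvd_of_le hKN
  rcases hcases _ (Nat.mem_divisors.2 ⟨hdvd, by norm_num⟩) hmod with h | h | h <;> rw [h] at hmul
  · have hnorm : (P : Subgroup G).Normal := Subgroup.normalizer_eq_top_iff.1
      (Subgroup.eq_top_of_card_eq _ (by rw [hN]; change Nat.card N = _; omega))
    rcases IsSimpleGroup.eq_bot_or_eq_top_of_normal _ hnorm with h1 | h1 <;> rw [h1] at hPc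
    · simp at hPc
    · rw [Subgroup.card_top, hN] at hPc; norm_num at hPc
  · rw [show Nat.card N = 208 by omega] at hKd
    have := dvd_trans hpk hKd
    norm_num at this
  · have hKN' : K = N := Subgroup.eq_of_le_of_card_ge hKN (by
      rw [show Nat.card N = 39 by omega]
      exact Nat.le_of_dvd Nat.card_pos (by simpa using hpk))
    exact no_trivial_sylow hN P (by norm_num) (le_of_eq hKN'.symm) (by rw [hPc]; norm_num)

omit e ht in
theorem card_sylow_three (P : Sylow 3 G) : Nat.card (P : Subgroup G) = 27 := by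
  have : Fact (Nat.Prime 3) := ⟨Nat.prime_three⟩
  rw [P.card_eq_multiplicity, hN, show (5616 : ℕ) = 3 ^ 3 * 208 by norm_num,
    Nat.factorization_mul (by norm_num) (by norm_num)]
  simp only [Finsupp.coe_add, Pi.add_apply]
  rw [Nat.Prime.factorization_pow Nat.prime_three,
    Nat.factorization_eq_zero_of_not_dvd (show ¬ 3 ∣ 208 by norm_num)]
  simp

/-- The order of the centralizer of an element of order three commuting with `t`, up to its `3`-part. -/
theorem card_centralizer_three_cases {u : G} (hu : orderOf u = 3) (hut : u * t = t * u) :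
    Nat.card (Subgroup.centralizer ({u} : Set G)) ∈ ({6, 18, 54} : Finset ℕ) := by
  have : Fact (Nat.Prime 2) := ⟨Nat.prime_two⟩
  have : Fact (Nat.Prime 13) := ⟨by norm_num⟩
  set K := Subgroup.centralizer ({u} : Set G) with hK
  have h6 : 6 ∣ Nat.card K := by
    rw [← card_centralizer_inf e ht hu hut]
    exact Subgroup.card_dvd_of_le inf_le_left
  have h4 : ¬ 4 ∣ Nat.card K := by
    intro h4
    have htK : t ∈ K := Subgroup.mem_centralizer_singleton_iff.2 hut.symm
    obtain ⟨T, hT, hTle⟩ := Sylow.exists_subgroup_card_pow_succ (G := K) (p := 2) (n := 1)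
      (by simpa using h4) (H := Subgroup.zpowers (⟨t, htK⟩ : K))
      (by rw [Nat.card_zpowers, ← Subgroup.orderOf_coe, pow_one]; exact ht)
    have hTle2 : T.map K.subtype ≤
        Subgroup.centralizer ({u} : Set G) ⊓ Subgroup.centralizer ({t} : Set G) := by
      rintro _ ⟨g, hg, rfl⟩
      refine ⟨g.2, Subgroup.mem_centralizer_singleton_iff.2 ?_⟩
      have hcomm := IsPGroup.commutative_of_card_eq_prime_sq (p := 2) (G := T)
        (by rw [hT]) ⟨g, hg⟩ ⟨⟨t, htK⟩, hTle (Subgroup.mem_zpowers _)⟩
      exact congrArg (fun z : T => ((z : K) : G)) hcomm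
    have hd := Subgroup.card_dvd_of_le hTle2
    rw [Subgroup.card_map_of_injective K.subtype_injective, hT, card_centralizer_inf e ht hu hut] at hd
    norm_num at hd
  have h13 : ¬ 13 ∣ Nat.card K := by
    intro h13
    obtain ⟨y, hy⟩ := exists_prime_orderOf_dvd_card' (G := K) 13 h13
    exact no_thirteen_three e ht hN (y := (y : G)) (by rw [Subgroup.orderOf_coe, hy]) hu
      (Subgroup.mem_centralizer_singleton_iff.1 y.2)
  have hd : Nat.card K ∣ 5616 := hN ▸ K.card_subgroup_dvd_card
  have key : ∀ d ∈ Nat.divisors 5616, 6 ∣ d → ¬ 4 ∣ d → ¬ 13 ∣ d → d ∈ ({6, 18, 54} : Finset ℕ) := by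
    decide +kernel
  exact key _ (Nat.mem_divisors.2 ⟨hd, by norm_num⟩) h6 h4 h13

omit ht in
/-- A Sylow `3`-normalizer is not contained in the centralizer, and a normalizing involution gives
index `13` or `52`. -/
theorem card_normalizer_cases (P : Sylow 3 G) {i : G} (hi : orderOf i = 2)
    (hiP : i ∈ Subgroup.normalizer ((P : Subgroup G) : Set G)) :
    Nat.card (Subgroup.normalizer ((P : Subgroup G) : Set G)) = 108 ∨
      Nat.card (Subgroup.normalizer ((P : Subgroup G) : Set G)) = 432 := by
  have : Fact (Nat.Prime 3) := ⟨Nat.prime_three⟩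
  set N := Subgroup.normalizer ((P : Subgroup G) : Set G)
  have h2 : 2 ∣ Nat.card N := hi ▸ Subgroup.orderOf_dvd_natCard _ hiP
  have h27 : 27 ∣ Nat.card N := by
    rw [← card_sylow_three hN P]; exact Subgroup.card_dvd_of_le Subgroup.le_normalizer
  have hmul := N.card_mul_index
  rw [hN] at hmul
  have hd : Nat.card N ∣ 5616 := ⟨N.index, hmul.symm⟩
  have key : ∀ d ∈ Nat.divisors 5616, 2 ∣ d → 27 ∣ d → (5616 / d) % 3 = 1 →
      d = 108 ∨ d = 432 ∨ d = 1404 ∨ d = 5616 := by decide +kernel
  have hmod : N.index % 3 = 1 := by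
    rw [show N.index = Nat.card (Sylow 3 G) from P.card_eq_index_normalizer.symm]
    exact card_sylow_modEq_one (p := 3) (G := G)
  have hquot : 5616 / Nat.card N = N.index := by
    rw [← hmul, Nat.mul_div_cancel_left _ Nat.card_pos]
  rcases key _ (Nat.mem_divisors.2 ⟨hd, by norm_num⟩) h2 h27 (by rw [hquot]; exact hmod)
    with h | h | h | h
  · exact Or.inl h
  · exact Or.inr h
  all_goals
    exfalso
    have hidx : N.index ≤ 4 := by rw [h] at hmul; omega
    have htop : N ≠ ⊤ := fun h' => by
      have hnorm : (P : Subgroup G).Normal := Subgroup.normalizer_eq_top_iff.1 h'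
      have hPc := card_sylow_three hN P
      rcases IsSimpleGroup.eq_bot_or_eq_top_of_normal _ hnorm with h1 | h1 <;> rw [h1] at hPc
      · simp at hPc
      · rw [Subgroup.card_top, hN] at hPc; norm_num at hPc
    have hker : N.normalCore = ⊥ :=
      (IsSimpleGroup.eq_bot_or_eq_top_of_normal _ inferInstance).resolve_right fun h' =>
        htop (top_le_iff.1 (h' ▸ N.normalCore_le))
    have hinj : Function.Injective (MulAction.toPermHom G (G ⧸ N)) := by
      rw [← MonoidHom.ker_eq_bot_iff, ← Subgroup.normalCore_eq_ker, hker]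
    have hb := Nat.card_le_card_of_injective _ hinj
    rw [hN, Nat.card_perm, ← Subgroup.index] at hb
    have : Nat.factorial N.index ≤ Nat.factorial 4 := Nat.factorial_le hidx
    norm_num [Nat.factorial] at this ⊢
    omega

end CfsgLib.Blocks.GLTwoThreeCentralizer
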