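import Mathlib
import Cfsg.Agent.Lib.Blocks.GLTwoThreeCentralizer.Three

/-!
# The subgroup of order nine
-/

set_option autoImplicit false

namespace CfsgLib.Blocks.GLTwoThreeCentralizer

open scoped Classical

variable {G : Type*} [Group G] [Finite G] [IsSimpleGroup G] {t : G}
variable (e : Subgroup.centralizer ({t} : Set G) ≃* GLT) (ht : orderOf t = 2)
  (hN : Nat.card G = 5616)

omit [Finite G] [IsSimpleGroup G] in
/-- A product of powers of two commuting elements of order three, one outside the span of the other. -/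
theorem pair_injective {u x : G} (hu : orderOf u = 3) (hx : orderOf x = 3)
    (hxu : x ∉ Subgroup.zpowers u) :
    Function.Injective fun p : Fin 3 × Fin 3 => u ^ (p.1 : ℕ) * x ^ (p.2 : ℕ) := by
  rintro ⟨i, j⟩ ⟨i', j'⟩ h
  simp only at h
  have hz : x ^ ((j : ℤ) - (j' : ℤ)) ∈ Subgroup.zpowers u := by
    have h2 : x ^ (j : ℕ) * (x ^ (j' : ℕ))⁻¹ = (u ^ (i : ℕ))⁻¹ * u ^ (i' : ℕ) := by
      rw [eq_inv_mul_iff_mul_eq, ← mul_assoc, h, mul_inv_cancel_right]
    rw [zpow_sub, zpow_natCast, zpow_natCast, h2]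
    exact Subgroup.mul_mem _ (Subgroup.inv_mem _ (Subgroup.pow_mem _ (Subgroup.mem_zpowers u) _))
      (Subgroup.pow_mem _ (Subgroup.mem_zpowers u) _)
  have hj : j = j' := by
    by_contra hne
    apply hxu
    have hne' : ((j : ℤ) - (j' : ℤ)) ≠ 0 := by
      intro h0; exact hne (Fin.ext (by omega))
    have hb : ((j : ℤ) - (j' : ℤ)) = 1 ∨ ((j : ℤ) - (j' : ℤ)) = 2 ∨ ((j : ℤ) - (j' : ℤ)) = -1 ∨
        ((j : ℤ) - (j' : ℤ)) = -2 := by omega
    have hx3 : x ^ (3 : ℤ) = 1 := by
      rw [show (3 : ℤ) = ((3 : ℕ) : ℤ) from rfl, zpow_natCast, ← hx, pow_orderOf_eq_one]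
    rcases hb with hb | hb | hb | hb <;> rw [hb] at hz
    · simpa using hz
    · have := Subgroup.inv_mem _ hz
      rw [← zpow_neg] at this
      have h2 : x ^ (-2 : ℤ) = x := by
        rw [show (-2 : ℤ) = 1 - 3 from rfl, zpow_sub, hx3, inv_one, mul_one, zpow_one]
      rwa [h2] at this
    · simpa using Subgroup.inv_mem _ hz
    · have h2 : x ^ (-2 : ℤ) = x := by
        rw [show (-2 : ℤ) = 1 - 3 from rfl, zpow_sub, hx3, inv_one, mul_one, zpow_one]
      rwa [h2] at hz
  subst hj
  have hi := pow_injOn_Iio_orderOf (x := u) (show (i : ℕ) ∈ Set.Iio (orderOf u) by rw [hu]; exact i.2)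
    (show (i' : ℕ) ∈ Set.Iio (orderOf u) by rw [hu]; exact i'.2) (mul_right_cancel h)
  rw [Fin.ext hi]

omit [IsSimpleGroup G] in
/-- A subgroup of order nine containing two independent elements of order three. -/
theorem exists_eq_pow_mul_pow {u x : G} (hu : orderOf u = 3) (hx : orderOf x = 3)
    (hxu : x ∉ Subgroup.zpowers u) {D : Subgroup G} (hD : Nat.card D = 9) (huD : u ∈ D) (hxD : x ∈ D)
    {d : G} (hd : d ∈ D) : ∃ i j : Fin 3, u ^ (i : ℕ) * x ^ (j : ℕ) = d := by
  let f : Fin 3 × Fin 3 → D := fun p => ⟨u ^ (p.1 : ℕ) * x ^ (p.2 : ℕ),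
    D.mul_mem (D.pow_mem huD _) (D.pow_mem hxD _)⟩
  have hf : Function.Bijective f := (Nat.bijective_iff_injective_and_card _).2
    ⟨fun a b h => pair_injective hu hx hxu (congrArg Subtype.val h), by simp [hD]⟩
  obtain ⟨⟨i, j⟩, hij⟩ := hf.2 ⟨d, hd⟩
  exact ⟨i, j, congrArg Subtype.val hij⟩

omit [IsSimpleGroup G] in
/-- A group of order nine is abelian. -/
theorem commute_of_card_nine {D : Subgroup G} (hD : Nat.card D = 9) {a b : G} (ha : a ∈ D)
    (hb : b ∈ D) : a * b = b * a := by
  have : Fact (Nat.Prime 3) := ⟨Nat.prime_three⟩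
  exact congrArg Subtype.val
    (IsPGroup.commutative_of_card_eq_prime_sq (p := 3) (G := D) (by rw [hD]; norm_num) ⟨a, ha⟩ ⟨b, hb⟩)

omit [IsSimpleGroup G] in
/-- An element of a `3`-group conjugating `u` into `u ^ a * v` fixes the first coordinate. -/
theorem unipotent_coord {p u v : G} (hp : Odd (orderOf p)) (hu : orderOf u = 3)
    {V : Subgroup G} (hv : v ∈ V) (hVp : p * v * p⁻¹ = v) (hvu : Commute v u)
    (h : p * u * p⁻¹ = u⁻¹ * v) : v ∈ Subgroup.zpowers u := by
  have h1 : ∀ n : ℕ, p ^ (2 * n) * u * (p ^ (2 * n))⁻¹ = u := by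
    intro n
    induction n with
    | zero => simp
    | succ n ih =>
      rw [show 2 * (n + 1) = 2 * n + 1 + 1 by ring, pow_succ', pow_succ']
      rw [show p * (p * p ^ (2 * n)) * u * (p * (p * p ^ (2 * n)))⁻¹ =
        p * (p * (p ^ (2 * n) * u * (p ^ (2 * n))⁻¹) * p⁻¹) * p⁻¹ by group, ih, h]
      rw [show p * (u⁻¹ * v) * p⁻¹ = (p * u * p⁻¹)⁻¹ * (p * v * p⁻¹) by group, h, hVp, mul_inv_rev,
        inv_inv, mul_assoc, ← hvu.eq, inv_mul_cancel_left]
  obtain ⟨k, hk⟩ := hp
  have hone : p ^ (2 * k + 1) = 1 := by rw [← hk]; exact pow_orderOf_eq_one p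
  have h2 : u = u⁻¹ * v := by
    rw [← h]
    nth_rewrite 2 [← h1 k]
    rw [show p * (p ^ (2 * k) * u * (p ^ (2 * k))⁻¹) * p⁻¹ =
      (p * p ^ (2 * k)) * u * (p * p ^ (2 * k))⁻¹ by group, ← pow_succ', hone]
    simp
  rw [eq_inv_mul_iff_mul_eq] at h2
  rw [← h2]
  exact Subgroup.mul_mem _ (Subgroup.mem_zpowers u) (Subgroup.mem_zpowers u)

include e ht hN

/-- The centralizer of an element of order three commuting with `t` has order `54`. -/
theorem card_centralizer_u {u : G} (hu : orderOf u = 3) (hut : u * t = t * u) :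
    Nat.card (Subgroup.centralizer ({u} : Set G)) = 54 := by
  have : Fact (Nat.Prime 3) := ⟨Nat.prime_three⟩
  have : Fact (Nat.Prime 2) := ⟨Nat.prime_two⟩
  set K := Subgroup.centralizer ({u} : Set G) with hK
  have hKcases := card_centralizer_three_cases e ht hN hu hut
  simp only [Finset.mem_insert, Finset.mem_singleton] at hKcases
  by_contra h54
  have h27 : ¬ 27 ∣ Nat.card K := by
    intro h; rcases hKcases with h' | h' | h' <;> first | exact h54 h' | (rw [h'] at h; norm_num at h)
  obtain ⟨P, hP⟩ := (IsPGroup.of_card (n := 1) (by rw [Nat.card_zpowers, hu, pow_one]) :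
    IsPGroup 3 (Subgroup.zpowers u)).exists_le_sylow
  have huP : u ∈ (P : Subgroup G) := hP (Subgroup.mem_zpowers u)
  have hPc := card_sylow_three hN P
  obtain ⟨zP, hzc, hzo⟩ : ∃ z : (P : Subgroup G), z ∈ Subgroup.center (P : Subgroup G) ∧ orderOf z = 3 := by
    obtain ⟨k, hk, hkc⟩ := IsPGroup.card_center_eq_prime_pow (p := 3) (G := (P : Subgroup G))
      (n := 3) (by rw [hPc]; norm_num) (by norm_num)
    obtain ⟨z, hz⟩ := exists_prime_orderOf_dvd_card' (G := Subgroup.center (P : Subgroup G)) 3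
      (by rw [hkc]; exact dvd_pow_self 3 hk.ne')
    exact ⟨z, z.2, by rw [Subgroup.orderOf_coe, hz]⟩
  set z : G := (zP : G) with hzdef
  have hz : orderOf z = 3 := by rw [hzdef, Subgroup.orderOf_coe, hzo]
  have hzP : z ∈ (P : Subgroup G) := zP.2
  have hzcomm : ∀ p ∈ (P : Subgroup G), p * z = z * p := fun p hp =>
    congrArg Subtype.val (Subgroup.mem_center_iff.1 hzc ⟨p, hp⟩)
  have hPz : (P : Subgroup G) ≤ Subgroup.centralizer ({z} : Set G) := fun p hp =>
    Subgroup.mem_centralizer_singleton_iff.2 (hzcomm p hp)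
  -- `z` is conjugate neither to `u` nor to its inverse
  have hnot : ∀ g : G, g * u * g⁻¹ ≠ z ∧ g * u * g⁻¹ ≠ z⁻¹ := by
    intro g
    have key : ∀ w, w = z ∨ w = z⁻¹ → g * u * g⁻¹ = w → False := by
      intro w hw hgu
      apply h27
      rw [← hPc, ← Subgroup.card_map_of_injective (K := (P : Subgroup G))
        (f := (MulAut.conj g⁻¹).toMonoidHom) (MulAut.conj g⁻¹).injective]
      refine Subgroup.card_dvd_of_le ?_
      rintro _ ⟨p, hp, rfl⟩
      have hpw : p * w = w * p := by
        rcases hw with rfl | rfl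
        · exact hzcomm p hp
        · exact (Commute.inv_right (hzcomm p hp : Commute p z)).eq
      rw [Subgroup.mem_centralizer_singleton_iff]
      show g⁻¹ * p * g⁻¹⁻¹ * u = u * (g⁻¹ * p * g⁻¹⁻¹)
      rw [← hgu] at hpw
      rw [inv_inv]
      calc g⁻¹ * p * g * u = g⁻¹ * (p * (g * u * g⁻¹)) * g := by group
        _ = _ := by rw [hpw]; group
    exact ⟨key z (Or.inl rfl), key z⁻¹ (Or.inr rfl)⟩
  have hzu : z ∉ Subgroup.zpowers u := by
    intro h
    obtain ⟨i, hi, hzi⟩ := Finset.mem_image.1 (mem_zpowers_iff_mem_range_orderOf.1 h)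
    rw [hu, Finset.mem_range] at hi
    interval_cases i
    · rw [pow_zero] at hzi; rw [← hzi, orderOf_one] at hz; norm_num at hz
    · exact (hnot 1).1 (by simpa using hzi)
    · refine (hnot 1).2 ?_
      rw [← hzi]
      simp only [one_mul, inv_one, mul_one]
      refine eq_inv_of_mul_eq_one_left ?_
      rw [← pow_succ']
      exact (congrArg (u ^ ·) hu.symm).trans (pow_orderOf_eq_one u)
  have hzK : z ∈ K := Subgroup.mem_centralizer_singleton_iff.2 (hzcomm u huP).symm
  have huK : u ∈ K := Subgroup.mem_centralizer_singleton_iff.2 rfl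
  -- `K` has order eighteen and a normal subgroup of order nine
  have hK18 : Nat.card K = 18 := by
    rcases hKcases with h | h | h
    · exfalso
      have h9 : Nat.card (Fin 3 × Fin 3) ≤ Nat.card K :=
        Nat.card_le_card_of_injective (fun p => (⟨u ^ (p.1 : ℕ) * z ^ (p.2 : ℕ),
          K.mul_mem (K.pow_mem huK _) (K.pow_mem hzK _)⟩ : K))
          fun a b hab => pair_injective hu hz hzu (congrArg Subtype.val hab)
      rw [h] at h9; simp at h9
    · exact h
    · exact absurd h h54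
  let D' : Sylow 3 K := default
  have hD'c : Nat.card (D' : Subgroup K) = 9 := by
    rw [D'.card_eq_multiplicity, hK18, show (18 : ℕ) = 3 ^ 2 * 2 by norm_num,
      Nat.factorization_mul (by norm_num) (by norm_num)]
    simp only [Finsupp.coe_add, Pi.add_apply]
    rw [Nat.Prime.factorization_pow Nat.prime_three,
      Nat.factorization_eq_zero_of_not_dvd (show ¬ 3 ∣ 2 by norm_num)]
    simp
  have hD'n : (D' : Subgroup K).Normal := Subgroup.normal_of_index_eq_two (by
    have h := (D' : Subgroup K).card_mul_index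
    rw [hD'c, hK18] at h
    omega)
  set D := (D' : Subgroup K).map K.subtype with hDdef
  have hDc : Nat.card D = 9 := by rw [hDdef, Subgroup.card_map_of_injective K.subtype_injective, hD'c]
  have hmemD : ∀ g : K, orderOf (g : G) = 3 → (g : G) ∈ D := fun g hg => by
    obtain ⟨Q, hQ⟩ := (IsPGroup.of_card (n := 1)
      (by rw [Nat.card_zpowers, ← Subgroup.orderOf_coe, hg, pow_one]) :
      IsPGroup 3 (Subgroup.zpowers g)).exists_le_sylow
    obtain ⟨c, hc⟩ := MulAction.exists_smul_eq K D' Q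
    rw [Sylow.smul_eq_of_normal] at hc
    exact ⟨g, hc ▸ hQ (Subgroup.mem_zpowers g), rfl⟩
  have huD := hmemD ⟨u, huK⟩ hu
  have hzD := hmemD ⟨z, hzK⟩ hz
  have htK : t ∈ K := Subgroup.mem_centralizer_singleton_iff.2 hut.symm
  have hDP : D ≤ (P : Subgroup G) := fun d hd => by
    obtain ⟨i, j, rfl⟩ := exists_eq_pow_mul_pow hu hz hzu hDc huD hzD hd
    exact (P : Subgroup G).mul_mem ((P : Subgroup G).pow_mem huP _) ((P : Subgroup G).pow_mem hzP _)
  have hD'' : ∀ g ∈ K, ∀ d ∈ D, g * d * g⁻¹ ∈ D := by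
    rintro g hg _ ⟨d, hd, rfl⟩
    exact ⟨⟨g, hg⟩ * d * ⟨g, hg⟩⁻¹, hD'n.conj_mem d hd _, rfl⟩
  obtain ⟨p, hpP, hpD⟩ : ∃ p ∈ (P : Subgroup G), p ∉ D := by
    by_contra hcon
    push Not at hcon
    have h := Subgroup.card_dvd_of_le (show (P : Subgroup G) ≤ D from hcon)
    rw [hPc, hDc] at h
    norm_num at h
  have hpu : p * u * p⁻¹ ≠ u := by
    intro h
    apply h27
    have hle : (P : Subgroup G) ≤ K := by
      have hDsub : (D.subgroupOf (P : Subgroup G)).index = 3 := by
        have h' := (D.subgroupOf (P : Subgroup G)).card_mul_index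
        rw [Nat.card_congr (Subgroup.subgroupOfEquivOfLe hDP).toEquiv, hDc, hPc] at h'
        omega
      intro q hq
      have hDK : D ≤ K := Subgroup.map_subtype_le _
      by_contra hqK
      have hlt : D.subgroupOf (P : Subgroup G) < K.subgroupOf (P : Subgroup G) := by
        refine lt_of_le_of_ne (fun a ha => hDK ha) fun he => hpD ?_
        have hmem : (⟨p, hpP⟩ : (P : Subgroup G)) ∈ K.subgroupOf (P : Subgroup G) :=
          Subgroup.mem_subgroupOf.2 (mem_centralizer_single.2 h)
        rw [← he] at hmem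
        exact hmem
      have hdvd := Subgroup.index_dvd_of_le hlt.le
      rw [hDsub] at hdvd
      rcases (Nat.dvd_prime Nat.prime_three).1 hdvd with h1 | h1
      · rw [Subgroup.index_eq_one, Subgroup.subgroupOf_eq_top] at h1
        exact hqK (h1 hq)
      · exact absurd (Subgroup.index_strictAnti hlt) (by rw [h1, hDsub]; exact lt_irrefl 3)
    rw [← hPc]
    exact Subgroup.card_dvd_of_le hle
  -- every element of `D` outside the span of `z` is conjugate to `u` or its inverse
  have hnorm : ∀ q ∈ (P : Subgroup G), ∀ d ∈ D, q * d * q⁻¹ ∈ D := by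
    intro q hq d hd
    have hDn : (D.subgroupOf (P : Subgroup G)).Normal := by
      refine Subgroup.normal_of_index_eq_minFac_card ?_
      have h' := (D.subgroupOf (P : Subgroup G)).card_mul_index
      rw [Nat.card_congr (Subgroup.subgroupOfEquivOfLe hDP).toEquiv, hDc, hPc] at h'
      rw [hPc]
      norm_num
      omega
    exact hDn.conj_mem ⟨d, hDP hd⟩ (Subgroup.mem_subgroupOf.2 hd) ⟨q, hq⟩
  have hu3 : u ^ 3 = 1 := by rw [← hu]; exact pow_orderOf_eq_one u
  have hz3 : z ^ 3 = 1 := by rw [← hz]; exact pow_orderOf_eq_one z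
  have hzu' : Commute u z := hzcomm u huP
  have hu2 : u ^ 2 = u⁻¹ := eq_inv_of_mul_eq_one_left (by rw [← pow_succ, hu3])
  have hz2 : z ^ 2 = z⁻¹ := eq_inv_of_mul_eq_one_left (by rw [← pow_succ, hz3])
  have hodd : Odd (orderOf p) := by
    obtain ⟨k, hk⟩ := P.2 ⟨p, hpP⟩
    exact (Odd.pow (by decide : Odd 3) : Odd (3 ^ k)).of_dvd_nat
      (orderOf_dvd_of_pow_eq_one (congrArg Subtype.val hk))
  obtain ⟨⟨a, ha⟩, ⟨j, hj⟩, haj⟩ := exists_eq_pow_mul_pow hu hz hzu hDc huD hzD (hnorm p hpP u huD)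
  simp only at haj
  obtain ⟨hj0, hstep⟩ : j ≠ 0 ∧ p * u * p⁻¹ = u * z ^ j := by
    interval_cases a
    · exfalso
      rw [pow_zero, one_mul] at haj
      interval_cases j
      · have h1 : u = 1 := by simpa using haj.symm
        rw [h1, orderOf_one] at hu; norm_num at hu
      · exact (hnot p).1 (by simpa using haj.symm)
      · exact (hnot p).2 (by rw [← hz2]; exact haj.symm)
    · refine ⟨?_, by simpa using haj.symm⟩
      rintro rfl
      exact hpu (by simpa using haj.symm)
    · exfalso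
      rw [hu2] at haj
      have hv := unipotent_coord hodd hu (V := Subgroup.zpowers z)
        (Subgroup.pow_mem _ (Subgroup.mem_zpowers z) j) (v := z ^ j)
        (by rw [← conj_pow, hzcomm p hpP, mul_inv_cancel_right]) (hzu'.symm.pow_left j) haj.symm
      interval_cases j
      · exact no_odd_inverts hu hodd (by simpa using haj.symm)
      · exact hzu (by simpa using hv)
      · refine hzu ?_
        rw [hz2] at hv
        simpa using hv
  have hiter : ∀ n : ℕ, p ^ n * u * (p ^ n)⁻¹ = u * z ^ (j * n) := by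
    intro n
    induction n with
    | zero => simp
    | succ n ih =>
      rw [pow_succ', show p * p ^ n * u * (p * p ^ n)⁻¹ = p * (p ^ n * u * (p ^ n)⁻¹) * p⁻¹ by group, ih,
        show p * (u * z ^ (j * n)) * p⁻¹ = p * u * p⁻¹ * (p * z ^ (j * n) * p⁻¹) by group, hstep,
        ← conj_pow, hzcomm p hpP, mul_inv_cancel_right, mul_assoc, ← pow_add,
        show j + j * n = j * (n + 1) by ring]
  have hgood : ∀ d ∈ D, d ∉ Subgroup.zpowers z → ∃ g : G, d = g * u * g⁻¹ ∨ d = (g * u * g⁻¹)⁻¹ := by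
    intro d hd hdz
    obtain ⟨⟨a', ha'⟩, ⟨b, hb⟩, rfl⟩ := exists_eq_pow_mul_pow hu hz hzu hDc huD hzD hd
    simp only at hdz ⊢
    have hmod : ∀ m : ℕ, z ^ m = z ^ (m % 3) := fun m => pow_eq_pow_mod m hz3
    interval_cases a'
    · exact absurd (by simpa using Subgroup.pow_mem _ (Subgroup.mem_zpowers z) b) hdz
    · refine ⟨p ^ (j * b), Or.inl ?_⟩
      rw [hiter, pow_one, hmod (j * (j * b))]
      congr 2
      interval_cases j <;> interval_cases b <;> first | rfl | omega
    · refine ⟨p ^ (2 * (j * b)), Or.inr ?_⟩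
      rw [hiter, mul_inv_rev, (hzu'.symm.pow_left _).inv_left.inv_right.eq, hu2]
      congr 1
      rw [eq_inv_iff_mul_eq_one, ← pow_add, hmod]
      interval_cases j <;> interval_cases b <;> first | rfl | exact pow_zero z | omega
  have ht2 : t * t = 1 := by rw [← sq, ← ht, pow_orderOf_eq_one]
  have ht' : t⁻¹ = t := inv_eq_of_mul_eq_one_left ht2
  have htz : t * z * t⁻¹ = z⁻¹ := by
    have hmem : t * z * t⁻¹ ∈ D := hD'' t htK z hzD
    by_cases hin : t * z * t⁻¹ ∈ Subgroup.zpowers z
    · obtain ⟨i, hi, hti⟩ := Finset.mem_image.1 (mem_zpowers_iff_mem_range_orderOf.1 hin)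
      rw [hz, Finset.mem_range] at hi
      interval_cases i
      · exfalso
        have ho := orderOf_conj3 t z
        rw [← hti, pow_zero, orderOf_one, hz] at ho
        norm_num at ho
      · exfalso
        have hc : z * t = t * z := by
          rw [pow_one] at hti
          nth_rewrite 1 [hti]
          group
        have h9 : Nat.card (Fin 3 × Fin 3) ≤
            Nat.card ↥(Subgroup.centralizer ({u} : Set G) ⊓ Subgroup.centralizer ({t} : Set G)) := by
          refine Nat.card_le_card_of_injective (fun q => ⟨u ^ (q.1 : ℕ) * z ^ (q.2 : ℕ),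
            K.mul_mem (K.pow_mem huK _) (K.pow_mem hzK _),
            Subgroup.mul_mem _ (Subgroup.pow_mem _ (Subgroup.mem_centralizer_singleton_iff.2 hut) _)
              (Subgroup.pow_mem _ (Subgroup.mem_centralizer_singleton_iff.2 hc) _)⟩)
            fun a b hab => pair_injective hu hz hzu (congrArg Subtype.val hab)
        rw [card_centralizer_inf e ht hu hut] at h9
        simp at h9
      · rw [← hti, hz2]
    · exfalso
      obtain ⟨g, hg | hg⟩ := hgood _ hmem hin
      · refine (hnot (t⁻¹ * g)).1 ?_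
        calc t⁻¹ * g * u * (t⁻¹ * g)⁻¹ = t⁻¹ * (g * u * g⁻¹) * t := by group
          _ = z := by rw [← hg]; group
      · refine (hnot (t⁻¹ * g)).2 ?_
        calc t⁻¹ * g * u * (t⁻¹ * g)⁻¹ = t⁻¹ * (g * u * g⁻¹)⁻¹⁻¹ * t := by group
          _ = z⁻¹ := by rw [← hg]; group
  -- the centralizer of `z` is the Sylow subgroup
  have hCz : Subgroup.centralizer ({z} : Set G) = (P : Subgroup G) := by
    set L := Subgroup.centralizer ({z} : Set G)
    have h27L : 27 ∣ Nat.card L := hPc ▸ Subgroup.card_dvd_of_le hPz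
    have h2L : ¬ 2 ∣ Nat.card L := by
      intro h2
      obtain ⟨i, hi⟩ := exists_prime_orderOf_dvd_card' (G := L) 2 h2
      obtain ⟨g, hg⟩ := isConj_iff.1 (isConj_t e ht (x := (i : G)) (by rw [Subgroup.orderOf_coe, hi]))
      have hiz := Subgroup.mem_centralizer_singleton_iff.1 i.2
      rw [← hg] at hiz
      have h1 : IsConj (u0 e) (g⁻¹ * z * g) := isConj_u0 e ht
        (by simpa [hz] using orderOf_conj3 g⁻¹ z)
        (by calc g⁻¹ * z * g * t = g⁻¹ * (z * (g * t * g⁻¹)) * g := by group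
              _ = _ := by rw [← hiz]; group)
      have h2' : IsConj u (g⁻¹ * z * g) := (isConj_u0 e ht hu hut).symm.trans h1
      obtain ⟨c, hc⟩ := isConj_iff.1 h2'
      refine (hnot (g * c)).1 ?_
      calc g * c * u * (g * c)⁻¹ = g * (c * u * c⁻¹) * g⁻¹ := by group
        _ = z := by rw [hc]; group
    have h13L : ¬ 13 ∣ Nat.card L := by
      intro h13
      have : Fact (Nat.Prime 13) := ⟨by norm_num⟩
      obtain ⟨y, hy⟩ := exists_prime_orderOf_dvd_card' (G := L) 13 h13
      exact no_thirteen_three e ht hN (y := (y : G)) (by rw [Subgroup.orderOf_coe, hy]) hz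
        (Subgroup.mem_centralizer_singleton_iff.1 y.2)
    have key : ∀ d ∈ Nat.divisors 5616, 27 ∣ d → ¬ 2 ∣ d → ¬ 13 ∣ d → d = 27 := by decide +kernel
    exact (Subgroup.eq_of_le_of_card_ge hPz (le_of_eq (by
      rw [hPc, key _ (Nat.mem_divisors.2 ⟨hN ▸ L.card_subgroup_dvd_card, by norm_num⟩) h27L h2L h13L]))).symm
  set N := Subgroup.normalizer ((P : Subgroup G) : Set G) with hNdef
  have htN : t ∈ N := by
    rw [hNdef, Subgroup.mem_normalizer_iff]
    intro q
    rw [← hCz, Subgroup.mem_centralizer_singleton_iff, Subgroup.mem_centralizer_singleton_iff]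
    have htz2 : t * z = z⁻¹ * t := by rw [← htz]; group
    have hzi : ∀ r : G, r * z = z * r ↔ r * z⁻¹ = z⁻¹ * r := fun r =>
      ⟨fun h => (Commute.inv_right h).eq, fun h => by simpa using (Commute.inv_right h).eq⟩
    constructor
    · intro hq
      rw [hzi]
      calc t * q * t⁻¹ * z⁻¹ = t * q * t⁻¹ * (t * z * t⁻¹) := by rw [htz]
        _ = t * (q * z) * t⁻¹ := by group
        _ = t * (z * q) * t⁻¹ := by rw [hq]
        _ = (t * z * t⁻¹) * (t * q * t⁻¹) := by group
        _ = _ := by rw [htz]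
    · intro hq
      rw [hzi] at hq
      rw [← htz] at hq
      calc q * z = t⁻¹ * (t * q * t⁻¹ * (t * z * t⁻¹)) * t := by group
        _ = t⁻¹ * ((t * z * t⁻¹) * (t * q * t⁻¹)) * t := by rw [hq]
        _ = z * q := by group
  have hcenter : ∀ c ∈ (P : Subgroup G), (∀ q ∈ (P : Subgroup G), q * c = c * q) →
      c ∈ Subgroup.zpowers z := by
    intro c hc hcc
    have hcK : c ∈ K := Subgroup.mem_centralizer_singleton_iff.2 (hcc u huP).symm
    have hPK : D = (P : Subgroup G) ⊓ K := by
      have hle : D ≤ (P : Subgroup G) ⊓ K := le_inf hDP (Subgroup.map_subtype_le _)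
      refine Subgroup.eq_of_le_of_card_ge hle ?_
      have hd1 := Subgroup.card_dvd_of_le (inf_le_left : (P : Subgroup G) ⊓ K ≤ _)
      have hd2 := Subgroup.card_dvd_of_le (inf_le_right : (P : Subgroup G) ⊓ K ≤ K)
      rw [hPc] at hd1
      rw [hK18] at hd2
      have := Nat.le_of_dvd (by norm_num) (Nat.dvd_gcd hd1 hd2)
      rw [hDc]
      norm_num at this ⊢
      exact this
    by_contra hcz
    obtain ⟨g, hg⟩ := hgood c (hPK ▸ ⟨hc, hcK⟩) hcz
    have hcu : IsConj u c ∨ IsConj u c⁻¹ := by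
      rcases hg with h | h
      · exact Or.inl (isConj_iff.2 ⟨g, h.symm⟩)
      · exact Or.inr (isConj_iff.2 ⟨g, by rw [h, inv_inv]⟩)
    apply h27
    obtain ⟨c', hc', hcc', hconj⟩ : ∃ c' : G, c' ∈ (P : Subgroup G) ∧
        (∀ q ∈ (P : Subgroup G), q * c' = c' * q) ∧ IsConj u c' := by
      rcases hcu with h | h
      · exact ⟨c, hc, hcc, h⟩
      · exact ⟨c⁻¹, inv_mem hc, fun q hq => (Commute.inv_right (hcc q hq : Commute q c)).eq, h⟩
    obtain ⟨k, hk⟩ := isConj_iff.1 hconj
    rw [← hPc, ← Subgroup.card_map_of_injective (K := (P : Subgroup G))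
      (f := (MulAut.conj k⁻¹).toMonoidHom) (MulAut.conj k⁻¹).injective]
    refine Subgroup.card_dvd_of_le ?_
    rintro _ ⟨q, hq, rfl⟩
    have hqc := hcc' q hq
    rw [← hk] at hqc
    rw [Subgroup.mem_centralizer_singleton_iff]
    show k⁻¹ * q * k⁻¹⁻¹ * u = u * (k⁻¹ * q * k⁻¹⁻¹)
    rw [inv_inv]
    calc k⁻¹ * q * k * u = k⁻¹ * (q * (k * u * k⁻¹)) * k := by group
      _ = _ := by rw [hqc]; group
  have hNle : Nat.card N ≤ 54 := by
    have hsurj : ∀ n : N, ∃ q : Fin 2 × (P : Subgroup G), t ^ (q.1 : ℕ) * (q.2 : G) = (n : G) := by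
      intro n
      have hn := Subgroup.mem_normalizer_iff.1 n.2
      have hmem : (n : G) * z * (n : G)⁻¹ ∈ Subgroup.zpowers z := by
        refine hcenter _ ((hn z).1 hzP) fun q hq => ?_
        have hq' : (n : G)⁻¹ * q * n ∈ (P : Subgroup G) := by
          refine (hn _).2 ?_
          simpa [mul_assoc] using hq
        calc q * ((n : G) * z * (n : G)⁻¹) = n * ((n : G)⁻¹ * q * n * z) * (n : G)⁻¹ := by group
          _ = _ := by rw [hzcomm _ hq']; group
      obtain ⟨i, hi, hni⟩ := Finset.mem_image.1 (mem_zpowers_iff_mem_range_orderOf.1 hmem)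
      rw [hz, Finset.mem_range] at hi
      interval_cases i
      · exfalso
        have ho := orderOf_conj3 (n : G) z
        rw [← hni, pow_zero, orderOf_one, hz] at ho
        norm_num at ho
      · have hnP : (n : G) ∈ (P : Subgroup G) := by
          rw [← hCz]
          exact mem_centralizer_single.2 (by rw [← hni, pow_one])
        exact ⟨(0, ⟨n, hnP⟩), by simp⟩
      · have hnP : t * (n : G) ∈ (P : Subgroup G) := by
          rw [← hCz]
          refine mem_centralizer_single.2 ?_
          rw [show t * (n : G) * z * (t * (n : G))⁻¹ = t * ((n : G) * z * (n : G)⁻¹) * t⁻¹ by group, ← hni,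
            hz2, show t * z⁻¹ * t⁻¹ = (t * z * t⁻¹)⁻¹ by group, htz, inv_inv]
        exact ⟨(1, ⟨_, hnP⟩), by simp [← mul_assoc, ht2]⟩
    choose f hf using hsurj
    have hle := Nat.card_le_card_of_injective f fun a b hab => Subtype.ext (by rw [← hf a, ← hf b, hab])
    rw [Nat.card_prod, Nat.card_fin, hPc] at hle
    exact hle
  rcases card_normalizer_cases e hN P ht htN with h | h <;>
    · change Nat.card N = _ at h
      omega

end CfsgLib.Blocks.GLTwoThreeCentralizer
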