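import Mathlib
import Cfsg.Agent.Lib.Blocks.GLTwoThreeCentralizer.Structure

/-!
# A subgroup of order nine with a transitive normalizer of order `432`
-/

set_option autoImplicit false

namespace CfsgLib.Blocks.GLTwoThreeCentralizer

open scoped Classical Pointwise

variable {G : Type*} [Group G] [Finite G]

/-- An involution normalizing a finite subgroup without non-trivial fixed points inverts it. -/
theorem inverts_of_fixed_trivial (P : Subgroup G) {i : G} (hi : i * i = 1)
    (hn : i ∈ Subgroup.normalizer (P : Set G))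
    (hfix : ∀ p ∈ P, i * p * i⁻¹ = p → p = 1) : ∀ p ∈ P, i * p * i⁻¹ = p⁻¹ := by
  have hmem : ∀ p ∈ P, i * p * i⁻¹ ∈ P := fun p hp => (Subgroup.mem_normalizer_iff.1 hn p).1 hp
  let φ : P →* P :=
    { toFun := fun p => ⟨i * p * i⁻¹, hmem p p.2⟩
      map_one' := Subtype.ext (by simp)
      map_mul' := fun a b => Subtype.ext (by simp only [Subgroup.coe_mul]; group) }
  have hinv : Function.Involutive φ := fun p => Subtype.ext (by
    show i * (i * p * i⁻¹) * i⁻¹ = (p : G)
    rw [show i * (i * (p : G) * i⁻¹) * i⁻¹ = i * i * p * (i * i)⁻¹ by group, hi]; simp)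
  have hfp : MonoidHom.FixedPointFree φ := fun p hp =>
    Subtype.ext (hfix p p.2 (congrArg Subtype.val hp))
  intro p hp
  exact congrArg Subtype.val (congrFun (hfp.coe_eq_inv_of_involutive hinv) ⟨p, hp⟩)

/-- Squaring is injective on a `3`-group. -/
theorem sq_injOn {P : Subgroup G} (hP : IsPGroup 3 P) {a b : G} (ha : a ∈ P) (hb : b ∈ P)
    (h : a ^ 2 = b ^ 2) : a = b := by
  have h2 : (⟨a, ha⟩ : P) ^ 2 = (⟨b, hb⟩ : P) ^ 2 := Subtype.ext h
  rw [← hP.powEquiv_apply (by norm_num), ← hP.powEquiv_apply (by norm_num)] at h2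
  exact congrArg Subtype.val ((hP.powEquiv _).injective h2)

variable [IsSimpleGroup G] {t : G}
variable (e : Subgroup.centralizer ({t} : Set G) ≃* GLT) (ht : orderOf t = 2)
  (hN : Nat.card G = 5616)

include e ht hN

/-- A Sylow `3`-normalizer does not have order `432`. -/
theorem normalizer_ne_432 (P : Sylow 3 G) :
    Nat.card (Subgroup.normalizer ((P : Subgroup G) : Set G)) ≠ 432 := by
  intro h432
  have : Fact (Nat.Prime 3) := ⟨Nat.prime_three⟩
  have : Fact (Nat.Prime 2) := ⟨Nat.prime_two⟩
  obtain ⟨P0, hP0c, hP0C⟩ := exists_sylow_le e ht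
  set N := Subgroup.normalizer ((P : Subgroup G) : Set G)
  let Q' : Sylow 2 N := default
  have hQ'c : Nat.card ((Q' : Subgroup N).map N.subtype) = 2 ^ (Nat.card G).factorization 2 := by
    rw [Subgroup.card_map_of_injective N.subtype_injective, ← P0.card_eq_multiplicity, hP0c,
      Q'.card_eq_multiplicity, h432, show (432 : ℕ) = 2 ^ 4 * 27 by norm_num,
      Nat.factorization_mul (by norm_num) (by norm_num)]
    simp only [Finsupp.coe_add, Pi.add_apply]
    rw [Nat.Prime.factorization_pow Nat.prime_two,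
      Nat.factorization_eq_zero_of_not_dvd (show ¬ 2 ∣ 27 by norm_num)]
    simp
  obtain ⟨c, hc⟩ := MulAction.exists_smul_eq G (Sylow.ofCard _ hQ'c) P0
  set R : Sylow 3 G := c • P with hR
  have hRn : ∀ g ∈ (P0 : Subgroup G), g ∈ Subgroup.normalizer ((R : Subgroup G) : Set G) := by
    intro g hg
    have hg' : g ∈ (c • Sylow.ofCard _ hQ'c : Sylow 2 G) := by rw [hc]; exact hg
    change g ∈ (MulAut.conj c • ((Q' : Subgroup N).map N.subtype) : Subgroup G) at hg'
    rw [Subgroup.mem_pointwise_smul_iff_inv_smul_mem] at hg'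
    obtain ⟨w, -, hw⟩ := hg'
    have hwN : c⁻¹ * g * c ∈ N := by
      have : (w : G) = c⁻¹ * g * c := by
        rw [show (w : G) = (MulAut.conj c)⁻¹ • g from hw]; simp
      rw [← this]; exact w.2
    have hwN' : (c⁻¹ * g * c) • P = P := Sylow.smul_eq_iff_mem_normalizer.2 hwN
    refine Sylow.smul_eq_iff_mem_normalizer.1 ?_
    rw [hR, ← mul_smul]
    calc (g * c) • P = c • ((c⁻¹ * g * c) • P) := by rw [← mul_smul]; congr 1; group
      _ = c • P := by rw [hwN']
  have hRc := card_sylow_three hN R
  have ht2 : t * t = 1 := by rw [← sq, ← ht, pow_orderOf_eq_one]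
  have htP0 : t ∈ (P0 : Subgroup G) := by
    have hp : IsPGroup 2 (Subgroup.zpowers t) :=
      IsPGroup.of_card (n := 1) (by rw [Nat.card_zpowers, ht, pow_one])
    have htn : t ∈ Subgroup.normalizer ((P0 : Subgroup G) : Set G) := by
      rw [Subgroup.mem_normalizer_iff]
      intro q
      constructor
      · intro hq
        rwa [← Subgroup.mem_centralizer_singleton_iff.1 (hP0C hq), mul_inv_cancel_right]
      · intro hq
        have h := Subgroup.mem_centralizer_singleton_iff.1 (hP0C hq)
        have : q = t * q * t⁻¹ := by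
          calc q = t⁻¹ * (t * q * t⁻¹ * t) := by group
            _ = t⁻¹ * (t * (t * q * t⁻¹)) := by rw [h]
            _ = _ := by group
        rwa [this]
    have := hp.inf_normalizer_sylow P0
    exact (this.le ⟨Subgroup.mem_zpowers t, htn⟩).2
  -- a second involution
  obtain ⟨a, haP0, hao, hat⟩ : ∃ a ∈ (P0 : Subgroup G), orderOf a = 2 ∧ a ≠ t := by
    obtain ⟨hr1, hr2⟩ := reflection_mem
    obtain ⟨rC, hrC⟩ := exists_ct e (Finset.mem_filter.1 hr1).1
    have hro : orderOf (rC : G) = 2 := orderOf_of_mem_invs e (hrC ▸ hr1)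
    have hrne : (rC : G) ≠ t := by
      intro h
      apply hr2
      rw [← hrC, show rC = tC t from Subtype.ext h, ct_t e ht]
      decide +kernel
    have hT : IsPGroup 2 (Subgroup.zpowers (rC : G) ⊔ Subgroup.zpowers t : Subgroup G) := by
      refine IsPGroup.to_sup_of_normal_right' (IsPGroup.of_card (n := 1) (by
        rw [Nat.card_zpowers, hro, pow_one])) (IsPGroup.of_card (n := 1) (by
        rw [Nat.card_zpowers, ht, pow_one])) ?_
      rw [Subgroup.zpowers_le, Subgroup.mem_normalizer_iff]
      intro q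
      have hc : Commute (rC : G) t := Subgroup.mem_centralizer_singleton_iff.1 rC.2
      constructor
      · intro hq
        obtain ⟨k, rfl⟩ := Subgroup.mem_zpowers_iff.1 hq
        rw [(hc.zpow_right k).eq, mul_inv_cancel_right]
        exact Subgroup.zpow_mem _ (Subgroup.mem_zpowers t) k
      · intro hq
        obtain ⟨k, hk⟩ := Subgroup.mem_zpowers_iff.1 hq
        have : q = t ^ k := by
          calc q = (rC : G)⁻¹ * ((rC : G) * q * (rC : G)⁻¹) * rC := by group
            _ = (rC : G)⁻¹ * (t ^ k * rC) := by rw [← hk]; group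
            _ = t ^ k := by rw [← (hc.zpow_right k).eq, inv_mul_cancel_left]
        rw [this]
        exact Subgroup.zpow_mem _ (Subgroup.mem_zpowers t) k
    obtain ⟨S, hS⟩ := hT.exists_le_sylow
    obtain ⟨g, hg⟩ := MulAction.exists_smul_eq G S P0
    have hmem : ∀ q ∈ (S : Subgroup G), g * q * g⁻¹ ∈ (P0 : Subgroup G) := fun q hq => by
      rw [← hg, Sylow.coe_subgroup_smul]
      exact Subgroup.smul_mem_pointwise_smul q (MulAut.conj g) _ hq
    by_cases hgt : g * t * g⁻¹ = t
    · refine ⟨g * rC * g⁻¹, hmem _ (hS (Subgroup.mem_sup_left (Subgroup.mem_zpowers _))),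
        by rw [orderOf_conj3, hro], fun h => hrne ?_⟩
      exact (MulAut.conj g).injective (h.trans hgt.symm)
    · exact ⟨g * t * g⁻¹, hmem _ (hS (Subgroup.mem_sup_right (Subgroup.mem_zpowers _))),
        by rw [orderOf_conj3, ht], hgt⟩
  have haC : a * t = t * a := Subgroup.mem_centralizer_singleton_iff.1 (hP0C haP0)
  have ha2 : a * a = 1 := by rw [← sq, ← hao, pow_orderOf_eq_one]
  have hfixt : ∀ p ∈ (R : Subgroup G), t * p * t⁻¹ = p → p = 1 := by
    intro p hp hpt
    by_contra hp1
    set F := (R : Subgroup G) ⊓ Subgroup.centralizer ({t} : Set G) with hF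
    have hFp : IsPGroup 3 F := R.2.to_le inf_le_left
    have hFd := card_three_group_dvd e ht ht hFp inf_le_right
    have hpF : p ∈ F := ⟨hp, Subgroup.mem_centralizer_singleton_iff.2 (mul_inv_eq_iff_eq_mul.1 hpt).symm⟩
    have hFc : Nat.card F = 3 := by
      refine ((Nat.dvd_prime Nat.prime_three).1 hFd).resolve_left fun h => hp1 ?_
      rw [Subgroup.card_eq_one.1 h] at hpF
      exact Subgroup.mem_bot.1 hpF
    have hpo : orderOf p = 3 := by
      have hd := hFc ▸ Subgroup.orderOf_dvd_natCard F hpF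
      exact ((Nat.dvd_prime Nat.prime_three).1 hd).resolve_left (by simpa using hp1)
    have hFz : F = Subgroup.zpowers p := (Subgroup.eq_of_le_of_card_ge (Subgroup.zpowers_le.2 hpF)
      (by rw [hFc, Nat.card_zpowers, hpo])).symm
    have hle := card_normalizing_le e ht hpo (mul_inv_eq_iff_eq_mul.1 hpt).symm (P0 : Subgroup G) hP0C
      fun g hg => by
        rw [← hFz]
        refine ⟨(Subgroup.mem_normalizer_iff.1 (hRn g hg) p).1 hp,
          Subgroup.mem_centralizer_singleton_iff.2 ?_⟩
        have hgt := Subgroup.mem_centralizer_singleton_iff.1 (hP0C hg)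
        have hpt' := Subgroup.mem_centralizer_singleton_iff.1 hpF.2
        calc g * p * g⁻¹ * t = g * p * (g⁻¹ * (t * g)) * g⁻¹ := by group
          _ = g * (p * t) * g⁻¹ := by rw [← hgt]; group
          _ = g * t * (p * g⁻¹) := by rw [hpt']; group
          _ = _ := by rw [hgt]; group
    rw [hP0c] at hle
    norm_num at hle
  have hinv := inverts_of_fixed_trivial (R : Subgroup G) ht2 (hRn t htP0) hfixt
  have habel : ∀ x ∈ (R : Subgroup G), ∀ y ∈ (R : Subgroup G), x * y = y * x := by
    intro x hx y hy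
    have h := hinv _ ((R : Subgroup G).mul_mem hx hy)
    rw [show t * (x * y) * t⁻¹ = t * x * t⁻¹ * (t * y * t⁻¹) by group, hinv x hx, hinv y hy,
      ← mul_inv_rev, inv_inj] at h
    exact h.symm
  set b := a * t with hb
  have hb2 : b * b = 1 := by
    rw [hb, show a * t * (a * t) = a * (t * a) * t by group, ← haC,
      show a * (a * t) * t = a * a * (t * t) by group, ha2, ht2, one_mul]
  have hbo : orderOf b = 2 := orderOf_eq_prime (by rw [sq]; exact hb2) fun h => hat (by
    have : a = t⁻¹ := eq_inv_of_mul_eq_one_left h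
    rw [this, inv_eq_of_mul_eq_one_left ht2])
  have han := hRn a haP0
  have hbn := hRn b ((P0 : Subgroup G).mul_mem haP0 htP0)
  have hmap : ∀ (i : G), i * i = 1 → i ∈ Subgroup.normalizer ((R : Subgroup G) : Set G) →
      ∀ p ∈ (R : Subgroup G), p * (i * p * i⁻¹) ∈ (R : Subgroup G) ⊓ Subgroup.centralizer ({i} : Set G) := by
    intro i hi hin p hp
    have hq := (Subgroup.mem_normalizer_iff.1 hin p).1 hp
    refine ⟨(R : Subgroup G).mul_mem hp hq, Subgroup.mem_centralizer_singleton_iff.2 ?_⟩
    have hi' : i⁻¹ = i := inv_eq_of_mul_eq_one_left hi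
    rw [hi'] at hq ⊢
    calc p * (i * p * i) * i = p * (i * p) * (i * i) := by group
      _ = p * (i * p) := by rw [hi, mul_one]
      _ = i * (i * p) * (i * p) := by rw [← mul_assoc i i, hi, one_mul]
      _ = i * ((i * p * i) * p) := by group
      _ = i * (p * (i * p * i)) := by rw [habel _ hq _ hp]
  have hinj : Function.Injective (fun p : (R : Subgroup G) =>
      ((⟨_, hmap a ha2 han p p.2⟩, ⟨_, hmap b hb2 hbn p p.2⟩) :
        ↥((R : Subgroup G) ⊓ Subgroup.centralizer ({a} : Set G)) ×
        ↥((R : Subgroup G) ⊓ Subgroup.centralizer ({b} : Set G)))) := by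
    intro p q hpq
    simp only [Prod.mk.injEq, Subtype.mk.injEq] at hpq
    have key : ∀ r ∈ (R : Subgroup G), r * (a * r * a⁻¹) * (r * (b * r * b⁻¹)) = r ^ 2 := by
      intro r hr
      have har := (Subgroup.mem_normalizer_iff.1 han r).1 hr
      have hbr : b * r * b⁻¹ = (a * r * a⁻¹)⁻¹ := by
        rw [hb, show a * t * r * (a * t)⁻¹ = a * (t * r * t⁻¹) * a⁻¹ by group, hinv r hr]; group
      rw [hbr, habel r hr _ ((R : Subgroup G).inv_mem har)]
      rw [sq]
      group
    refine Subtype.ext (sq_injOn R.2 p.2 q.2 ?_)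
    rw [← key p p.2, ← key q q.2, hpq.1, hpq.2]
  have hle := Nat.card_le_card_of_injective _ hinj
  rw [hRc, Nat.card_prod] at hle
  have h1 := Nat.le_of_dvd (by norm_num) (card_three_group_dvd e ht hao (R.2.to_le inf_le_left)
    (inf_le_right : (R : Subgroup G) ⊓ Subgroup.centralizer ({a} : Set G) ≤ _))
  have h2 := Nat.le_of_dvd (by norm_num) (card_three_group_dvd e ht hbo (R.2.to_le inf_le_left)
    (inf_le_right : (R : Subgroup G) ⊓ Subgroup.centralizer ({b} : Set G) ≤ _))
  have := Nat.mul_le_mul h1 h2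
  omega

/-- A subgroup of order nine with a transitive normalizer of order `432`. -/
theorem exists_nine :
    ∃ (A : Subgroup G) (P : Sylow 3 G) (u : G), Nat.card A = 9 ∧ u ∈ A ∧ orderOf u = 3 ∧
      A ≤ (P : Subgroup G) ∧ (P : Subgroup G) ≤ Subgroup.centralizer ({u} : Set G) ∧
      Subgroup.normalizer ((P : Subgroup G) : Set G) ≤ Subgroup.normalizer (A : Set G) ∧
      Nat.card (Subgroup.normalizer (A : Set G)) = 432 ∧
      ∀ a ∈ A, a ≠ 1 → ∃ n ∈ Subgroup.normalizer (A : Set G), n * u * n⁻¹ = a := by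
  have : Fact (Nat.Prime 3) := ⟨Nat.prime_three⟩
  have : Fact (Nat.Prime 2) := ⟨Nat.prime_two⟩
  set u := u0 e with hudef
  have hu : orderOf u = 3 := orderOf_u0 e ht
  have hut : u * t = t * u :=
    Subgroup.mem_centralizer_singleton_iff.1 (exists_ct e (Finset.mem_filter.1 unipotent_mem).1).choose.2
  set K := Subgroup.centralizer ({u} : Set G) with hKdef
  have hK := card_centralizer_u e ht hN hu hut
  let P' : Sylow 3 K := default
  have hP'c : Nat.card (P' : Subgroup K) = 27 := by
    rw [P'.card_eq_multiplicity, hK, show (54 : ℕ) = 3 ^ 3 * 2 by norm_num,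
      Nat.factorization_mul (by norm_num) (by norm_num)]
    simp only [Finsupp.coe_add, Pi.add_apply]
    rw [Nat.Prime.factorization_pow Nat.prime_three,
      Nat.factorization_eq_zero_of_not_dvd (show ¬ 3 ∣ 2 by norm_num)]
    simp
  have hP'n : (P' : Subgroup K).Normal := Subgroup.normal_of_index_eq_two (by
    have h := (P' : Subgroup K).card_mul_index
    rw [hP'c, hK] at h
    omega)
  let P : Sylow 3 G := Sylow.ofCard ((P' : Subgroup K).map K.subtype) (by
    rw [Subgroup.card_map_of_injective K.subtype_injective, hP'c, hN, show (5616 : ℕ) = 3 ^ 3 * 208 by norm_num,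
      Nat.factorization_mul (by norm_num) (by norm_num)]
    simp only [Finsupp.coe_add, Pi.add_apply]
    rw [Nat.Prime.factorization_pow Nat.prime_three,
      Nat.factorization_eq_zero_of_not_dvd (show ¬ 3 ∣ 208 by norm_num)]
    simp)
  have hPK : (P : Subgroup G) ≤ K := Subgroup.map_subtype_le _
  have hPc := card_sylow_three hN P
  set N := Subgroup.normalizer ((P : Subgroup G) : Set G) with hNdef
  have htK : t ∈ K := Subgroup.mem_centralizer_singleton_iff.2 hut.symm
  have hKN : K ≤ N := fun g hg => by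
    rw [hNdef, Subgroup.mem_normalizer_iff]
    intro q
    constructor
    · rintro ⟨w, hw, rfl⟩
      exact ⟨⟨g, hg⟩ * w * ⟨g, hg⟩⁻¹, hP'n.conj_mem w hw _, rfl⟩
    · rintro ⟨w, hw, hwq⟩
      refine ⟨⟨g, hg⟩⁻¹ * w * ⟨g, hg⟩, by have h9 :=  hP'n.conj_mem w hw (⟨g, hg⟩ : K)⁻¹; rw [inv_inv] at h9; exact h9, ?_⟩
      show g⁻¹ * (w : G) * g = q
      rw [show (w : G) = g * q * g⁻¹ from hwq]; group
  have huP : u ∈ (P : Subgroup G) := by
    obtain ⟨Q, hQ⟩ := (IsPGroup.of_card (n := 1)
      (by rw [Nat.card_zpowers, hu, pow_one]) : IsPGroup 3 (Subgroup.zpowers u)).exists_le_sylow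
    have hz : IsPGroup 3 (Subgroup.zpowers u) :=
      IsPGroup.of_card (n := 1) (by rw [Nat.card_zpowers, hu, pow_one])
    have h := hz.inf_normalizer_sylow P
    exact (h.le ⟨Subgroup.mem_zpowers u, hKN (Subgroup.mem_centralizer_singleton_iff.2 rfl)⟩).2
  have hN108 : Nat.card N = 108 :=
    (card_normalizer_cases e hN P ht (hKN htK)).resolve_right (normalizer_ne_432 e ht hN P)
  -- a second involution normalizing `P`
  obtain ⟨T, hT, hTle⟩ := Sylow.exists_subgroup_card_pow_succ (G := N) (p := 2) (n := 1)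
    (by rw [hN108]; norm_num) (H := Subgroup.zpowers (⟨t, hKN htK⟩ : N))
    (by rw [Nat.card_zpowers, ← Subgroup.orderOf_coe, pow_one]; exact ht)
  obtain ⟨aN, haT, hat⟩ : ∃ a ∈ T, a ∉ Subgroup.zpowers (⟨t, hKN htK⟩ : N) := by
    by_contra hcon
    push Not at hcon
    have h := Nat.le_of_dvd Nat.card_pos (Subgroup.card_dvd_of_le
      (show T ≤ Subgroup.zpowers (⟨t, hKN htK⟩ : N) from hcon))
    rw [hT, Nat.card_zpowers, ← Subgroup.orderOf_coe, Subgroup.coe_mk, ht] at h
    norm_num at h
  set a : G := (aN : G) with hadef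
  have haN : a ∈ N := aN.2
  have htaN := Subgroup.mem_normalizer_iff.1 haN
  have hac : a * t = t * a := congrArg (fun z : T => ((z : N) : G))
    (IsPGroup.commutative_of_card_eq_prime_sq (p := 2) (G := T) (by rw [hT]) ⟨aN, haT⟩
      ⟨_, hTle (Subgroup.mem_zpowers _)⟩)
  have ha4 : a ^ 4 = 1 := by
    have h : (⟨aN, haT⟩ : T) ^ Nat.card T = 1 := pow_card_eq_one'
    rw [hT] at h
    have h' := congrArg (fun z : T => ((z : N) : G)) h
    simpa using h'
  have ha1 : a ≠ 1 ∧ a ≠ t := by
    constructor <;> intro h <;> apply hat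
    · rw [show aN = 1 from Subtype.ext h]; exact one_mem _
    · rw [show aN = ⟨t, hKN htK⟩ from Subtype.ext h]; exact Subgroup.mem_zpowers _
  -- the fixed points of `t` on `P`
  have hfixt : (P : Subgroup G) ⊓ Subgroup.centralizer ({t} : Set G) = Subgroup.zpowers u := by
    refine (Subgroup.eq_of_le_of_card_ge (Subgroup.zpowers_le.2
      (show u ∈ (P : Subgroup G) ⊓ Subgroup.centralizer ({t} : Set G) from
        ⟨huP, Subgroup.mem_centralizer_singleton_iff.2 hut⟩)) ?_).symm
    rw [Nat.card_zpowers, hu]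
    exact Nat.le_of_dvd (by norm_num) (card_three_group_dvd e ht ht (P.2.to_le inf_le_left) inf_le_right)
  have hau : a * u * a⁻¹ ∈ Subgroup.zpowers u := by
    rw [← hfixt]
    refine ⟨(htaN u).1 huP, Subgroup.mem_centralizer_singleton_iff.2 ?_⟩
    calc a * u * a⁻¹ * t = a * u * (a⁻¹ * (t * a)) * a⁻¹ := by group
      _ = a * (u * t) * a⁻¹ := by rw [← hac]; group
      _ = (a * t) * u * a⁻¹ := by rw [hut]; group
      _ = _ := by rw [hac]; group
  have ha2 : a * a = 1 := by
    by_contra hne
    set aC : Subgroup.centralizer ({t} : Set G) := ⟨a, Subgroup.mem_centralizer_singleton_iff.2 hac⟩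
    set uC : Subgroup.centralizer ({t} : Set G) := ⟨u, Subgroup.mem_centralizer_singleton_iff.2 hut⟩
    have haa : a * a = t := by
      have ho : orderOf (a * a) = 2 := orderOf_eq_prime (by rw [← sq, ← pow_mul]; exact ha4) hne
      have hmem : (aN * aN) ∈ T := T.mul_mem haT haT
      -- in a cyclic group of order four there is one involution
      have hz : T = Subgroup.zpowers aN := by
        refine (Subgroup.eq_of_le_of_card_ge (Subgroup.zpowers_le.2 haT) ?_).symm
        rw [hT, Nat.card_zpowers, ← Subgroup.orderOf_coe]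
        have : orderOf a = 2 ^ 2 := orderOf_eq_prime_pow (p := 2) (n := 1)
          (by rw [pow_one, sq]; exact hne) (by simpa using ha4)
        rw [this]
      refine CfsgLib.Signalizer.unique_involution_in_zpowers (x := a) ?_ ?_ ho ht
      · rw [← sq]; exact Subgroup.pow_mem _ (Subgroup.mem_zpowers a) 2
      · obtain ⟨k, hk⟩ := Subgroup.mem_zpowers_iff.1 (hz ▸ hTle (Subgroup.mem_zpowers _))
        exact ⟨k, by simpa using congrArg Subtype.val hk⟩
    have hq : qmul (ct e aC) (ct e aC) = qneg := by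
      rw [← ct_mul, ← ct_t e ht]; congr 1; exact Subtype.ext haa
    obtain ⟨h1, h2⟩ := four_not_normalizing _ (ct_mem e _) hq _ (mem_threes e ht (x := uC) hu)
    obtain ⟨i, hi, hai⟩ := Finset.mem_image.1 (mem_zpowers_iff_mem_range_orderOf.1 hau)
    rw [hu, Finset.mem_range] at hi
    have hau' : a * u = u ^ i * a := by rw [hai, inv_mul_cancel_right]
    interval_cases i
    · have h : u = 1 := by simpa using hau'
      rw [h, orderOf_one] at hu; norm_num at hu
    · apply h1
      rw [← ct_mul, ← ct_mul]; congr 1; exact Subtype.ext (by simpa using hau')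
    · apply h2
      rw [← ct_mul, ← ct_mul, ← ct_mul]; congr 1; exact Subtype.ext (by simpa [sq] using hau')
  have hao : orderOf a = 2 := orderOf_eq_prime (by rw [sq]; exact ha2) ha1.1
  have ht2 : t * t = 1 := by rw [← sq, ← ht, pow_orderOf_eq_one]
  have hainv : a * u * a⁻¹ = u⁻¹ := by
    obtain ⟨i, hi, hai⟩ := Finset.mem_image.1 (mem_zpowers_iff_mem_range_orderOf.1 hau)
    rw [hu, Finset.mem_range] at hi
    interval_cases i
    · exfalso
      have ho := orderOf_conj3 a u
      rw [← hai, pow_zero, orderOf_one, hu] at ho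
      norm_num at ho
    · exfalso
      have haK : a ∈ K ⊓ Subgroup.centralizer ({t} : Set G) :=
        ⟨mem_centralizer_single.2 (by rw [← hai, pow_one]), Subgroup.mem_centralizer_singleton_iff.2 hac⟩
      have htK' : t ∈ K ⊓ Subgroup.centralizer ({t} : Set G) :=
        ⟨htK, Subgroup.mem_centralizer_singleton_iff.2 rfl⟩
      have hle : T.map N.subtype ≤ K ⊓ Subgroup.centralizer ({t} : Set G) := by
        have hTc : T = Subgroup.closure {aN, (⟨t, hKN htK⟩ : N)} := by
          have hle' : Subgroup.closure {aN, (⟨t, hKN htK⟩ : N)} ≤ T := by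
            rw [Subgroup.closure_le]
            rintro x (rfl | rfl)
            · exact haT
            · exact hTle (Subgroup.mem_zpowers _)
          refine (Subgroup.eq_of_le_of_card_ge hle' ?_).symm
          obtain ⟨c, hc⟩ := Subgroup.card_dvd_of_le (show Subgroup.zpowers (⟨t, hKN htK⟩ : N) ≤
              Subgroup.closure {aN, (⟨t, hKN htK⟩ : N)} from
            Subgroup.zpowers_le.2 (Subgroup.subset_closure (by simp)))
          rw [Nat.card_zpowers, ← Subgroup.orderOf_coe, Subgroup.coe_mk, ht] at hc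
          rw [hT, hc]
          rcases c with _ | _ | c
          · have := (Nat.card_pos (α := Subgroup.closure {aN, (⟨t, hKN htK⟩ : N)}))
            omega
          · exfalso
            have heq := Subgroup.eq_of_le_of_card_ge (show Subgroup.zpowers (⟨t, hKN htK⟩ : N) ≤
              Subgroup.closure {aN, (⟨t, hKN htK⟩ : N)} from
              Subgroup.zpowers_le.2 (Subgroup.subset_closure (by simp)))
              (by rw [hc, Nat.card_zpowers, ← Subgroup.orderOf_coe, Subgroup.coe_mk, ht])
            exact hat (heq ▸ Subgroup.subset_closure (by simp))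
          · omega
        rw [hTc, MonoidHom.map_closure, Subgroup.closure_le]
        rintro x ⟨y, hy, rfl⟩
        rcases hy with rfl | rfl
        · exact haK
        · exact htK'
      have hd := Subgroup.card_dvd_of_le hle
      rw [Subgroup.card_map_of_injective N.subtype_injective, hT,
        card_centralizer_inf e ht hu hut] at hd
      norm_num at hd
    · rw [← hai]
      exact eq_inv_of_mul_eq_one_left (by
        rw [← pow_succ]; exact (congrArg (u ^ ·) hu.symm).trans (pow_orderOf_eq_one u))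
  -- an element of `P` off `u` centralized by `a` or `a * t`
  obtain ⟨b, hbN, hb2, hbinv, hbt, x, hxP, hx1, hbx⟩ : ∃ b ∈ N, b * b = 1 ∧ b * u * b⁻¹ = u⁻¹ ∧
      b * t = t * b ∧ ∃ x ∈ (P : Subgroup G), x ≠ 1 ∧ b * x * b⁻¹ = x := by
    by_contra hcon
    push Not at hcon
    have hb2' : a * t * (a * t) = 1 := by
      rw [show a * t * (a * t) = a * (t * a) * t by group, ← hac,
        show a * (a * t) * t = a * a * (t * t) by group, ha2, ht2, one_mul]
    have hbinv' : a * t * u * (a * t)⁻¹ = u⁻¹ := by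
      rw [show a * t * u * (a * t)⁻¹ = a * (t * u * t⁻¹) * a⁻¹ by group, ← hut, mul_inv_cancel_right, hainv]
    have hbt' : a * t * t = t * (a * t) := by rw [← mul_assoc t a t, ← hac]
    have i1 := inverts_of_fixed_trivial (P : Subgroup G) ha2 haN fun p hp h => by
      by_contra hp1; exact hcon a haN ha2 hainv hac p hp hp1 h
    have i2 := inverts_of_fixed_trivial (P : Subgroup G) hb2' (N.mul_mem haN (hKN htK)) fun p hp h => by
      by_contra hp1; exact hcon _ (N.mul_mem haN (hKN htK)) hb2' hbinv' hbt' p hp hp1 h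
    have hle : (P : Subgroup G) ≤ Subgroup.zpowers u := by
      rw [← hfixt]
      refine fun p hp => ⟨hp, ?_⟩
      refine mem_centralizer_single.2 ?_
      have h := i2 p hp
      rw [show a * t * p * (a * t)⁻¹ = a * (t * p * t⁻¹) * a⁻¹ by group,
        i1 _ ((Subgroup.mem_normalizer_iff.1 (hKN htK) p).1 hp), inv_inj] at h
      calc p * t * p⁻¹ = p * t * p⁻¹ * t⁻¹ * t := by group
        _ = p * (t * p * t⁻¹)⁻¹ * t := by group
        _ = t := by rw [h, mul_inv_cancel, one_mul]
    have hd := Subgroup.card_dvd_of_le hle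
    rw [hPc, Nat.card_zpowers, hu] at hd
    norm_num at hd
  have hb1 : b ≠ 1 := by
    rintro rfl
    have : u⁻¹ = u := by simpa using hbinv.symm
    have h2 := orderOf_dvd_of_pow_eq_one (show u ^ 2 = 1 by
      rw [sq]; nth_rewrite 1 [← this]; exact inv_mul_cancel u)
    rw [hu] at h2; norm_num at h2
  have hbo : orderOf b = 2 := orderOf_eq_prime (by rw [sq]; exact hb2) hb1
  -- `x` has order three and is conjugate to `u`
  set F := (P : Subgroup G) ⊓ Subgroup.centralizer ({b} : Set G) with hFdef
  have hxF : x ∈ F := ⟨hxP, Subgroup.mem_centralizer_singleton_iff.2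
    (mul_inv_eq_iff_eq_mul.1 hbx).symm⟩
  have hFc : Nat.card F = 3 := by
    refine ((Nat.dvd_prime Nat.prime_three).1
      (card_three_group_dvd e ht hbo (P.2.to_le inf_le_left) inf_le_right)).resolve_left fun h => hx1 ?_
    have h0 : x ∈ (⊥ : Subgroup G) := (Subgroup.card_eq_one.1 h).le hxF
    exact Subgroup.mem_bot.1 h0
  have hxo : orderOf x = 3 :=
    ((Nat.dvd_prime Nat.prime_three).1 (hFc ▸ Subgroup.orderOf_dvd_natCard F hxF)).resolve_left
      (by simpa using hx1)
  have hFx : F = Subgroup.zpowers x := (Subgroup.eq_of_le_of_card_ge (Subgroup.zpowers_le.2 hxF)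
    (by rw [hFc, Nat.card_zpowers, hxo])).symm
  have hxu : x ∉ Subgroup.zpowers u := by
    intro h
    obtain ⟨k, hk⟩ := Subgroup.mem_zpowers_iff.1 h
    have h1 : b * x * b⁻¹ = x⁻¹ := by
      rw [← hk, ← conj_zpow, hbinv, inv_zpow]
    rw [hbx] at h1
    have h2 := orderOf_dvd_of_pow_eq_one (show x ^ 2 = 1 by
      rw [sq]; nth_rewrite 1 [h1]; exact inv_mul_cancel x)
    rw [hxo] at h2; norm_num at h2
  have htx : t * x * t⁻¹ ∈ Subgroup.zpowers x := by
    rw [← hFx]
    refine ⟨(Subgroup.mem_normalizer_iff.1 (hKN htK) x).1 hxP, Subgroup.mem_centralizer_singleton_iff.2 ?_⟩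
    have hxb := (mul_inv_eq_iff_eq_mul.1 hbx)
    calc t * x * t⁻¹ * b = t * x * (t⁻¹ * (b * t)) * t⁻¹ := by group
      _ = t * (x * b) * t⁻¹ := by rw [hbt]; group
      _ = (t * b) * x * t⁻¹ := by rw [← hxb]; group
      _ = _ := by rw [← hbt]; group
  have htxinv : t * x * t⁻¹ = x⁻¹ := by
    obtain ⟨i, hi, hti⟩ := Finset.mem_image.1 (mem_zpowers_iff_mem_range_orderOf.1 htx)
    rw [hxo, Finset.mem_range] at hi
    interval_cases i
    · exfalso
      have ho := orderOf_conj3 t x
      rw [← hti, pow_zero, orderOf_one, hxo] at ho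
      norm_num at ho
    · exfalso
      apply hxu
      rw [← hfixt]
      exact ⟨hxP, Subgroup.mem_centralizer_singleton_iff.2
        (mul_inv_eq_iff_eq_mul.1 (by rw [← hti, pow_one] : t * x * t⁻¹ = x)).symm⟩
    · rw [← hti]
      exact eq_inv_of_mul_eq_one_left (by
        rw [← pow_succ]; exact (congrArg (x ^ ·) hxo.symm).trans (pow_orderOf_eq_one x))
  have hxconj : IsConj u x := by
    obtain ⟨g, hg⟩ := isConj_iff.1 (isConj_t e ht hbo)
    have h1 : IsConj u (g⁻¹ * x * g) := by
      refine isConj_u0 e ht (by simpa [hxo] using orderOf_conj3 g⁻¹ x) ?_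
      have hxb := (mul_inv_eq_iff_eq_mul.1 hbx)
      rw [← hg] at hxb
      calc g⁻¹ * x * g * t = g⁻¹ * (x * (g * t * g⁻¹)) * g := by group
        _ = _ := by rw [← hxb]; group
    exact h1.trans (isConj_iff.2 ⟨g, by group⟩)
  have hux : u * x = x * u := (Subgroup.mem_centralizer_singleton_iff.1 (hPK hxP)).symm
  have hcux : Commute u x := hux
  -- the subgroup `A`
  set A := Subgroup.zpowers u ⊔ Subgroup.zpowers x with hAdef
  have huA : u ∈ A := Subgroup.mem_sup_left (Subgroup.mem_zpowers u)
  have hxA : x ∈ A := Subgroup.mem_sup_right (Subgroup.mem_zpowers x)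
  have hAP : A ≤ (P : Subgroup G) := sup_le (Subgroup.zpowers_le.2 huP) (Subgroup.zpowers_le.2 hxP)
  have hAfix : ∀ q ∈ A, x * q = q * x := by
    have : A ≤ Subgroup.centralizer ({x} : Set G) := sup_le
      (Subgroup.zpowers_le.2 (Subgroup.mem_centralizer_singleton_iff.2 hux))
      (Subgroup.zpowers_le.2 (Subgroup.mem_centralizer_singleton_iff.2 rfl))
    exact fun q hq => (Subgroup.mem_centralizer_singleton_iff.1 (this hq)).symm
  -- `x` is not central in `P`
  have hxnc : ¬ ∀ q ∈ (P : Subgroup G), q * x = x * q := by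
    intro hc
    obtain ⟨g, hg⟩ := isConj_iff.1 hxconj
    have hcu : u ∈ Subgroup.centralizer ((P : Subgroup G) : Set G) := Subgroup.mem_centralizer_iff.2
      fun q hq => Subgroup.mem_centralizer_singleton_iff.1 (hPK hq)
    have hcx : g⁻¹⁻¹ * u * g⁻¹ ∈ Subgroup.centralizer ((P : Subgroup G) : Set G) := by
      rw [inv_inv, hg]; exact Subgroup.mem_centralizer_iff.2 hc
    obtain ⟨n, hn, hnx⟩ := Sylow.conj_eq_normalizer_conj_of_mem_centralizer P u g⁻¹ hcu hcx
    rw [inv_inv, hg] at hnx
    apply hxu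
    have hNu : N ≤ Subgroup.normalizer (Subgroup.zpowers u : Set G) := by
      have hle : (P : Subgroup G) ⊔ T.map N.subtype ≤
          N ⊓ Subgroup.normalizer (Subgroup.zpowers u : Set G) := by
        refine sup_le (le_inf Subgroup.le_normalizer fun q hq => ?_) ?_
        · refine Subgroup.centralizer_le_normalizer _ (Subgroup.mem_centralizer_iff.2 fun z hz => ?_)
          obtain ⟨k, rfl⟩ := Subgroup.mem_zpowers_iff.1 hz
          exact (show Commute u q from (Subgroup.mem_centralizer_singleton_iff.1 (hPK hq)).symm).zpow_left k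
        · rintro _ ⟨w, hw, rfl⟩
          refine ⟨w.2, ?_⟩
          have hwt : (w : G) * t = t * w := congrArg (fun z : T => ((z : N) : G))
            (IsPGroup.commutative_of_card_eq_prime_sq (p := 2) (G := T) (by rw [hT]) ⟨w, hw⟩
              ⟨_, hTle (Subgroup.mem_zpowers _)⟩)
          rw [← hfixt]
          refine Subgroup.mem_normalizer_iff.2 fun q => ?_
          have hwn := Subgroup.mem_normalizer_iff.1 w.2 q
          show q ∈ (P : Subgroup G) ⊓ _ ↔ (w : G) * q * (w : G)⁻¹ ∈ (P : Subgroup G) ⊓ _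
          refine and_congr hwn ?_
          show q ∈ Subgroup.centralizer ({t} : Set G) ↔ (w : G) * q * (w : G)⁻¹ ∈ Subgroup.centralizer ({t} : Set G)
          rw [Subgroup.mem_centralizer_singleton_iff, Subgroup.mem_centralizer_singleton_iff]
          constructor
          · intro h
            calc (w : G) * q * (w : G)⁻¹ * t = w * q * ((w : G)⁻¹ * (t * w)) * (w : G)⁻¹ := by group
              _ = w * (q * t) * (w : G)⁻¹ := by rw [← hwt]; group
              _ = (w * t) * q * (w : G)⁻¹ := by rw [h]; group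
              _ = _ := by rw [hwt]; group
          · intro h
            calc q * t = (w : G)⁻¹ * ((w : G) * q * (w : G)⁻¹ * ((w : G) * t)) := by group
              _ = (w : G)⁻¹ * ((w : G) * q * (w : G)⁻¹ * t * w) := by rw [hwt]; group
              _ = (w : G)⁻¹ * (t * (w : G)) * q := by rw [h]; group
              _ = t * q := by rw [← hwt]; group
      have hd1 : 27 ∣ Nat.card ↥((P : Subgroup G) ⊔ T.map N.subtype) :=
        hPc ▸ Subgroup.card_dvd_of_le le_sup_left
      have hd2 : 4 ∣ Nat.card ↥((P : Subgroup G) ⊔ T.map N.subtype) := by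
        have := Subgroup.card_dvd_of_le
          (le_sup_right : T.map N.subtype ≤ (P : Subgroup G) ⊔ T.map N.subtype)
        rwa [Subgroup.card_map_of_injective N.subtype_injective, hT] at this
      have heq : (P : Subgroup G) ⊔ T.map N.subtype = N := by
        refine Subgroup.eq_of_le_of_card_ge (hle.trans inf_le_left) ?_
        rw [hN108]
        exact Nat.le_of_dvd Nat.card_pos (Nat.Coprime.mul_dvd_of_dvd_of_dvd (by norm_num) hd1 hd2)
      exact fun q hq => (hle (heq.symm ▸ hq)).2
    rw [hnx]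
    have := (Subgroup.mem_normalizer_iff.1 (hNu (inv_mem hn)) u).1 (Subgroup.mem_zpowers u)
    simpa using this
  have hA9 : Nat.card A = 9 := by
    have hge : 9 ≤ Nat.card A := by
      have := Nat.card_le_card_of_injective (fun p : Fin 3 × Fin 3 => (⟨u ^ (p.1 : ℕ) * x ^ (p.2 : ℕ),
        A.mul_mem (A.pow_mem huA _) (A.pow_mem hxA _)⟩ : A))
        fun a b h => pair_injective hu hxo hxu (congrArg Subtype.val h)
      simpa using this
    obtain ⟨k, hk⟩ := IsPGroup.iff_card.1 (P.2.to_le hAP)
    have hne : Nat.card A ≠ 27 := by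
      intro h
      refine hxnc fun q hq => ?_
      have : A = (P : Subgroup G) := Subgroup.eq_of_le_of_card_ge hAP (by rw [h, hPc])
      exact (hAfix q (this ▸ hq)).symm
    have hd := Subgroup.card_dvd_of_le hAP
    rw [hPc] at hd
    have hle := Nat.le_of_dvd (by norm_num) hd
    rw [hk] at hne hge hle ⊢
    rcases k with _ | _ | _ | _ | k
    · norm_num at hge
    · norm_num at hge
    · norm_num
    · norm_num at hne
    · have : 3 ^ 4 ≤ 3 ^ (k + 1 + 1 + 1 + 1) := Nat.pow_le_pow_right (by norm_num) (by omega)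
      omega
  have hAn : (P : Subgroup G) ≤ Subgroup.normalizer (A : Set G) := by
    have hnormal : (A.subgroupOf (P : Subgroup G)).Normal := by
      refine Subgroup.normal_of_index_eq_minFac_card ?_
      have h' := (A.subgroupOf (P : Subgroup G)).card_mul_index
      rw [Nat.card_congr (Subgroup.subgroupOfEquivOfLe hAP).toEquiv, hA9, hPc] at h'
      rw [hPc]; norm_num; omega
    exact (Subgroup.normal_subgroupOf_iff_le_normalizer hAP).1 hnormal
  have hnormA : ∀ w : G, w * u * w⁻¹ ∈ A → w * x * w⁻¹ ∈ A → w ∈ Subgroup.normalizer (A : Set G) := by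
    intro w h1 h2
    have hle : A.map (MulAut.conj w).toMonoidHom ≤ A := by
      rw [hAdef, Subgroup.map_sup, MonoidHom.map_zpowers, MonoidHom.map_zpowers]
      exact sup_le (Subgroup.zpowers_le.2 h1) (Subgroup.zpowers_le.2 h2)
    have heq : A.map (MulAut.conj w).toMonoidHom = A := Subgroup.eq_of_le_of_card_ge hle
      (by rw [Subgroup.card_map_of_injective (K := A) (f := (MulAut.conj w).toMonoidHom) (MulAut.conj w).injective])
    rw [Subgroup.mem_normalizer_iff]
    intro q
    constructor
    · exact fun hq => heq.le ⟨q, hq, rfl⟩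
    · intro hq
      obtain ⟨q', hq', he⟩ := heq.symm.le hq
      have : q' = q := (MulAut.conj w).injective he
      exact this ▸ hq'
  set H := Subgroup.normalizer (A : Set G) with hHdef
  have htA : t ∈ H := hnormA t (by rw [← hut, mul_inv_cancel_right]; exact huA)
    (by rw [htxinv]; exact inv_mem hxA)
  have hbA : b ∈ H := hnormA b (by rw [hbinv]; exact inv_mem huA) (by rw [hbx]; exact hxA)
  have hcomm2 : ∀ p q : G, p ∈ A → q ∈ A → p * q = q * p := fun p q hp hq =>
    commute_of_card_nine hA9 hp hq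
  -- the order of the normalizer of `P` inside
  have hNH : N ≤ H := by
    have hb' : b ∈ N := hbN
    have hd27 : 27 ∣ Nat.card ↥(N ⊓ H) := hPc ▸ Subgroup.card_dvd_of_le (le_inf Subgroup.le_normalizer hAn)
    have hV : Subgroup.closure {t, b} ≤ N ⊓ H := by
      rw [Subgroup.closure_le]
      rintro w (rfl | rfl)
      · exact ⟨hKN htK, htA⟩
      · exact ⟨hb', hbA⟩
    have htb : t ≠ b := by
      rintro rfl
      rw [← hut, mul_inv_cancel_right] at hbinv
      have h2 := orderOf_dvd_of_pow_eq_one (show u ^ 2 = 1 by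
        rw [sq]; nth_rewrite 1 [hbinv]; exact inv_mul_cancel u)
      rw [hu] at h2; norm_num at h2
    have h4 : 4 ∣ Nat.card ↥(N ⊓ H) := by
      let f : Fin 2 × Fin 2 → ↥(Subgroup.closure ({t, b} : Set G)) := fun p =>
        ⟨t ^ (p.1 : ℕ) * b ^ (p.2 : ℕ), Subgroup.mul_mem _
          (Subgroup.pow_mem _ (Subgroup.subset_closure (by simp)) _)
          (Subgroup.pow_mem _ (Subgroup.subset_closure (by simp)) _)⟩
      have hf : Function.Injective f := by
        have ht1 : t ≠ 1 := by rintro rfl; simp at ht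
        rintro ⟨i, j⟩ ⟨i', j'⟩ h
        have h := congrArg Subtype.val h
        simp only [f] at h
        fin_cases i <;> fin_cases j <;> fin_cases i' <;> fin_cases j' <;> simp at h <;>
          first
            | rfl
            | exact absurd h ht1
            | exact absurd h.symm ht1
            | exact absurd h hb1
            | exact absurd h.symm hb1
            | exact absurd h htb
            | exact absurd h.symm htb
            | (exfalso; apply htb; rw [← inv_eq_of_mul_eq_one_right hb2]; exact eq_inv_of_mul_eq_one_left h)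
            | (exfalso; apply htb; rw [← inv_eq_of_mul_eq_one_right hb2]; exact eq_inv_of_mul_eq_one_left h.symm)
      have h2 : IsPGroup 2 (Subgroup.closure ({t, b} : Set G)) := by
        refine IsPGroup.to_le ?_ (show Subgroup.closure ({t, b} : Set G) ≤
          Subgroup.zpowers t ⊔ Subgroup.zpowers b from by
            rw [Subgroup.closure_le]
            rintro w (rfl | rfl)
            · exact Subgroup.mem_sup_left (Subgroup.mem_zpowers _)
            · exact Subgroup.mem_sup_right (Subgroup.mem_zpowers _))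
        refine IsPGroup.to_sup_of_normal_right' (IsPGroup.of_card (n := 1) (by
          rw [Nat.card_zpowers, ht, pow_one])) (IsPGroup.of_card (n := 1) (by
          rw [Nat.card_zpowers, hbo, pow_one])) (Subgroup.zpowers_le.2 ?_)
        refine Subgroup.centralizer_le_normalizer _ (Subgroup.mem_centralizer_iff.2 fun z hz => ?_)
        obtain ⟨k, rfl⟩ := Subgroup.mem_zpowers_iff.1 hz
        exact (show Commute b t from hbt).zpow_left k
      have hge := Nat.card_le_card_of_injective f hf
      rw [Nat.card_prod, Nat.card_fin] at hge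
      obtain ⟨k, hk⟩ := IsPGroup.iff_card.1 h2
      refine dvd_trans ?_ (Subgroup.card_dvd_of_le hV)
      rw [hk] at hge ⊢
      rcases k with _ | _ | k
      · norm_num at hge
      · norm_num at hge
      · exact ⟨2 ^ k, by ring⟩
    have heq : N ⊓ H = N := Subgroup.eq_of_le_of_card_ge inf_le_left
      (by
        rw [hN108]
        exact Nat.le_of_dvd Nat.card_pos
          (Nat.Coprime.mul_dvd_of_dvd_of_dvd (by norm_num) hd27 h4))
    exact heq ▸ inf_le_right
  -- transitivity
  obtain ⟨g, hg⟩ := isConj_iff.1 hxconj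
  have hAx : A ≤ Subgroup.centralizer ({x} : Set G) := fun q hq =>
    Subgroup.mem_centralizer_singleton_iff.2 (hAfix q hq).symm
  set P₂ : Sylow 3 G := g • P with hP₂
  have hP₂x : (P₂ : Subgroup G) ≤ Subgroup.centralizer ({x} : Set G) := by
    intro q hq
    rw [hP₂, Sylow.coe_subgroup_smul, Subgroup.mem_pointwise_smul_iff_inv_smul_mem] at hq
    have h := Subgroup.mem_centralizer_singleton_iff.1 (hPK hq)
    rw [← map_inv, MulAut.smul_def, MulAut.conj_apply, inv_inv] at h
    rw [Subgroup.mem_centralizer_singleton_iff, ← hg]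
    calc q * (g * u * g⁻¹) = g * (g⁻¹ * q * g * u) * g⁻¹ := by group
      _ = _ := by rw [h]; group
  have hKxc : Nat.card (Subgroup.centralizer ({x} : Set G)) = 54 := by
    rw [← hK, ← Subgroup.card_map_of_injective (K := K) (f := (MulAut.conj g).toMonoidHom) (MulAut.conj g).injective]
    refine (congrArg (fun S : Subgroup G => Nat.card S) ?_).symm
    rw [← hg]
    ext q
    constructor
    · rintro ⟨w, hw, rfl⟩
      have h := Subgroup.mem_centralizer_singleton_iff.1 hw
      rw [Subgroup.mem_centralizer_singleton_iff]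
      show g * w * g⁻¹ * (g * u * g⁻¹) = g * u * g⁻¹ * (g * w * g⁻¹)
      calc g * w * g⁻¹ * (g * u * g⁻¹) = g * (w * u) * g⁻¹ := by group
        _ = _ := by rw [h]; group
    · intro hq
      have h := Subgroup.mem_centralizer_singleton_iff.1 hq
      refine ⟨g⁻¹ * q * g, Subgroup.mem_centralizer_singleton_iff.2 ?_, by simp [mul_assoc]⟩
      calc g⁻¹ * q * g * u = g⁻¹ * (q * (g * u * g⁻¹)) * g := by group
        _ = _ := by rw [h]; group
  have hP₂n : ((P₂ : Subgroup G).subgroupOf (Subgroup.centralizer ({x} : Set G))).Normal := by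
    refine Subgroup.normal_of_index_eq_two ?_
    have h := ((P₂ : Subgroup G).subgroupOf (Subgroup.centralizer ({x} : Set G))).card_mul_index
    rw [Nat.card_congr (Subgroup.subgroupOfEquivOfLe hP₂x).toEquiv, card_sylow_three hN P₂, hKxc] at h
    omega
  have hAP₂ : A ≤ (P₂ : Subgroup G) := by
    have h := (P.2.to_le hAP).inf_normalizer_sylow P₂
    have hn : A ≤ Subgroup.normalizer ((P₂ : Subgroup G) : Set G) :=
      hAx.trans ((Subgroup.normal_subgroupOf_iff_le_normalizer hP₂x).1 hP₂n)
    exact fun q hq => (h.le ⟨hq, hn hq⟩).2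
  have hP₂H : (P₂ : Subgroup G) ≤ H := by
    have hnormal : (A.subgroupOf (P₂ : Subgroup G)).Normal := by
      refine Subgroup.normal_of_index_eq_minFac_card ?_
      have h' := (A.subgroupOf (P₂ : Subgroup G)).card_mul_index
      rw [Nat.card_congr (Subgroup.subgroupOfEquivOfLe hAP₂).toEquiv, hA9, card_sylow_three hN P₂] at h'
      rw [card_sylow_three hN P₂]; norm_num; omega
    exact (Subgroup.normal_subgroupOf_iff_le_normalizer hAP₂).1 hnormal
  let Orb : Set G := {v | ∃ n ∈ H, n * u * n⁻¹ = v}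
  have hOrb : ∀ m ∈ H, ∀ v ∈ Orb, m * v * m⁻¹ ∈ Orb := by
    rintro m hm v ⟨n, hn, rfl⟩
    exact ⟨m * n, H.mul_mem hm hn, by group⟩
  have huO : u ∈ Orb := ⟨1, H.one_mem, by group⟩
  have hodd : ∀ {Q : Sylow 3 G} {q : G}, q ∈ (Q : Subgroup G) → Odd (orderOf q) := by
    intro Q q hq
    obtain ⟨k, hk⟩ := Q.2 ⟨q, hq⟩
    exact (Odd.pow (by decide : Odd 3) : Odd (3 ^ k)).of_dvd_nat
      (orderOf_dvd_of_pow_eq_one (congrArg Subtype.val hk))
  -- an element of `P₂` moving `u`
  obtain ⟨q, hqP₂, hqu⟩ : ∃ q ∈ (P₂ : Subgroup G), q * u * q⁻¹ ≠ u := by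
    by_contra hcon
    push Not at hcon
    have hle : (P₂ : Subgroup G) ≤ K := fun q hq => mem_centralizer_single.2 (hcon q hq)
    have heq : (P₂ : Subgroup G) = (P : Subgroup G) := by
      have h := P₂.2.inf_normalizer_sylow P
      refine Subgroup.eq_of_le_of_card_ge (fun q hq => (h.le ⟨hq, hKN (hle hq)⟩).2) ?_
      rw [hPc, card_sylow_three hN P₂]
    exact hxnc fun q hq => Subgroup.mem_centralizer_singleton_iff.1 (hP₂x (heq ▸ hq))
  obtain ⟨p, hpP, hpx⟩ : ∃ p ∈ (P : Subgroup G), p * x * p⁻¹ ≠ x := by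
    by_contra hcon
    push Not at hcon
    exact hxnc fun q hq => mul_inv_eq_iff_eq_mul.1 (hcon q hq)
  have hu3 : u ^ 3 = 1 := by rw [← hu]; exact pow_orderOf_eq_one u
  have hx3 : x ^ 3 = 1 := by rw [← hxo]; exact pow_orderOf_eq_one x
  have hu2 : u ^ 2 = u⁻¹ := eq_inv_of_mul_eq_one_left (by rw [← pow_succ, hu3])
  have hx2 : x ^ 2 = x⁻¹ := eq_inv_of_mul_eq_one_left (by rw [← pow_succ, hx3])
  -- coordinates of the two conjugates
  obtain ⟨j, hj, hqj⟩ : ∃ j, (j = 1 ∨ j = 2) ∧ q * u * q⁻¹ = u * x ^ j := by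
    obtain ⟨⟨i, hi⟩, ⟨j, hj⟩, hij⟩ := exists_eq_pow_mul_pow hu hxo hxu hA9 huA hxA
      ((Subgroup.mem_normalizer_iff.1 (hP₂H hqP₂) u).1 huA)
    simp only at hij
    have hqx : q * x * q⁻¹ = x := mem_centralizer_single.1 (hP₂x hqP₂)
    have hqxj : ∀ j : ℕ, q * x ^ j * q⁻¹ = x ^ j := fun j => by rw [← conj_pow, hqx]
    interval_cases i
    · exfalso
      have h' : u = x ^ j := by
        apply (MulAut.conj q).injective
        rw [MulAut.conj_apply, MulAut.conj_apply, hqxj, ← hij, pow_zero, one_mul]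
      obtain ⟨⟨i', hi'⟩⟩ : Nonempty {i' : ℕ // i' = j} := ⟨⟨j, rfl⟩⟩
      interval_cases j
      · rw [h', pow_zero, orderOf_one] at hu; norm_num at hu
      · exact hxu (by rw [h', pow_one]; exact Subgroup.mem_zpowers x)
      · refine hxu ?_
        have : x = u⁻¹ := by rw [h', hx2, inv_inv]
        rw [this]; exact inv_mem (Subgroup.mem_zpowers u)
    · refine ⟨j, ?_, by rw [← hij, pow_one]⟩
      have : j ≠ 0 := by rintro rfl; exact hqu (by rw [← hij]; simp)
      omega
    · exfalso
      rw [hu2] at hij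
      have hv := unipotent_coord (hodd hqP₂) hu (V := A) (A.pow_mem hxA j) (hqxj j)
        (hcux.symm.pow_left j) hij.symm
      interval_cases j
      · exact no_odd_inverts hu (hodd hqP₂) (by simpa using hij.symm)
      · exact hxu (by simpa using hv)
      · rw [hx2] at hv; exact hxu (by simpa using hv)
  obtain ⟨i, hi, hpi⟩ : ∃ i, (i = 1 ∨ i = 2) ∧ p * x * p⁻¹ = x * u ^ i := by
    obtain ⟨⟨i, hi⟩, ⟨j, hj⟩, hij⟩ := exists_eq_pow_mul_pow hu hxo hxu hA9 huA hxA
      ((Subgroup.mem_normalizer_iff.1 (hAn hpP) x).1 hxA)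
    simp only at hij
    have hpu : p * u * p⁻¹ = u := mem_centralizer_single.1 (hPK hpP)
    have hpui : ∀ i : ℕ, p * u ^ i * p⁻¹ = u ^ i := fun i => by rw [← conj_pow, hpu]
    rw [(hcux.pow_pow i j).eq] at hij
    interval_cases j
    · exfalso
      apply hxu
      have h' : x = u ^ i := by
        apply (MulAut.conj p).injective
        rw [MulAut.conj_apply, MulAut.conj_apply, hpui, ← hij, pow_zero, one_mul]
      rw [h']; exact Subgroup.pow_mem _ (Subgroup.mem_zpowers u) i
    · refine ⟨i, ?_, by rw [← hij, pow_one]⟩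
      have : i ≠ 0 := by rintro rfl; exact hpx (by rw [← hij]; simp)
      omega
    · exfalso
      rw [hx2] at hij
      have hv := unipotent_coord (hodd hpP) hxo (V := A) (A.pow_mem huA i) (hpui i)
        (hcux.pow_left i) hij.symm
      interval_cases i
      · exact no_odd_inverts hxo (hodd hpP) (by simpa using hij.symm)
      · exact hxu (by
          obtain ⟨k, hk⟩ := Subgroup.mem_zpowers_iff.1 (show u ∈ Subgroup.zpowers x by simpa using hv)
          have hh : Subgroup.zpowers u = Subgroup.zpowers x := Subgroup.eq_of_le_of_card_ge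
            (Subgroup.zpowers_le.2 ⟨k, hk⟩) (by rw [Nat.card_zpowers, Nat.card_zpowers, hu, hxo])
          rw [hh]; exact Subgroup.mem_zpowers x)
      · exact hxu (by
          obtain ⟨k, hk⟩ := Subgroup.mem_zpowers_iff.1 (show u ∈ Subgroup.zpowers x by
            rw [hu2] at hv; simpa using hv)
          have hh : Subgroup.zpowers u = Subgroup.zpowers x := Subgroup.eq_of_le_of_card_ge
            (Subgroup.zpowers_le.2 ⟨k, hk⟩) (by rw [Nat.card_zpowers, Nat.card_zpowers, hu, hxo])
          rw [hh]; exact Subgroup.mem_zpowers x)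
  -- the orbit of `u` is everything
  have hpn : ∀ (n : ℕ), ∀ m < 3, p ^ n * (u ^ m * x) * (p ^ n)⁻¹ = u ^ ((m + i * n) % 3) * x := by
    intro n
    induction n with
    | zero => intro m hm; simp [Nat.mod_eq_of_lt hm]
    | succ n ih =>
      intro m hm
      have hpu : p * u * p⁻¹ = u := mem_centralizer_single.1 (hPK hpP)
      rw [pow_succ', show p * p ^ n * (u ^ m * x) * (p * p ^ n)⁻¹ = p * (p ^ n * (u ^ m * x) * (p ^ n)⁻¹) * p⁻¹ by group,
        ih m hm, show p * (u ^ ((m + i * n) % 3) * x) * p⁻¹ =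
          p * u ^ ((m + i * n) % 3) * p⁻¹ * (p * x * p⁻¹) by group, ← conj_pow, hpu, hpi,
        (hcux.pow_left i).eq.symm, ← mul_assoc, ← pow_add,
        pow_eq_pow_mod ((m + i * n) % 3 + i) hu3]
      congr 2
      rw [Nat.mod_add_mod, mul_add, mul_one, add_assoc]
  have hqO : u * x ^ j ∈ Orb := hqj ▸ hOrb q (hP₂H hqP₂) u huO
  have hux' : u * x ^ j ∈ Orb := hqO
  -- every element with non-trivial second coordinate
  have hall1 : ∀ m < 3, u ^ m * x ^ j ∈ Orb := by
    intro m hm
    have hstep : ∀ (n : ℕ), p ^ n * (u * x ^ j) * (p ^ n)⁻¹ = u ^ ((1 + j * i * n) % 3) * x ^ j := by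
      intro n
      rcases hj with rfl | rfl
      · simpa using hpn n 1 (by norm_num)
      · have hpu : p ^ n * u * (p ^ n)⁻¹ = u :=
          mem_centralizer_single.1 (K.pow_mem (hPK hpP) n)
        have h0 := hpn n 0 (by norm_num)
        simp only [pow_zero, one_mul, zero_add] at h0
        rw [show p ^ n * (u * x ^ 2) * (p ^ n)⁻¹ = p ^ n * u * (p ^ n)⁻¹ * (p ^ n * x ^ 2 * (p ^ n)⁻¹) by group,
          hpu, ← conj_pow, h0, (hcux.pow_left _).mul_pow, ← pow_mul, ← mul_assoc, ← pow_succ',
          pow_eq_pow_mod (i * n % 3 * 2 + 1) hu3]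
        congr 2
        rw [Nat.add_mod, Nat.mul_mod, Nat.mod_mod, ← Nat.mul_mod, ← Nat.add_mod]
        congr 1
        ring
    have hsel : ∃ n < 3, (1 + j * i * n) % 3 = m := by
      rcases hi with rfl | rfl <;> rcases hj with rfl | rfl <;> interval_cases m <;> decide +kernel
    obtain ⟨n, -, hn⟩ := hsel
    have := hOrb (p ^ n) (H.pow_mem (hAn hpP) n) _ hux'
    rwa [hstep, hn] at this
  have hall2 : ∀ m < 3, ∀ k, (k = 1 ∨ k = 2) → u ^ m * x ^ k ∈ Orb := by
    intro m hm k hk
    by_cases hkj : k = j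
    · exact hkj ▸ hall1 m hm
    · have h := hOrb t htA _ (hall1 m hm)
      have htu : t * u * t⁻¹ = u := by rw [← hut, mul_inv_cancel_right]
      rw [show t * (u ^ m * x ^ j) * t⁻¹ = (t * u * t⁻¹) ^ m * (t * x * t⁻¹) ^ j by
        rw [conj_pow, conj_pow]; group, htu, htxinv] at h
      have hxk : x⁻¹ ^ j = x ^ k := by
        rw [← hx2, ← pow_mul, pow_eq_pow_mod (2 * j) hx3]
        congr 1
        omega
      rwa [hxk] at h
  refine ⟨A, P, u, hA9, huA, hu, hAP, hPK, hNH, ?_, ?_⟩
  rotate_left
  · intro v hv hv1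
    obtain ⟨⟨m, hm⟩, ⟨k, hk⟩, rfl⟩ := exists_eq_pow_mul_pow hu hxo hxu hA9 huA hxA hv
    simp only at hv1 ⊢
    show _ ∈ Orb
    interval_cases k
    · interval_cases m
      · exact absurd (by simp) hv1
      · simpa using huO
      · have := hOrb b hbA u huO
        rw [hbinv, ← hu2] at this
        simpa using this
    · exact hall2 m hm 1 (Or.inl rfl)
    · exact hall2 m hm 2 (Or.inr rfl)
  · -- orbit–stabilizer
    have hAll : ∀ v ∈ A, v ≠ 1 → ∃ n : H, (n : G) * u * (n : G)⁻¹ = v := by
      intro v hv hv1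
      obtain ⟨⟨m, hm⟩, ⟨k, hk⟩, rfl⟩ := exists_eq_pow_mul_pow hu hxo hxu hA9 huA hxA hv
      simp only at hv1 ⊢
      have : u ^ m * x ^ k ∈ Orb := by
        interval_cases k
        · interval_cases m
          · exact absurd (by simp) hv1
          · simpa using huO
          · have := hOrb b hbA u huO
            rw [hbinv, ← hu2] at this
            simpa using this
        · exact hall2 m hm 1 (Or.inl rfl)
        · exact hall2 m hm 2 (Or.inr rfl)
      obtain ⟨n, hn, hnv⟩ := this
      exact ⟨⟨n, hn⟩, hnv⟩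
    choose f hf using fun v : {v : A // v ≠ 1} => hAll (v.1 : G) v.1.2
      (fun h => v.2 (Subtype.ext h))
    have hKH : K ≤ H := hKN.trans hNH
    let Φ : {v : A // v ≠ 1} × K → H := fun vk => ⟨(f vk.1 : G) * vk.2, H.mul_mem (f vk.1).2 (hKH vk.2.2)⟩
    have hΦ : Function.Bijective Φ := by
      constructor
      · rintro ⟨v, k⟩ ⟨v', k'⟩ h
        have h1 : (f v : G) * k = f v' * k' := congrArg Subtype.val h
        have hfix : ∀ k : K, (k : G) * u * (k : G)⁻¹ = u := fun k => mem_centralizer_single.1 k.2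
        have h2 : v = v' := by
          refine Subtype.ext (Subtype.ext ?_)
          rw [← hf v, ← hf v']
          have e1 : (f v : G) * k * u * ((f v : G) * k)⁻¹ = (f v : G) * u * (f v : G)⁻¹ := by
            rw [show (f v : G) * k * u * ((f v : G) * k)⁻¹ = (f v : G) * ((k : G) * u * (k : G)⁻¹) * (f v : G)⁻¹ by group, hfix]
          have e2 : (f v' : G) * k' * u * ((f v' : G) * k')⁻¹ = (f v' : G) * u * (f v' : G)⁻¹ := by
            rw [show (f v' : G) * k' * u * ((f v' : G) * k')⁻¹ = (f v' : G) * ((k' : G) * u * (k' : G)⁻¹) * (f v' : G)⁻¹ by group, hfix]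
          rw [← e1, ← e2, h1]
        subst h2
        exact Prod.ext rfl (Subtype.ext (mul_left_cancel h1))
      · intro n
        have hv : (n : G) * u * (n : G)⁻¹ ∈ A := (Subgroup.mem_normalizer_iff.1 n.2 u).1 huA
        have hv1 : (⟨_, hv⟩ : A) ≠ 1 := fun h => by
          have ho := orderOf_conj3 (n : G) u
          rw [show (n : G) * u * (n : G)⁻¹ = 1 from congrArg Subtype.val h, orderOf_one, hu] at ho
          norm_num at ho
        set v : {v : A // v ≠ 1} := ⟨⟨_, hv⟩, hv1⟩
        refine ⟨⟨v, ⟨(f v : G)⁻¹ * n, mem_centralizer_single.2 ?_⟩⟩, Subtype.ext (by simp [Φ])⟩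
        have h := hf v
        calc (f v : G)⁻¹ * n * u * ((f v : G)⁻¹ * n)⁻¹ =
            (f v : G)⁻¹ * ((n : G) * u * (n : G)⁻¹) * (f v : G) := by group
          _ = u := by rw [show (n : G) * u * (n : G)⁻¹ = (f v : G) * u * (f v : G)⁻¹ from h.symm]; group
    rw [← Nat.card_eq_of_bijective Φ hΦ, Nat.card_prod, hK]
    have : Nat.card {v : A // v ≠ 1} = 8 := by
      have := Fintype.ofFinite A
      rw [Nat.card_eq_fintype_card, Fintype.card_subtype_compl, Fintype.card_subtype_eq,
        ← Nat.card_eq_fintype_card, hA9]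
    rw [this]

end CfsgLib.Blocks.GLTwoThreeCentralizer
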