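import Mathlib.Algebra.Field.ZMod
import Mathlib.Data.Fintype.Powerset
import Mathlib.Data.Fintype.Pi
import Mathlib.Data.Fin.VecNotation
import Mathlib.LinearAlgebra.Matrix.Notation

/-!
# The projective plane of order three, by labels

The four points of a frame, its three diagonal points and the fourth points of its six sides.
-/

set_option autoImplicit false
set_option maxRecDepth 100000

namespace CfsgLib.Blocks.GLTwoThreeCentralizer

/-- The thirteen lines; the first six are the sides of the frame. -/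
def sline : Fin 13 → Finset (Fin 13) :=
  ![{0, 1, 4, 7}, {2, 3, 4, 8}, {0, 2, 5, 9}, {1, 3, 5, 10}, {0, 3, 6, 11}, {1, 2, 6, 12},
    {4, 5, 11, 12}, {4, 6, 9, 10}, {5, 6, 7, 8}, {0, 12, 10, 8}, {1, 11, 9, 8}, {2, 7, 11, 10},
    {3, 7, 9, 12}]

/-- The six sides. -/
def side (k : Fin 6) : Fin 13 := Fin.castLE (by decide) k

theorem sline_card : ∀ k, (sline k).card = 4 := by decide +kernel

theorem sline_unique : ∀ k l, ∀ i ∈ sline k, ∀ j ∈ sline k, i ≠ j → i ∈ sline l → j ∈ sline l →
    k = l := by decide +kernel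

theorem sline_join : ∀ i j, i ≠ j → ∃ k, i ∈ sline k ∧ j ∈ sline k := by decide +kernel

theorem side_signature : ∀ i j, (∀ k : Fin 6, (i ∈ sline (side k) ↔ j ∈ sline (side k))) → i = j := by
  decide +kernel

/-- The steps by which the frame determines every point: two lines, each spanned by two known points. -/
def steps : List (Fin 13 × (Fin 13 × Fin 13) × (Fin 13 × Fin 13)) :=
  [(4, (0, 1), (2, 3)), (5, (0, 2), (1, 3)), (6, (0, 3), (1, 2)), (7, (0, 1), (5, 6)),
    (8, (2, 3), (5, 6)), (9, (0, 2), (4, 6)), (10, (1, 3), (4, 6)), (11, (0, 3), (4, 5)),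
    (12, (1, 2), (4, 5))]

theorem steps_spec : ∀ s ∈ steps, ∀ x, ∀ k l, s.2.1.1 ∈ sline k → s.2.1.2 ∈ sline k →
    s.2.2.1 ∈ sline l → s.2.2.2 ∈ sline l → x ∈ sline k → x ∈ sline l → x = s.1 := by decide +kernel

/-- Bit masks of the lines. -/
def lineMasks : List ℕ := [147, 284, 549, 1066, 2121, 4166, 6192, 1616, 480, 5377, 2818, 3204, 4744]

/-- Three points on a common line. -/
def coll (i j k : Fin 13) : Bool :=
  lineMasks.any fun m => m.testBit i.val && m.testBit j.val && m.testBit k.val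

theorem coll_iff : ∀ i j k, coll i j k = true ↔ ∃ l, i ∈ sline l ∧ j ∈ sline l ∧ k ∈ sline l := by
  decide +kernel

/-- How many sides' memberships of four points. -/
def sideCount (k : Fin 6) (a b c d : Fin 13) : ℕ :=
  let m := lineMasks.getD k.val 0
  (m.testBit a.val).toNat + (m.testBit b.val).toNat + (m.testBit c.val).toNat + (m.testBit d.val).toNat

theorem sideMask_iff : ∀ (k : Fin 6) (i : Fin 13),
    ((lineMasks.getD k.val 0).testBit i.val = true ↔ i ∈ sline (side k)) := by decide +kernel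

theorem transversal_shape : ∀ a b : Fin 13, a < b → ∀ c, b < c → ∀ d, c < d →
    (∀ k, sideCount k a b c d = 1) → ∃ k, sline k = {a, b, c, d} := by decide +kernel

theorem steps_dom : (steps.all fun s => (s.2.1.1 != s.2.1.2) && (s.2.2.1 != s.2.2.2) &&
    coll s.2.1.1 s.2.1.2 s.1 && coll s.2.2.1 s.2.2.2 s.1) = true := by decide +kernel

/-- The frames. -/
def frames : List (Fin 13 × Fin 13 × Fin 13 × Fin 13) :=
  (List.finRange 13).flatMap fun a => (((List.finRange 13).filter fun b => b != a).flatMap fun b =>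
    (((List.finRange 13).filter fun c => !(coll a b c)).flatMap fun c =>
      (((List.finRange 13).filter fun d => !(coll a b d) && !(coll a c d) && !(coll b c d)).map fun d =>
        (a, b, c, d))))

theorem frames_length : frames.length = 5616 := by decide +kernel

theorem std_frame : coll 0 1 2 = false ∧ coll 0 1 3 = false ∧ coll 0 2 3 = false ∧
    coll 1 2 3 = false := by decide +kernel

/-- Coordinates of the points. -/
def pvec : Fin 13 → Fin 3 → ZMod 3 :=
  ![![1, 0, 0], ![0, 1, 0], ![0, 0, 1], ![1, 1, 1], ![1, 1, 0], ![1, 0, 1], ![0, 1, 1], ![1, 2, 0],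
    ![1, 1, 2], ![1, 0, 2], ![1, 2, 1], ![1, 2, 2], ![0, 1, 2]]

/-- The pairing. -/
def dot3 (x y : Fin 3 → ZMod 3) : ZMod 3 := x 0 * y 0 + x 1 * y 1 + x 2 * y 2

theorem pvec_proj : ∀ a b c : ZMod 3, ¬ (a = 0 ∧ b = 0 ∧ c = 0) →
    ∃ i, pvec i = ![a, b, c] ∨ pvec i = ![-a, -b, -c] := by decide +kernel

theorem pvec_ne : ∀ i, pvec i ≠ 0 := by decide +kernel

theorem pvec_inj : ∀ i j, (pvec i = pvec j ∨ pvec i = -pvec j) → i = j := by decide +kernel

theorem normal_of_line : ∀ k, ∃ i, ∀ j, (j ∈ sline k ↔ dot3 (pvec i) (pvec j) = 0) := by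
  decide +kernel

theorem line_of_normal : ∀ i, ∃ k, ∀ j, (j ∈ sline k ↔ dot3 (pvec i) (pvec j) = 0) := by
  decide +kernel

end CfsgLib.Blocks.GLTwoThreeCentralizer
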