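import Mathlib
import Cfsg.Agent.Lib.Blocks.GLTwoThreeCentralizer.PlaneData
import Cfsg.Agent.Lib.Classical.LinearOrder

/-!
# Projective planes of order three and their collineations

Any plane of order three is the labelled one; a group of order `5616` acting faithfully on it is
`PSL(3,3)`.
-/

set_option autoImplicit false

open scoped Classical

namespace CfsgLib.Blocks.GLTwoThreeCentralizer

/-- A projective plane of order three. -/
structure PlaneThree (X : Type*) where
  lines : Set (Finset X)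
  size : Nat.card X = 13
  four : ∀ L ∈ lines, L.card = 4
  join : ∀ x y : X, x ≠ y → ∃ L ∈ lines, x ∈ L ∧ y ∈ L
  only : ∀ L ∈ lines, ∀ M ∈ lines, ∀ x y : X, x ≠ y → x ∈ L → y ∈ L → x ∈ M → y ∈ M → L = M

variable {X : Type*} [Fintype X] (Pl : PlaneThree X)

include Pl in
theorem PlaneThree.card_eq : Fintype.card X = 13 := by rw [← Nat.card_eq_fintype_card, Pl.size]

theorem PlaneThree.meet {L M : Finset X} (hL : L ∈ Pl.lines) (hM : M ∈ Pl.lines) (hne : L ≠ M) :
    ∃ x ∈ L, x ∈ M ∧ ∀ y ∈ L, y ∈ M → y = x := by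
  suffices h : ∃ x ∈ L, x ∈ M by
    obtain ⟨x, hxL, hxM⟩ := h
    exact ⟨x, hxL, hxM, fun y hyL hyM => by
      by_contra hyx; exact hne (Pl.only L hL M hM y x hyx hyL hxL hyM hxM)⟩
  by_contra hno
  push Not at hno
  obtain ⟨p, hp⟩ : M.Nonempty := Finset.card_pos.1 (by rw [Pl.four M hM]; norm_num)
  have hpL : p ∉ L := fun h => hno p h hp
  -- the four joins of `p` to `L` and `M` itself are five lines through `p`
  have hj : ∀ x ∈ L, ∃ N ∈ Pl.lines, p ∈ N ∧ x ∈ N := fun x hx =>
    Pl.join p x fun h => hpL (h ▸ hx)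
  choose J hJ hJp hJx using hj
  set S : Finset (Finset X) := insert M (L.attach.image fun x => J x.1 x.2) with hS
  have hSl : ∀ N ∈ S, N ∈ Pl.lines ∧ p ∈ N := by
    intro N hN
    rcases Finset.mem_insert.1 hN with rfl | hN
    · exact ⟨hM, hp⟩
    · obtain ⟨x, -, rfl⟩ := Finset.mem_image.1 hN
      exact ⟨hJ _ _, hJp _ _⟩
  have hinj : Set.InjOn (fun x : L => J x.1 x.2) (L.attach : Set L) := by
    intro a _ b _ hab
    by_contra hne'
    have heq := Pl.only _ (hJ a.1 a.2) L hL a.1 b.1 (fun h => hne' (Subtype.ext h)) (hJx _ _)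
      (by simp only at hab; rw [hab]; exact hJx _ _) a.2 b.2
    exact hpL (heq ▸ hJp _ _)
  have hMnot : M ∉ L.attach.image fun x => J x.1 x.2 := by
    intro h
    obtain ⟨x, -, hx⟩ := Finset.mem_image.1 h
    exact hno x.1 x.2 (hx ▸ hJx _ _)
  have hScard : S.card = 5 := by
    rw [hS, Finset.card_insert_of_notMem hMnot, Finset.card_image_of_injOn hinj, Finset.card_attach,
      Pl.four L hL]
  have hdisj : (S : Set (Finset X)).PairwiseDisjoint fun N => N.erase p := by
    intro N hN N' hN' hne'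
    refine Finset.disjoint_left.2 fun y hy hy' => hne' ?_
    obtain ⟨hyp, hyN⟩ := Finset.mem_erase.1 hy
    exact Pl.only N (hSl N hN).1 N' (hSl N' hN').1 y p hyp hyN (hSl N hN).2 (Finset.mem_erase.1 hy').2
      (hSl N' hN').2
  have hb := Finset.card_le_card (Finset.subset_univ (S.biUnion fun N => N.erase p))
  rw [Finset.card_biUnion hdisj, Finset.card_univ, Pl.card_eq,
    Finset.sum_congr rfl (fun N hN => by
      rw [Finset.card_erase_of_mem (hSl N hN).2, Pl.four N (hSl N hN).1] : ∀ N ∈ S, (N.erase p).card = 3),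
    Finset.sum_const, hScard] at hb
  norm_num at hb

theorem PlaneThree.exists_fourth {L : Finset X} (hL : L ∈ Pl.lines) (a b c : X) :
    ∃ x ∈ L, x ≠ a ∧ x ≠ b ∧ x ≠ c := by
  by_contra h
  push Not at h
  have hsub : L ⊆ {a, b, c} := fun x hx => by
    simp only [Finset.mem_insert, Finset.mem_singleton]
    by_cases h1 : x = a
    · exact Or.inl h1
    · by_cases h2 : x = b
      · exact Or.inr (Or.inl h2)
      · exact Or.inr (Or.inr (h x hx h1 h2))
  have := Finset.card_le_card hsub
  rw [Pl.four L hL] at this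
  exact absurd (this.trans Finset.card_le_three) (by norm_num)

/-- Labels respecting the six sides extend to the whole plane. -/
theorem PlaneThree.labels_of_sides (f : Fin 13 → X) (L : Fin 6 → Finset X)
    (hL : ∀ k, L k ∈ Pl.lines) (hiff : ∀ i k, (f i ∈ L k ↔ i ∈ sline (side k))) :
    Function.Bijective f ∧ ∀ M, M ∈ Pl.lines ↔ ∃ k, (sline k).image f = M := by
  have hf : Function.Bijective f := (Fintype.bijective_iff_injective_and_card f).2
    ⟨fun i j h => side_signature i j fun k => by rw [← hiff, ← hiff, h], by simp [Pl.card_eq]⟩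
  have hstd : ∀ k, L k = (sline (side k)).image f := fun k => by
    ext x
    obtain ⟨i, rfl⟩ := hf.2 x
    rw [hiff, Finset.mem_image]
    exact ⟨fun h => ⟨i, h, rfl⟩, fun ⟨j, hj, hji⟩ => hf.1 hji ▸ hj⟩
  have hsub : ∀ M ∈ Pl.lines, ∃ k, (sline k).image f = M := by
    intro M hM
    by_cases hside : ∃ k, L k = M
    · obtain ⟨k, rfl⟩ := hside
      exact ⟨side k, (hstd k).symm⟩
    push Not at hside
    set s : Finset (Fin 13) := Finset.univ.filter fun i => f i ∈ M with hs
    have hsM : s.image f = M := by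
      ext x
      obtain ⟨i, rfl⟩ := hf.2 x
      simp [hs, hf.1.eq_iff]
    have hsc : s.card = 4 := by rw [← Pl.four M hM, ← hsM, Finset.card_image_of_injective _ hf.1]
    let g := s.orderEmbOfFin hsc
    have hg : s = {g 0, g 1, g 2, g 3} := by
      conv_lhs => rw [← Finset.image_orderEmbOfFin_univ s hsc]
      ext x
      simp only [Finset.mem_image, Finset.mem_univ, true_and, Finset.mem_insert, Finset.mem_singleton,
        Fin.exists_fin_succ, Fin.exists_fin_zero]
      simp [g, eq_comm]
    have hcount : ∀ k, sideCount k (g 0) (g 1) (g 2) (g 3) = 1 := by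
      intro k
      obtain ⟨x, hxM, hxL, hu⟩ := Pl.meet hM (hL k) (Ne.symm (hside k))
      obtain ⟨i, rfl⟩ := hf.2 x
      have hmem : ∀ m, ((lineMasks.getD k.val 0).testBit (g m).val = true ↔ g m = i) := fun m => by
        rw [sideMask_iff, ← hiff]
        have hgm : f (g m) ∈ M := (Finset.mem_filter.1 (s.orderEmbOfFin_mem hsc m)).2
        exact ⟨fun h => hf.1 (hu _ hgm h), fun h => h ▸ hxL⟩
      have his : i ∈ s := Finset.mem_filter.2 ⟨Finset.mem_univ _, hxM⟩
      rw [hg] at his
      simp only [Finset.mem_insert, Finset.mem_singleton] at his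
      have hb : ∀ m, ((lineMasks.getD k.val 0).testBit (g m).val).toNat = if g m = i then 1 else 0 := by
        intro m
        by_cases h : g m = i
        · rw [if_pos h, (hmem m).2 h]; rfl
        · rw [if_neg h, Bool.eq_false_iff.2 fun h' => h ((hmem m).1 h')]; rfl
      simp only [sideCount, hb]
      rcases his with rfl | rfl | rfl | rfl <;> simp [g.injective.eq_iff]
    obtain ⟨k, hk⟩ := transversal_shape (g 0) (g 1) (g.strictMono (by decide)) (g 2)
      (g.strictMono (by decide)) (g 3) (g.strictMono (by decide)) hcount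
    exact ⟨k, by rw [hk, ← hg, hsM]⟩
  refine ⟨hf, fun M => ⟨hsub M, ?_⟩⟩
  rintro ⟨k, rfl⟩
  obtain ⟨i, hi, j, hj, hij⟩ := Finset.one_lt_card.1 (show 1 < (sline k).card by rw [sline_card]; norm_num)
  obtain ⟨M, hM, hiM, hjM⟩ := Pl.join (f i) (f j) fun h => hij (hf.1 h)
  obtain ⟨l, rfl⟩ := hsub M hM
  rw [show k = l from sline_unique k l i hi j hj hij
    (by simpa [hf.1.eq_iff] using hiM) (by simpa [hf.1.eq_iff] using hjM)]
  exact hM

/-- A labelling by a frame. -/
theorem PlaneThree.exists_labels :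
    ∃ f : Fin 13 → X, Function.Bijective f ∧ ∀ M, M ∈ Pl.lines ↔ ∃ k, (sline k).image f = M := by
  obtain ⟨a, b, hab⟩ := Fintype.exists_pair_of_one_lt_card (α := X) (by rw [Pl.card_eq]; norm_num)
  obtain ⟨Lab, hab', haab, hbab⟩ := Pl.join a b hab
  obtain ⟨c, hc⟩ : ∃ c, c ∉ Lab := by
    by_contra h
    push Not at h
    have := Finset.card_le_card (show Finset.univ ⊆ Lab from fun x _ => h x)
    rw [Finset.card_univ, Pl.card_eq, Pl.four Lab hab'] at this
    norm_num at this
  have hca : c ≠ a := fun h => hc (h ▸ haab)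
  have hcb : c ≠ b := fun h => hc (h ▸ hbab)
  obtain ⟨Lac, hac', haac, hcac⟩ := Pl.join a c hca.symm
  obtain ⟨Lbc, hbc', hbbc, hcbc⟩ := Pl.join b c hcb.symm
  obtain ⟨d, hd⟩ : ∃ d, d ∉ Lab ∪ Lac ∪ Lbc := by
    by_contra h
    push Not at h
    have hle := Finset.card_le_card (show Finset.univ ⊆ Lab ∪ Lac ∪ Lbc from fun x _ => h x)
    have h1 := Finset.card_union_le (Lab ∪ Lac) Lbc
    have h2 := Finset.card_union_le Lab Lac
    rw [Finset.card_univ, Pl.card_eq] at hle
    rw [Pl.four Lab hab', Pl.four Lac hac'] at h2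
    rw [Pl.four Lbc hbc'] at h1
    omega
  simp only [Finset.mem_union, not_or] at hd
  obtain ⟨⟨hdab, hdac⟩, hdbc⟩ := hd
  have hda : d ≠ a := fun h => hdab (h ▸ haab)
  have hdb : d ≠ b := fun h => hdab (h ▸ hbab)
  have hdc : d ≠ c := fun h => hdac (h ▸ hcac)
  obtain ⟨Lcd, hcd', hccd, hdcd⟩ := Pl.join c d hdc.symm
  obtain ⟨Lbd, hbd', hbbd, hdbd⟩ := Pl.join b d hdb.symm
  obtain ⟨Lad, had', haad, hdad⟩ := Pl.join a d hda.symm
  -- the frame is in general position
  have gen : ∀ {M : Finset X}, M ∈ Pl.lines → ∀ {x y z : X}, x ≠ y → ∀ {N : Finset X}, N ∈ Pl.lines →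
      x ∈ M → y ∈ M → x ∈ N → y ∈ N → z ∈ M → z ∈ N := fun hM _ _ _ hxy _ hN h1 h2 h3 h4 h5 =>
    Pl.only _ hM _ hN _ _ hxy h1 h2 h3 h4 ▸ h5
  have a_bc : a ∉ Lbc := fun h => hc (gen hbc' hab hab' h hbbc haab hbab hcbc)
  have a_cd : a ∉ Lcd := fun h => hdac (gen hcd' hca.symm hac' h hccd haac hcac hdcd)
  have a_bd : a ∉ Lbd := fun h => hdab (gen hbd' hab hab' h hbbd haab hbab hdbd)
  have b_ac : b ∉ Lac := fun h => hc (gen hac' hab hab' haac h haab hbab hcac)
  have b_ad : b ∉ Lad := fun h => hdab (gen had' hab hab' haad h haab hbab hdad)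
  have b_cd : b ∉ Lcd := fun h => hdbc (gen hcd' hcb.symm hbc' h hccd hbbc hcbc hdcd)
  have c_ad : c ∉ Lad := fun h => hdac (gen had' hca.symm hac' haad h haac hcac hdad)
  have c_bd : c ∉ Lbd := fun h => hdbc (gen hbd' hcb.symm hbc' hbbd h hbbc hcbc hdbd)
  -- the diagonal points
  obtain ⟨e, he1, he2, heu⟩ := Pl.meet hab' hcd' (fun h => a_cd (h ▸ haab))
  obtain ⟨f, hf1, hf2, hfu⟩ := Pl.meet hac' hbd' (fun h => a_bd (h ▸ haac))
  obtain ⟨g, hg1, hg2, hgu⟩ := Pl.meet had' hbc' (fun h => a_bc (h ▸ haad))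
  -- pairwise meets
  have meetu : ∀ {M N : Finset X} {x : X}, M ∈ Pl.lines → N ∈ Pl.lines → ∀ {z : X}, z ∈ M → z ∉ N →
      x ∈ M → x ∈ N → ∀ {y : X}, y ∈ M → y ∈ N → y = x := by
    intro M N x hM hN z hzM hzN hxM hxN y hyM hyN
    by_contra hyx
    exact hzN (gen hM hyx hN hyM hxM hyN hxN hzM)
  have abac := fun {y : X} => meetu (x := a) (y := y) hab' hac' hbab b_ac haab haac
  have abad := fun {y : X} => meetu (x := a) (y := y) hab' had' hbab b_ad haab haad
  have acad := fun {y : X} => meetu (x := a) (y := y) hac' had' hcac c_ad haac haad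
  have abbc := fun {y : X} => meetu (x := b) (y := y) hab' hbc' haab a_bc hbab hbbc
  have abbd := fun {y : X} => meetu (x := b) (y := y) hab' hbd' haab a_bd hbab hbbd
  have bdbc := fun {y : X} => meetu (x := b) (y := y) hbd' hbc' hdbd hdbc hbbd hbbc
  have acbc := fun {y : X} => meetu (x := c) (y := y) hac' hbc' haac a_bc hcac hcbc
  have accd := fun {y : X} => meetu (x := c) (y := y) hac' hcd' haac a_cd hcac hccd
  have cdbc := fun {y : X} => meetu (x := c) (y := y) hcd' hbc' hdcd hdbc hccd hcbc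
  have cdbd := fun {y : X} => meetu (x := d) (y := y) hcd' hbd' hccd c_bd hdcd hdbd
  have cdad := fun {y : X} => meetu (x := d) (y := y) hcd' had' hccd c_ad hdcd hdad
  have bdad := fun {y : X} => meetu (x := d) (y := y) hbd' had' hbbd b_ad hdbd hdad
  have e_ac : e ∉ Lac := fun h => a_cd (abac he1 h ▸ he2)
  have e_ad : e ∉ Lad := fun h => a_cd (abad he1 h ▸ he2)
  have e_bc : e ∉ Lbc := fun h => b_cd (abbc he1 h ▸ he2)
  have e_bd : e ∉ Lbd := fun h => b_cd (abbd he1 h ▸ he2)
  have f_ab : f ∉ Lab := fun h => a_bd (abac h hf1 ▸ hf2)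
  have f_ad : f ∉ Lad := fun h => a_bd (acad hf1 h ▸ hf2)
  have f_bc : f ∉ Lbc := fun h => c_bd (acbc hf1 h ▸ hf2)
  have f_cd : f ∉ Lcd := fun h => c_bd (accd hf1 h ▸ hf2)
  have g_ab : g ∉ Lab := fun h => a_bc (abad h hg1 ▸ hg2)
  have g_ac : g ∉ Lac := fun h => a_bc (acad h hg1 ▸ hg2)
  have g_bd : g ∉ Lbd := fun h => hdbc (bdad h hg1 ▸ hg2)
  have g_cd : g ∉ Lcd := fun h => hdbc (cdad h hg1 ▸ hg2)
  -- the fourth points
  obtain ⟨u, hu, hua, hub, hue⟩ := Pl.exists_fourth hab' a b e
  obtain ⟨v, hv, hvc, hvd, hve⟩ := Pl.exists_fourth hcd' c d e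
  obtain ⟨w, hw, hwa, hwc, hwf⟩ := Pl.exists_fourth hac' a c f
  obtain ⟨x, hx, hxb, hxd, hxf⟩ := Pl.exists_fourth hbd' b d f
  obtain ⟨y, hy, hya, hyd, hyg⟩ := Pl.exists_fourth had' a d g
  obtain ⟨z, hz, hzb, hzc, hzg⟩ := Pl.exists_fourth hbc' b c g
  have u1 : u ∉ Lcd := fun h => hue (heu u hu h)
  have u2 : u ∉ Lac := fun h => hua (abac hu h)
  have u3 : u ∉ Lbd := fun h => hub (abbd hu h)
  have u4 : u ∉ Lad := fun h => hua (abad hu h)
  have u5 : u ∉ Lbc := fun h => hub (abbc hu h)
  have v1 : v ∉ Lab := fun h => hve (heu v h hv)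
  have v2 : v ∉ Lac := fun h => hvc (accd h hv)
  have v3 : v ∉ Lbd := fun h => hvd (cdbd hv h)
  have v4 : v ∉ Lad := fun h => hvd (cdad hv h)
  have v5 : v ∉ Lbc := fun h => hvc (cdbc hv h)
  have w1 : w ∉ Lab := fun h => hwa (abac h hw)
  have w2 : w ∉ Lcd := fun h => hwc (accd hw h)
  have w3 : w ∉ Lbd := fun h => hwf (hfu w hw h)
  have w4 : w ∉ Lad := fun h => hwa (acad hw h)
  have w5 : w ∉ Lbc := fun h => hwc (acbc hw h)
  have x1 : x ∉ Lab := fun h => hxb (abbd h hx)
  have x2 : x ∉ Lcd := fun h => hxd (cdbd h hx)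
  have x3 : x ∉ Lac := fun h => hxf (hfu x h hx)
  have x4 : x ∉ Lad := fun h => hxd (bdad hx h)
  have x5 : x ∉ Lbc := fun h => hxb (bdbc hx h)
  have y1 : y ∉ Lab := fun h => hya (abad h hy)
  have y2 : y ∉ Lcd := fun h => hyd (cdad h hy)
  have y3 : y ∉ Lac := fun h => hya (acad h hy)
  have y4 : y ∉ Lbd := fun h => hyd (bdad h hy)
  have y5 : y ∉ Lbc := fun h => hyg (hgu y hy h)
  have z1 : z ∉ Lab := fun h => hzb (abbc h hz)
  have z2 : z ∉ Lcd := fun h => hzc (cdbc h hz)
  have z3 : z ∉ Lac := fun h => hzc (acbc h hz)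
  have z4 : z ∉ Lbd := fun h => hzb (bdbc h hz)
  have z5 : z ∉ Lad := fun h => hzg (hgu z h hz)
  refine ⟨![a, b, c, d, e, f, g, u, v, w, x, y, z],
    Pl.labels_of_sides _ ![Lab, Lcd, Lac, Lbd, Lad, Lbc] ?_ ?_⟩
  · intro k; fin_cases k <;> assumption
  · have T : ∀ (p : X) (i : Fin 13), (p ∈ Lab ↔ i ∈ sline (side 0)) → (p ∈ Lcd ↔ i ∈ sline (side 1)) →
        (p ∈ Lac ↔ i ∈ sline (side 2)) → (p ∈ Lbd ↔ i ∈ sline (side 3)) →
        (p ∈ Lad ↔ i ∈ sline (side 4)) → (p ∈ Lbc ↔ i ∈ sline (side 5)) →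
        ∀ k, (p ∈ ![Lab, Lcd, Lac, Lbd, Lad, Lbc] k ↔ i ∈ sline (side k)) := by
      intro p i t0 t1 t2 t3 t4 t5 k
      fin_cases k
      exacts [t0, t1, t2, t3, t4, t5]
    intro i k
    fin_cases i
    · exact T a 0 (iff_of_true haab (by decide))
        (iff_of_false a_cd (by decide))
        (iff_of_true haac (by decide))
        (iff_of_false a_bd (by decide))
        (iff_of_true haad (by decide))
        (iff_of_false a_bc (by decide)) k
    · exact T b 1 (iff_of_true hbab (by decide))
        (iff_of_false b_cd (by decide))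
        (iff_of_false b_ac (by decide))
        (iff_of_true hbbd (by decide))
        (iff_of_false b_ad (by decide))
        (iff_of_true hbbc (by decide)) k
    · exact T c 2 (iff_of_false hc (by decide))
        (iff_of_true hccd (by decide))
        (iff_of_true hcac (by decide))
        (iff_of_false c_bd (by decide))
        (iff_of_false c_ad (by decide))
        (iff_of_true hcbc (by decide)) k
    · exact T d 3 (iff_of_false hdab (by decide))
        (iff_of_true hdcd (by decide))
        (iff_of_false hdac (by decide))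
        (iff_of_true hdbd (by decide))
        (iff_of_true hdad (by decide))
        (iff_of_false hdbc (by decide)) k
    · exact T e 4 (iff_of_true he1 (by decide))
        (iff_of_true he2 (by decide))
        (iff_of_false e_ac (by decide))
        (iff_of_false e_bd (by decide))
        (iff_of_false e_ad (by decide))
        (iff_of_false e_bc (by decide)) k
    · exact T f 5 (iff_of_false f_ab (by decide))
        (iff_of_false f_cd (by decide))
        (iff_of_true hf1 (by decide))
        (iff_of_true hf2 (by decide))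
        (iff_of_false f_ad (by decide))
        (iff_of_false f_bc (by decide)) k
    · exact T g 6 (iff_of_false g_ab (by decide))
        (iff_of_false g_cd (by decide))
        (iff_of_false g_ac (by decide))
        (iff_of_false g_bd (by decide))
        (iff_of_true hg1 (by decide))
        (iff_of_true hg2 (by decide)) k
    · exact T u 7 (iff_of_true hu (by decide))
        (iff_of_false u1 (by decide))
        (iff_of_false u2 (by decide))
        (iff_of_false u3 (by decide))
        (iff_of_false u4 (by decide))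
        (iff_of_false u5 (by decide)) k
    · exact T v 8 (iff_of_false v1 (by decide))
        (iff_of_true hv (by decide))
        (iff_of_false v2 (by decide))
        (iff_of_false v3 (by decide))
        (iff_of_false v4 (by decide))
        (iff_of_false v5 (by decide)) k
    · exact T w 9 (iff_of_false w1 (by decide))
        (iff_of_false w2 (by decide))
        (iff_of_true hw (by decide))
        (iff_of_false w3 (by decide))
        (iff_of_false w4 (by decide))
        (iff_of_false w5 (by decide)) k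
    · exact T x 10 (iff_of_false x1 (by decide))
        (iff_of_false x2 (by decide))
        (iff_of_false x3 (by decide))
        (iff_of_true hx (by decide))
        (iff_of_false x4 (by decide))
        (iff_of_false x5 (by decide)) k
    · exact T y 11 (iff_of_false y1 (by decide))
        (iff_of_false y2 (by decide))
        (iff_of_false y3 (by decide))
        (iff_of_false y4 (by decide))
        (iff_of_true hy (by decide))
        (iff_of_false y5 (by decide)) k
    · exact T z 12 (iff_of_false z1 (by decide))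
        (iff_of_false z2 (by decide))
        (iff_of_false z3 (by decide))
        (iff_of_false z4 (by decide))
        (iff_of_false z5 (by decide))
        (iff_of_true hz (by decide)) k

/-- Collineations of the labelled plane. -/
def IsCollineation (σ : Equiv.Perm (Fin 13)) : Prop := ∀ k, ∃ l, (sline k).image σ = sline l

theorem IsCollineation.coll_eq {σ : Equiv.Perm (Fin 13)} (hσ : IsCollineation σ) {i j k : Fin 13}
    (h : coll (σ i) (σ j) (σ k) = true) (hij : i ≠ j) : coll i j k = true := by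
  rw [coll_iff] at h ⊢
  obtain ⟨l, h1, h2, h3⟩ := h
  obtain ⟨m, hm1, hm2⟩ := sline_join i j hij
  obtain ⟨l', hl'⟩ := hσ m
  have : l' = l := sline_unique l' l (σ i) (hl' ▸ Finset.mem_image_of_mem σ hm1) (σ j)
    (hl' ▸ Finset.mem_image_of_mem σ hm2) (σ.injective.ne hij) h1 h2
  subst this
  rw [← hl'] at h3
  obtain ⟨k', hk', hkk⟩ := Finset.mem_image.1 h3
  exact ⟨m, hm1, hm2, σ.injective hkk ▸ hk'⟩

theorem IsCollineation.eq_of_frame {σ τ : Equiv.Perm (Fin 13)} (hσ : IsCollineation σ)
    (hτ : IsCollineation τ) (h0 : σ 0 = τ 0) (h1 : σ 1 = τ 1) (h2 : σ 2 = τ 2) (h3 : σ 3 = τ 3) :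
    σ = τ := by
  have step : ∀ s ∈ steps, σ s.2.1.1 = τ s.2.1.1 → σ s.2.1.2 = τ s.2.1.2 → σ s.2.2.1 = τ s.2.2.1 →
      σ s.2.2.2 = τ s.2.2.2 → σ s.1 = τ s.1 := by
    intro s hs ha hb hc hd
    have hdom := List.all_eq_true.1 steps_dom s hs
    simp only [Bool.and_eq_true, bne_iff_ne] at hdom
    obtain ⟨⟨⟨hab, hcd⟩, hk⟩, hl⟩ := hdom
    rw [coll_iff] at hk hl
    obtain ⟨k, ka, kb, kx⟩ := hk
    obtain ⟨l, la, lb, lx⟩ := hl
    have key : ∀ (m : Fin 13) (p q : Fin 13), p ≠ q → σ p = τ p → σ q = τ q → p ∈ sline m → q ∈ sline m →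
        (sline m).image σ = (sline m).image τ := by
      intro m p q hpq hp hq hpm hqm
      obtain ⟨m1, hm1⟩ := hσ m
      obtain ⟨m2, hm2⟩ := hτ m
      rw [hm1, hm2]
      congr 1
      refine sline_unique m1 m2 (σ p) (hm1 ▸ Finset.mem_image_of_mem σ hpm) (σ q)
        (hm1 ▸ Finset.mem_image_of_mem σ hqm) (σ.injective.ne hpq) ?_ ?_
      · rw [hp]; exact hm2 ▸ Finset.mem_image_of_mem τ hpm
      · rw [hq]; exact hm2 ▸ Finset.mem_image_of_mem τ hqm
    have e1 : σ s.1 ∈ (sline k).image τ := key k _ _ hab ha hb ka kb ▸ Finset.mem_image_of_mem σ kx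
    have e2 : σ s.1 ∈ (sline l).image τ := key l _ _ hcd hc hd la lb ▸ Finset.mem_image_of_mem σ lx
    obtain ⟨y1, hy1, hy1'⟩ := Finset.mem_image.1 e1
    obtain ⟨y2, hy2, hy2'⟩ := Finset.mem_image.1 e2
    have : y1 = y2 := τ.injective (hy1'.trans hy2'.symm)
    subst this
    rw [← hy1', steps_spec s hs y1 k l ka kb la lb hy1 hy2]
  have h4 := step (4, (0, 1), (2, 3)) (by decide) h0 h1 h2 h3
  have h5 := step (5, (0, 2), (1, 3)) (by decide) h0 h2 h1 h3
  have h6 := step (6, (0, 3), (1, 2)) (by decide) h0 h3 h1 h2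
  have h7 := step (7, (0, 1), (5, 6)) (by decide) h0 h1 h5 h6
  have h8 := step (8, (2, 3), (5, 6)) (by decide) h2 h3 h5 h6
  have h9 := step (9, (0, 2), (4, 6)) (by decide) h0 h2 h4 h6
  have h10 := step (10, (1, 3), (4, 6)) (by decide) h1 h3 h4 h6
  have h11 := step (11, (0, 3), (4, 5)) (by decide) h0 h3 h4 h5
  have h12 := step (12, (1, 2), (4, 5)) (by decide) h1 h2 h4 h5
  refine Equiv.ext fun i => ?_
  fin_cases i <;> assumption

theorem collineation_image_frame {σ : Equiv.Perm (Fin 13)} (hσ : IsCollineation σ) :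
    (σ 0, σ 1, σ 2, σ 3) ∈ frames := by
  have hc : ∀ i j k, i ≠ j → coll i j k = false → coll (σ i) (σ j) (σ k) = false := fun i j k hij h => by
    by_contra h'
    rw [Bool.not_eq_false] at h'
    rw [hσ.coll_eq h' hij] at h
    exact Bool.noConfusion h
  obtain ⟨f1, f2, f3, f4⟩ := std_frame
  simp only [frames, List.mem_flatMap, List.mem_filter, List.mem_map, List.mem_finRange, true_and]
  refine ⟨σ 0, σ 1, by simp, σ 2, by simp [hc _ _ _ (by decide) f1], σ 3, ?_, rfl⟩
  simp [hc _ _ _ (by decide) f2, hc _ _ _ (by decide) f3, hc _ _ _ (by decide) f4]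

theorem card_collineation_le : Nat.card {σ : Equiv.Perm (Fin 13) // IsCollineation σ} ≤ 5616 := by
  let f : {σ : Equiv.Perm (Fin 13) // IsCollineation σ} → ↥frames.toFinset := fun σ =>
    ⟨(σ.1 0, σ.1 1, σ.1 2, σ.1 3), List.mem_toFinset.2 (collineation_image_frame σ.2)⟩
  have hf : Function.Injective f := by
    intro σ τ h
    have h := congrArg Subtype.val h
    simp only [f, Prod.mk.injEq] at h
    exact Subtype.ext (σ.2.eq_of_frame τ.2 h.1 h.2.1 h.2.2.1 h.2.2.2)
  refine (Nat.card_le_card_of_injective f hf).trans ?_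
  rw [Nat.card_eq_finsetCard, ← frames_length]
  exact frames.toFinset_card_le

theorem scalar_of_fixed : ∀ d : Fin 3 → ZMod 3, (∀ i, (fun j => d j * pvec i j) = pvec i ∨
    (fun j => d j * pvec i j) = -pvec i) → d 0 * d 1 * d 2 = 1 → d = 1 := by decide +kernel

open Matrix in
/-- The action of `SL(3,3)` on the labels. -/
theorem exists_sl_collineations :
    ∃ φ : SpecialLinearGroup (Fin 3) (ZMod 3) →* Equiv.Perm (Fin 13),
      Function.Injective φ ∧ ∀ M, IsCollineation (φ M) := by
  have : Fact (Nat.Prime 3) := ⟨Nat.prime_three⟩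
  have hproj : ∀ v : Fin 3 → ZMod 3, v ≠ 0 → ∃ i, v = pvec i ∨ v = -pvec i := by
    intro v hv
    have heta : ![v 0, v 1, v 2] = v := by ext j; fin_cases j <;> rfl
    obtain ⟨i, h | h⟩ := pvec_proj (v 0) (v 1) (v 2) (fun h => hv (by
      ext j; fin_cases j <;> simp [h.1, h.2.1, h.2.2]))
    · exact ⟨i, Or.inl (by rw [h, heta])⟩
    · refine ⟨i, Or.inr ?_⟩
      rw [h, ← heta]
      ext j; fin_cases j <;> simp
  have huniq : ∀ (v : Fin 3 → ZMod 3) i j, (v = pvec i ∨ v = -pvec i) → (v = pvec j ∨ v = -pvec j) →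
      i = j := by
    intro v i j h1 h2
    apply pvec_inj
    rcases h1 with rfl | rfl <;> rcases h2 with h | h
    · exact Or.inl h
    · exact Or.inr h
    · exact Or.inr (by rw [← h, neg_neg])
    · exact Or.inl (neg_inj.1 h)
  have hc1 : (1 : SpecialLinearGroup (Fin 3) (ZMod 3)).1 = 1 := rfl
  have hcm : ∀ M N : SpecialLinearGroup (Fin 3) (ZMod 3), (M * N).1 = M.1 * N.1 := fun _ _ => rfl
  have hne : ∀ (M : SpecialLinearGroup (Fin 3) (ZMod 3)) i, M.1 *ᵥ pvec i ≠ 0 := by
    intro M i h
    have h' := congrArg (fun w => (M⁻¹).1 *ᵥ w) h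
    rw [mulVec_zero, mulVec_mulVec, ← hcm, inv_mul_cancel,
      hc1, one_mulVec] at h'
    exact pvec_ne i h'
  choose act hact using fun (M : SpecialLinearGroup (Fin 3) (ZMod 3)) i => hproj _ (hne M i)
  have hone : ∀ i, act 1 i = i := fun i =>
    huniq _ _ _ (hact 1 i) (Or.inl (by rw [hc1, one_mulVec]))
  have hmul : ∀ M N i, act (M * N) i = act M (act N i) := fun M N i => by
    refine huniq _ _ _ (hact (M * N) i) ?_
    rw [hcm, ← mulVec_mulVec]
    rcases hact N i with h | h <;> rw [h]
    · exact hact M (act N i)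
    · rw [mulVec_neg]
      rcases hact M (act N i) with h' | h' <;> rw [h']
      · exact Or.inr rfl
      · exact Or.inl (neg_neg _)
  let φ : SpecialLinearGroup (Fin 3) (ZMod 3) →* Equiv.Perm (Fin 13) :=
    { toFun := fun M =>
        { toFun := act M
          invFun := act M⁻¹
          left_inv := fun i => by rw [← hmul, inv_mul_cancel, hone]
          right_inv := fun i => by rw [← hmul, mul_inv_cancel, hone] }
      map_one' := Equiv.ext hone
      map_mul' := fun M N => Equiv.ext (hmul M N) }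
  refine ⟨φ, ?_, ?_⟩
  · rw [injective_iff_map_eq_one]
    intro M hM
    have hfix : ∀ i, act M i = i := fun i => congrArg (fun σ : Equiv.Perm (Fin 13) => σ i) hM
    have hcol : ∀ i, M.1 *ᵥ pvec i = pvec i ∨
        M.1 *ᵥ pvec i = -pvec i := fun i => by
      have := hact M i
      rwa [hfix i] at this
    have hentry : ∀ r s, r ≠ s → M.1 r s = 0 := by
      intro r s hrs
      have h := hcol (Fin.castLE (by norm_num) s)
      have hp : pvec (Fin.castLE (by norm_num) s) = Pi.single s 1 := by
        fin_cases s <;> (ext j; fin_cases j <;> rfl)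
      rw [hp] at h
      rcases h with h | h <;> have h' := congrFun h r <;>
        simpa [mulVec_single, hrs] using h'
    have hM' : M.1 = Matrix.diagonal fun j => M.1 j j := by
      ext r s
      by_cases hrs : r = s
      · subst hrs; simp
      · simp [hrs, hentry r s hrs]
    have hd := scalar_of_fixed (fun j => M.1 j j) (fun i => by
      have h := hcol i
      rw [hM'] at h
      simpa [funext_iff, mulVec_diagonal] using h) (by
      have h := M.2
      rw [hM', det_diagonal, Fin.prod_univ_three] at h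
      exact h)
    apply Subtype.ext
    rw [hc1, hM', hd]
    exact Matrix.diagonal_one
  · intro M k
    obtain ⟨i, hi⟩ := normal_of_line k
    set N := (M⁻¹).1 with hN
    set w := pvec i ᵥ* N with hw
    have hdot : ∀ v, dot3 (pvec i) v = w ⬝ᵥ (M.1 *ᵥ v) := fun v => by
      rw [hw, ← dotProduct_mulVec, mulVec_mulVec, hN, ← hcm, inv_mul_cancel,
        hc1, one_mulVec]
      simp [dot3, dotProduct, Fin.sum_univ_three]
    have hw0 : w ≠ 0 := by
      intro h
      obtain ⟨j, hj⟩ : ∃ j, j ∉ sline k := by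
        by_contra hh
        push Not at hh
        have := Finset.card_le_card (show Finset.univ ⊆ sline k from fun x _ => hh x)
        rw [sline_card] at this
        simp at this
      exact hj ((hi j).2 (by rw [hdot, h, zero_dotProduct]))
    obtain ⟨i', hi'⟩ := hproj w hw0
    obtain ⟨l, hl⟩ := line_of_normal i'
    refine ⟨l, Finset.eq_of_subset_of_card_le ?_ ?_⟩
    · intro x hx
      obtain ⟨j, hj, rfl⟩ := Finset.mem_image.1 hx
      rw [hl]
      have h0 := (hi j).1 hj
      rw [hdot] at h0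
      show dot3 (pvec i') (pvec (act M j)) = 0
      have : dot3 (pvec i') (pvec (act M j)) = pvec i' ⬝ᵥ pvec (act M j) := by
        simp [dot3, dotProduct, Fin.sum_univ_three]
      rw [this]
      rcases hi' with e | e <;> rcases hact M j with e' | e' <;> rw [e, e'] at h0 <;> simpa using h0
    · rw [Finset.card_image_of_injective _ (φ M).injective, sline_card, sline_card]

open Matrix in
/-- A group of order `5616` acting faithfully on a plane of order three is `PSL(3,3)`. -/
theorem nonempty_mulEquiv_psl {G : Type*} [Group G] [MulAction G X] [FaithfulSMul G X]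
    (hG : Nat.card G = 5616) (hinv : ∀ g : G, ∀ L ∈ Pl.lines, L.image (g • ·) ∈ Pl.lines) :
    Nonempty (G ≃* ProjectiveSpecialLinearGroup (Fin 3) (ZMod 3)) := by
  have : Fact (Nat.Prime 3) := ⟨Nat.prime_three⟩
  obtain ⟨f, hf, hlines⟩ := Pl.exists_labels
  set φe := Equiv.ofBijective f hf
  let ψ : G →* Equiv.Perm (Fin 13) :=
    ((φe.symm).permCongrHom : Equiv.Perm X ≃* Equiv.Perm (Fin 13)).toMonoidHom.comp
      (MulAction.toPermHom G X)
  have hψ : Function.Injective ψ :=
    ((φe.symm).permCongrHom : Equiv.Perm X ≃* Equiv.Perm (Fin 13)).injective.comp MulAction.toPerm_injective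
  have hψf : ∀ (g : G) i, f (ψ g i) = g • f i := fun g i => by
    show φe (φe.symm (g • φe i)) = g • f i
    rw [Equiv.apply_symm_apply]; rfl
  have hψc : ∀ g, IsCollineation (ψ g) := fun g k => by
    obtain ⟨l, hl⟩ := (hlines _).1 (hinv g _ ((hlines _).2 ⟨k, rfl⟩))
    refine ⟨l, Finset.image_injective hf.1 ?_⟩
    rw [hl, Finset.image_image, Finset.image_image]
    exact Finset.image_congr fun i _ => hψf g i
  obtain ⟨φ, hφ, hφc⟩ := exists_sl_collineations
  have hZ : Nat.card (Subgroup.center (SpecialLinearGroup (Fin 3) (ZMod 3))) = 1 := by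
    rw [Classical.card_center_SL]; simp
  have hSL : Nat.card (SpecialLinearGroup (Fin 3) (ZMod 3)) = 5616 := by
    have h := Classical.card_SL (F := ZMod 3) 3 (by norm_num)
    rw [ZMod.card, Fin.prod_univ_three] at h
    norm_num at h
    rw [Nat.card_eq_fintype_card]; omega
  have hset : Set.range φ = Set.range ψ := by
    have hfin : {σ : Equiv.Perm (Fin 13) | IsCollineation σ}.ncard ≤ 5616 := by
      rw [← Nat.card_coe_set_eq]; exact card_collineation_le
    have h1 : Set.range φ = {σ | IsCollineation σ} := Set.eq_of_subset_of_ncard_le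
      (by rintro _ ⟨M, rfl⟩; exact hφc M)
      (by rw [← Nat.card_coe_set_eq (Set.range φ), Nat.card_range_of_injective hφ, hSL]; exact hfin)
    have h2 : Set.range ψ = {σ | IsCollineation σ} := Set.eq_of_subset_of_ncard_le
      (by rintro _ ⟨g, rfl⟩; exact hψc g)
      (by rw [← Nat.card_coe_set_eq (Set.range ψ), Nat.card_range_of_injective hψ, hG]; exact hfin)
    rw [h1, h2]
  have hrange : φ.range = ψ.range := SetLike.coe_injective (by simpa using hset)
  have e1 : G ≃* SpecialLinearGroup (Fin 3) (ZMod 3) :=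
    ((MonoidHom.ofInjective hψ).trans (MulEquiv.subgroupCongr hrange.symm)).trans
      (MonoidHom.ofInjective hφ).symm
  exact ⟨e1.trans (((QuotientGroup.quotientMulEquivOfEq (Subgroup.card_eq_one.1 hZ)).trans
    QuotientGroup.quotientBot).symm)⟩

end CfsgLib.Blocks.GLTwoThreeCentralizer
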