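import Mathlib
import Cfsg.Agent.Lib.Known.SL33
import Cfsg.Agent.Lib.Classical.SLGroup
import Cfsg.Agent.Lib.Classical.LinearOrder
import Cfsg.Agent.Lib.Blocks.GLTwoThreeCentralizer.Plane
import Cfsg.Agent.Lib.Blocks.GLTwoThreeCentralizer.Three

/-!
# `PSL(3,3)`: order, involution centralizer, elements of order thirteen
-/

set_option autoImplicit false

open scoped Classical

namespace CfsgLib.Blocks.GLTwoThreeCentralizer

open Matrix

/-- The group. -/
abbrev PSLThree := ProjectiveSpecialLinearGroup (Fin 3) (ZMod 3)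

theorem exists_SL_equiv_PSL : Nonempty (SpecialLinearGroup (Fin 3) (ZMod 3) ≃* PSLThree) := by
  have : Fact (Nat.Prime 3) := ⟨Nat.prime_three⟩
  have hZ : Nat.card (Subgroup.center (SpecialLinearGroup (Fin 3) (ZMod 3))) = 1 := by
    rw [CfsgLib.Classical.card_center_SL]; simp
  exact ⟨((QuotientGroup.quotientMulEquivOfEq (Subgroup.card_eq_one.1 hZ)).trans
    QuotientGroup.quotientBot).symm⟩

theorem card_PSLThree : Nat.card PSLThree = 5616 := by
  have : Fact (Nat.Prime 3) := ⟨Nat.prime_three⟩
  obtain ⟨ι⟩ := exists_SL_equiv_PSL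
  rw [← Nat.card_congr ι.toEquiv]
  have h := CfsgLib.Classical.card_SL (F := ZMod 3) 3 (by norm_num)
  rw [ZMod.card, Fin.prod_univ_three] at h
  norm_num at h
  rw [Nat.card_eq_fintype_card]; omega

theorem toM_tee : CfsgLib.Known.SL33.toM CfsgLib.Known.SL33.tee * CfsgLib.Known.SL33.toM CfsgLib.Known.SL33.tee = 1 ∧
    CfsgLib.Known.SL33.toM CfsgLib.Known.SL33.tee ≠ 1 := by decide +kernel

theorem exists_centralizer_PSLThree : ∃ tL : PSLThree, orderOf tL = 2 ∧
    Nonempty (Subgroup.centralizer ({tL} : Set PSLThree) ≃* GLT) := by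
  have : Fact (Nat.Prime 3) := ⟨Nat.prime_three⟩
  obtain ⟨ι⟩ := exists_SL_equiv_PSL
  refine ⟨ι CfsgLib.Known.SL33.t, ?_, ?_⟩
  · rw [MulEquiv.orderOf_eq]
    have : Fact (Nat.Prime 2) := ⟨Nat.prime_two⟩
    refine orderOf_eq_prime ?_ fun h => toM_tee.2 (congrArg Subtype.val h)
    rw [sq]
    exact Subtype.ext toM_tee.1
  · set f : GLT →* PSLThree := ι.toMonoidHom.comp CfsgLib.Known.SL33.emb
    have hf : Function.Injective f := ι.injective.comp CfsgLib.Known.SL33.emb_injective
    have hr : f.range = Subgroup.centralizer ({ι CfsgLib.Known.SL33.t} : Set PSLThree) := by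
      ext g
      rw [Subgroup.mem_centralizer_singleton_iff]
      constructor
      · rintro ⟨A, rfl⟩
        show ι _ * ι _ = ι _ * ι _
        rw [← map_mul, ← map_mul]
        refine congrArg ι (Subgroup.mem_centralizer_singleton_iff.1 ?_)
        rw [← CfsgLib.Known.SL33.range_emb]
        exact ⟨A, rfl⟩
      · intro hg
        obtain ⟨x, rfl⟩ := ι.surjective g
        rw [← map_mul, ← map_mul] at hg
        have : x ∈ CfsgLib.Known.SL33.emb.range := by
          rw [CfsgLib.Known.SL33.range_emb, Subgroup.mem_centralizer_singleton_iff]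
          exact ι.injective hg
        obtain ⟨A, rfl⟩ := this
        exact ⟨A, rfl⟩
    exact ⟨((MonoidHom.ofInjective hf).trans (MulEquiv.subgroupCongr hr)).symm⟩

theorem isSimpleGroup_PSLThree : IsSimpleGroup PSLThree := by
  have : Fact (Nat.Prime 3) := ⟨Nat.prime_three⟩
  exact CfsgLib.Classical.isSimpleGroup_PSL le_rfl

/-- An element of order thirteen generates its centralizer. -/
theorem card_centralizer_thirteen {G : Type*} [Group G] [Finite G] [IsSimpleGroup G]
    {t : G} (e : Subgroup.centralizer ({t} : Set G) ≃* GLT) (ht : orderOf t = 2)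
    (hN : Nat.card G = 5616) {y : G} (hy : orderOf y = 13) :
    Nat.card (Subgroup.centralizer ({y} : Set G)) = 13 := by
  set K := Subgroup.centralizer ({y} : Set G) with hK
  have h13 : 13 ∣ Nat.card K := by
    rw [← hy]; exact Subgroup.orderOf_dvd_natCard _ (Subgroup.mem_centralizer_singleton_iff.2 rfl)
  have h2 : ¬ 2 ∣ Nat.card K := by
    intro h2
    have : Fact (Nat.Prime 2) := ⟨Nat.prime_two⟩
    obtain ⟨i, hi⟩ := exists_prime_orderOf_dvd_card' (G := K) 2 h2
    obtain ⟨g, hg⟩ := isConj_iff.1 (isConj_t e ht (x := (i : G)) (by rw [Subgroup.orderOf_coe, hi]))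
    have hmem : g⁻¹ * y * g ∈ Subgroup.centralizer ({t} : Set G) := by
      rw [Subgroup.mem_centralizer_singleton_iff]
      have h := Subgroup.mem_centralizer_singleton_iff.1 i.2
      rw [← hg] at h
      calc g⁻¹ * y * g * t = g⁻¹ * (y * (g * t * g⁻¹)) * g := by group
        _ = _ := by rw [← h]; group
    have hd := Subgroup.orderOf_dvd_natCard _ hmem
    rw [show orderOf (g⁻¹ * y * g) = 13 by simpa [hy] using orderOf_conj3 g⁻¹ y, card_centralizer e] at hd
    norm_num at hd
  have h3 : ¬ 3 ∣ Nat.card K := by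
    intro h3
    have : Fact (Nat.Prime 3) := ⟨Nat.prime_three⟩
    obtain ⟨x, hx⟩ := exists_prime_orderOf_dvd_card' (G := K) 3 h3
    exact no_thirteen_three e ht hN hy (x := (x : G)) (by rw [Subgroup.orderOf_coe, hx])
      (Subgroup.mem_centralizer_singleton_iff.1 x.2).symm
  have key : ∀ d ∈ Nat.divisors 5616, 13 ∣ d → ¬ 2 ∣ d → ¬ 3 ∣ d → d = 13 := by decide +kernel
  exact key _ (Nat.mem_divisors.2 ⟨hN ▸ K.card_subgroup_dvd_card, by norm_num⟩) h13 h2 h3

/-- A self-centralizing subgroup of order thirteen forces no proper `2`-residual. -/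
theorem pResidual_two_eq_top {H : Type*} [Group H] [Finite H] (hH : Nat.card H = 5616) {y : H}
    (hy : orderOf y = 13) (hC : Nat.card (Subgroup.centralizer ({y} : Set H)) = 13) :
    Cfsg.pResidual 2 H = ⊤ := by
  set R := Cfsg.pResidual 2 H with hR
  have hodd : ∀ g : H, ¬ 2 ∣ orderOf g → g ∈ R := fun g hg =>
    Subgroup.subset_closure ((Nat.prime_two.coprime_iff_not_dvd.2 hg).symm)
  have hRn : R.Normal := by
    refine ⟨fun a ha g => ?_⟩
    have hle : R ≤ R.comap (MulAut.conj g).toMonoidHom := by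
      rw [hR, Cfsg.pResidual, Subgroup.closure_le]
      intro x hx
      refine Subgroup.subset_closure ?_
      show Nat.Coprime (orderOf (MulAut.conj g x)) 2
      rw [MulEquiv.orderOf_eq]
      exact hx
    exact hle ha
  have : Fact (Nat.Prime 13) := ⟨by norm_num⟩
  obtain ⟨P, hP⟩ := (IsPGroup.of_card (n := 1) (by rw [Nat.card_zpowers, hy, pow_one]) :
    IsPGroup 13 (Subgroup.zpowers y)).exists_le_sylow
  have hPc : Nat.card (P : Subgroup H) = 13 := by
    rw [P.card_eq_multiplicity, hH, show (5616 : ℕ) = 13 ^ 1 * 432 by norm_num,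
      Nat.factorization_mul (by norm_num) (by norm_num)]
    simp only [Finsupp.coe_add, Pi.add_apply]
    rw [Nat.Prime.factorization_pow (by norm_num : Nat.Prime 13),
      Nat.factorization_eq_zero_of_not_dvd (show ¬ 13 ∣ 432 by norm_num)]
    simp
  have hPy : (P : Subgroup H) = Subgroup.zpowers y :=
    (Subgroup.eq_of_le_of_card_ge hP (by rw [hPc, Nat.card_zpowers, hy])).symm
  set N := Subgroup.normalizer ((P : Subgroup H) : Set H) with hNdef
  -- the normalizer has order at most `12 * 13`
  have hNle : Nat.card N ≤ 13 * 13 := by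
    have hfib : ∀ a b : N, (a : H) * y * (a : H)⁻¹ = (b : H) * y * (b : H)⁻¹ →
        (b : H)⁻¹ * a ∈ Subgroup.centralizer ({y} : Set H) := by
      intro a b h
      rw [Subgroup.mem_centralizer_singleton_iff]
      calc (b : H)⁻¹ * a * y = (b : H)⁻¹ * ((a : H) * y * (a : H)⁻¹) * a := by group
        _ = _ := by rw [h]; group
    choose pick hpick using fun v : {v : H // ∃ n : N, (n : H) * y * (n : H)⁻¹ = v} => v.2
    calc Nat.card N ≤ Nat.card ({v : H // ∃ n : N, (n : H) * y * (n : H)⁻¹ = v} ×
          Subgroup.centralizer ({y} : Set H)) := by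
          refine Nat.card_le_card_of_injective (fun a : N => (⟨(a : H) * y * (a : H)⁻¹, a, rfl⟩,
            ⟨((pick ⟨(a : H) * y * (a : H)⁻¹, a, rfl⟩ : N) : H)⁻¹ * a, hfib a _
              (hpick ⟨(a : H) * y * (a : H)⁻¹, a, rfl⟩).symm⟩)) ?_
          intro a b h
          obtain ⟨h1, h2⟩ := Prod.mk.injEq _ _ _ _ ▸ h
          have h2' := congrArg Subtype.val h2
          simp only [h1] at h2'
          exact Subtype.ext (mul_left_cancel h2')
      _ ≤ 13 * 13 := by
          rw [Nat.card_prod, hC]
          refine Nat.mul_le_mul_right _ ?_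
          rw [← hPc]
          refine Nat.card_le_card_of_injective (fun v => ⟨v.1, ?_⟩) fun a b h =>
            Subtype.ext (congrArg (fun u : (P : Subgroup H) => (u : H)) h)
          obtain ⟨n, hn⟩ := v.2
          rw [← hn]
          exact (Subgroup.mem_normalizer_iff.1 n.2 y).1 (hPy ▸ Subgroup.mem_zpowers y)
  have hNR : N ≤ R := by
    intro g hg
    refine hodd g fun h2 => ?_
    have h2N : 2 ∣ Nat.card N := h2.trans (Subgroup.orderOf_dvd_natCard _ hg)
    have hdvd : Nat.card (Sylow 13 H) ∣ 432 := by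
      have h := P.card_dvd_index
      have h3 := (P : Subgroup H).card_mul_index
      rw [hH, hPc] at h3
      rwa [show (P : Subgroup H).index = 432 by omega] at h
    have hmul := N.card_mul_index
    rw [hH, show N.index = Nat.card (Sylow 13 H) from P.card_eq_index_normalizer.symm] at hmul
    have key : ∀ d ∈ Nat.divisors 432, d % 13 = 1 → d = 1 ∨ d = 27 ∨ d = 144 := by decide +kernel
    rcases key _ (Nat.mem_divisors.2 ⟨hdvd, by norm_num⟩) (card_sylow_modEq_one (p := 13) (G := H))
      with h | h | h <;> rw [h] at hmul <;> omega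
  have hPR : (P : Subgroup H) ≤ R := Subgroup.le_normalizer.trans hNR
  have hFr := Sylow.normalizer_sup_eq_top (P.subtype hPR)
  rw [Sylow.coe_subtype, Subgroup.subgroupOf_map_subtype, inf_eq_left.2 hPR] at hFr
  rw [← hFr, eq_comm, sup_eq_right]
  exact hNR

end CfsgLib.Blocks.GLTwoThreeCentralizer
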