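import Mathlib
import Cfsg.Agent.Lib.Blocks.GLTwoThreeCentralizer.Nine
import Cfsg.Agent.Lib.Blocks.GLTwoThreeCentralizer.Plane

/-!
# The plane of a simple group of order `5616`

Points are the conjugates of the subgroup of order nine; lines are the fixed sets of conjugates of
one of its elements.
-/

set_option autoImplicit false

open scoped Classical

namespace CfsgLib.Blocks.GLTwoThreeCentralizer

open MulAction
open scoped Pointwise

variable {G : Type*} [Group G] [Fintype G]

/-- The data. -/
structure NineData (A : Subgroup G) (P : Sylow 3 G) (u : G) : Prop where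
  order : Nat.card G = 5616
  card_A : Nat.card A = 9
  memu : u ∈ A
  ou : orderOf u = 3
  AP : A ≤ (P : Subgroup G)
  Pu : (P : Subgroup G) ≤ Subgroup.centralizer ({u} : Set G)
  NP : Subgroup.normalizer ((P : Subgroup G) : Set G) ≤ Subgroup.normalizer (A : Set G)
  card_H : Nat.card (Subgroup.normalizer (A : Set G)) = 432
  trans : ∀ a ∈ A, a ≠ 1 → ∃ n ∈ Subgroup.normalizer (A : Set G), n * u * n⁻¹ = a

variable {A : Subgroup G} {P : Sylow 3 G} {u : G}

/-- The points. -/
abbrev Pts (A : Subgroup G) := G ⧸ Subgroup.normalizer (A : Set G)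

/-- The base point. -/
abbrev base (A : Subgroup G) : Pts A := ((1 : G) : Pts A)

theorem smul_base_iff {g : G} : g • base A = base A ↔ g ∈ Subgroup.normalizer (A : Set G) := by
  rw [MulAction.Quotient.smul_coe, QuotientGroup.eq]
  simp

/-- The fixed set of an element. -/
noncomputable def fixSet (A : Subgroup G) (a : G) : Finset (Pts A) :=
  Finset.univ.filter fun x => a • x = x

theorem mem_fixSet {a : G} {x : Pts A} : x ∈ fixSet A a ↔ a • x = x := by simp [fixSet]

theorem fixSet_conj (g a : G) : fixSet A (g * a * g⁻¹) = (fixSet A a).image (g • ·) := by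
  ext x
  rw [Finset.mem_image, mem_fixSet]
  constructor
  · intro h
    refine ⟨g⁻¹ • x, mem_fixSet.2 ?_, smul_inv_smul g x⟩
    nth_rewrite 2 [← h]
    rw [smul_smul, smul_smul]
    congr 1
    group
  · rintro ⟨y, hy, rfl⟩
    rw [mem_fixSet] at hy
    rw [smul_smul, show g * a * g⁻¹ * g = g * a by group, mul_smul, hy]

theorem card_fixSet_conj (g a : G) : (fixSet A (g * a * g⁻¹)).card = (fixSet A a).card := by
  rw [fixSet_conj, Finset.card_image_of_injective _ (MulAction.injective g)]

/-- The lines. -/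
def lineSet (A : Subgroup G) (u : G) : Set (Finset (Pts A)) :=
  {L | ∃ g : G, fixSet A (g * u * g⁻¹) = L}

variable (D : NineData A P u)
include D

theorem NineData.card_P : Nat.card (P : Subgroup G) = 27 := card_sylow_three' D.order P
where
  card_sylow_three' (hN : Nat.card G = 5616) (P : Sylow 3 G) : Nat.card (P : Subgroup G) = 27 := by
    have : Fact (Nat.Prime 3) := ⟨Nat.prime_three⟩
    rw [P.card_eq_multiplicity, hN, show (5616 : ℕ) = 3 ^ 3 * 208 by norm_num,
      Nat.factorization_mul (by norm_num) (by norm_num)]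
    simp only [Finsupp.coe_add, Pi.add_apply]
    rw [Nat.Prime.factorization_pow Nat.prime_three,
      Nat.factorization_eq_zero_of_not_dvd (show ¬ 3 ∣ 208 by norm_num)]
    simp

theorem NineData.card_points : Fintype.card (Pts A) = 13 := by
  have h := (Subgroup.normalizer (A : Set G)).card_mul_index
  rw [D.card_H, D.order, Subgroup.index_eq_card, Nat.card_eq_fintype_card (α := Pts A)] at h
  omega

/-- The only conjugate of `A` in `P` is `A`. -/
theorem NineData.mem_of_conj_le {g : G} (hg : ∀ a ∈ A, g * a * g⁻¹ ∈ (P : Subgroup G)) :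
    g ∈ Subgroup.normalizer (A : Set G) := by
  have : Fact (Nat.Prime 3) := ⟨Nat.prime_three⟩
  set B := A.map (MulAut.conj g).toMonoidHom with hB
  have hBP : B ≤ (P : Subgroup G) := by rintro _ ⟨a, ha, rfl⟩; exact hg a ha
  have hBc : Nat.card B = 9 := by
    rw [hB, Subgroup.card_map_of_injective (K := A) (f := (MulAut.conj g).toMonoidHom)
      (MulAut.conj g).injective, D.card_A]
  have hnorm : ∀ (A' : Subgroup G), A' ≤ (P : Subgroup G) → Nat.card A' = 9 →
      (P : Subgroup G) ≤ Subgroup.normalizer (A' : Set G) := by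
    intro A' h h9
    have hnormal : (A'.subgroupOf (P : Subgroup G)).Normal := by
      refine Subgroup.normal_of_index_eq_minFac_card ?_
      have h' := (A'.subgroupOf (P : Subgroup G)).card_mul_index
      rw [Nat.card_congr (Subgroup.subgroupOfEquivOfLe h).toEquiv, h9, D.card_P] at h'
      rw [D.card_P]; norm_num; omega
    exact (Subgroup.normal_subgroupOf_iff_le_normalizer h).1 hnormal
  set NB := Subgroup.normalizer (B : Set G) with hNB
  have hgP : ((g • P : Sylow 3 G) : Subgroup G) ≤ NB := by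
    intro x hx
    rw [Sylow.coe_subgroup_smul, Subgroup.mem_pointwise_smul_iff_inv_smul_mem] at hx
    rw [← map_inv, MulAut.smul_def, MulAut.conj_apply, inv_inv] at hx
    have hn := Subgroup.mem_normalizer_iff.1 (hnorm A D.AP D.card_A hx)
    rw [hNB, Subgroup.mem_normalizer_iff]
    intro y
    rw [hB]
    constructor
    · rintro ⟨a, ha, rfl⟩
      refine ⟨_, (hn a).1 ha, ?_⟩
      simp [mul_assoc]
    · rintro ⟨a, ha, hay⟩
      refine ⟨(g⁻¹ * x * g)⁻¹ * a * (g⁻¹ * x * g), (hn _).2 ?_, ?_⟩
      · simpa [mul_assoc] using ha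
      · have : g * a * g⁻¹ = x * y * x⁻¹ := by simpa using hay
        show g * ((g⁻¹ * x * g)⁻¹ * a * (g⁻¹ * x * g)) * g⁻¹ = y
        calc _ = x⁻¹ * (g * a * g⁻¹) * x := by group
          _ = y := by rw [this]; group
  obtain ⟨n, hn⟩ := MulAction.exists_smul_eq NB ((g • P : Sylow 3 G).subtype hgP)
    (P.subtype (hnorm B hBP hBc))
  have hsyl : ((n : G) * g) • P = P := by
    rw [mul_smul]
    exact Sylow.subtype_injective (hP := (n.2 |> fun _ => by
      intro x hx
      rw [Sylow.coe_subgroup_smul, Subgroup.mem_pointwise_smul_iff_inv_smul_mem] at hx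
      rw [← map_inv, MulAut.smul_def, MulAut.conj_apply, inv_inv] at hx
      have := NB.mul_mem (NB.mul_mem n.2 (hgP hx)) (NB.inv_mem n.2)
      simpa [mul_assoc] using this)) (hQ := hnorm B hBP hBc) (by rw [← hn, Sylow.smul_subtype hgP n]; rfl)
  have hng := D.NP (Sylow.smul_eq_iff_mem_normalizer.1 hsyl)
  rw [Subgroup.mem_normalizer_iff] at hng
  have hle : B ≤ A := by
    rintro _ ⟨a, ha, rfl⟩
    have hmem : (n : G) * (g * a * g⁻¹) * (n : G)⁻¹ ∈ A := by
      simpa [mul_assoc] using (hng a).1 ha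
    show g * a * g⁻¹ ∈ A
    have hn' := Subgroup.mem_normalizer_iff.1 (NB.inv_mem n.2) ((n : G) * (g * a * g⁻¹) * (n : G)⁻¹)
    by_contra hcon
    have hBA : ∀ y, y ∈ A → (n : G)⁻¹ * y * n ∈ B := by
      intro y hy
      obtain ⟨a', ha', he⟩ : ∃ a' ∈ A, (n : G) * g * a' * ((n : G) * g)⁻¹ = y := by
        refine ⟨((n : G) * g)⁻¹ * y * ((n : G) * g), (hng _).2 ?_, ?_⟩
        · simpa [mul_assoc] using hy
        · group
      exact ⟨a', ha', by rw [← he]; show g * a' * g⁻¹ = _; group⟩
    have hAB : A = B := by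
      refine Subgroup.eq_of_le_of_card_ge (fun y hy => ?_) (by rw [hBc, D.card_A])
      have h1 := hBA y hy
      have h2 := (Subgroup.mem_normalizer_iff.1 n.2 _).1 h1
      simpa [mul_assoc] using h2
    exact hcon (hAB ▸ ⟨a, ha, rfl⟩)
  have heq : B = A := Subgroup.eq_of_le_of_card_ge hle (by rw [hBc, D.card_A])
  rw [Subgroup.mem_normalizer_iff]
  intro y
  constructor
  · exact fun hy => heq.le ⟨y, hy, rfl⟩
  · intro hy
    obtain ⟨y', hy', he⟩ := heq.symm.le hy
    exact (MulAut.conj g).injective he ▸ hy'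

/-- `A` fixes only the base point. -/
theorem NineData.eq_base {x : Pts A} (hx : ∀ a ∈ A, a • x = x) : x = base A := by
  have : Fact (Nat.Prime 3) := ⟨Nat.prime_three⟩
  obtain ⟨g, rfl⟩ := QuotientGroup.mk_surjective x
  have hgH : ∀ a ∈ A, g⁻¹ * a * g ∈ Subgroup.normalizer (A : Set G) := fun a ha => by
    have h := hx a ha
    rw [MulAction.Quotient.smul_coe, QuotientGroup.eq] at h
    have := (Subgroup.normalizer (A : Set G)).inv_mem h
    simpa [mul_assoc] using this
  set B := A.map (MulAut.conj g⁻¹).toMonoidHom with hB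
  have hBH : B ≤ Subgroup.normalizer (A : Set G) := by
    rintro _ ⟨a, ha, rfl⟩
    simpa [mul_assoc] using hgH a ha
  have hAp : IsPGroup 3 A := IsPGroup.of_card (n := 2) (by rw [D.card_A]; norm_num)
  have hsup : IsPGroup 3 (B ⊔ A : Subgroup G) :=
    IsPGroup.to_sup_of_normal_right' (hAp.map _) hAp hBH
  obtain ⟨Q, hQ⟩ := hsup.exists_le_sylow
  obtain ⟨k, hk⟩ := MulAction.exists_smul_eq G Q P
  have hmem : ∀ y ∈ (B ⊔ A : Subgroup G), k * y * k⁻¹ ∈ (P : Subgroup G) := fun y hy => by
    rw [← hk, Sylow.coe_subgroup_smul]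
    exact Subgroup.smul_mem_pointwise_smul y (MulAut.conj k) _ (hQ hy)
  have h1 := D.mem_of_conj_le (g := k) fun a ha => hmem a (Subgroup.mem_sup_right ha)
  have h2 := D.mem_of_conj_le (g := k * g⁻¹) fun a ha => by
    have := hmem (g⁻¹ * a * g) (Subgroup.mem_sup_left ⟨a, ha, by simp⟩)
    simpa [mul_assoc] using this
  have hg : g ∈ Subgroup.normalizer (A : Set G) := by
    have := (Subgroup.normalizer (A : Set G)).mul_mem ((Subgroup.normalizer (A : Set G)).inv_mem h2) h1
    simpa [mul_assoc] using this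
  rw [base, QuotientGroup.eq]
  simpa using hg

omit D in
/-- The stabiliser of a point inside a subgroup. -/
noncomputable def stabIn (K : Subgroup G) (x : Pts A) : Subgroup G := K ⊓ stabilizer G x

omit D in
theorem card_orbit_in (K : Subgroup G) (x : Pts A) :
    (Finset.univ.image fun k : K => (k : G) • x).card * Nat.card (stabIn K x) = Nat.card K := by
  have h := MulAction.card_orbit_mul_card_stabilizer_eq_card_group K x
  have h1 : (Finset.univ.image fun k : K => (k : G) • x).card = Nat.card (orbit K x) := by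
    rw [← Nat.card_eq_finsetCard]
    refine Nat.card_congr (Equiv.subtypeEquivRight fun y => ?_)
    simp only [Finset.mem_image, Finset.mem_univ, true_and]
    exact ⟨fun ⟨k, hk⟩ => ⟨k, hk⟩, fun ⟨k, hk⟩ => ⟨k, hk⟩⟩
  have h2 : Nat.card (stabIn K x) = Nat.card (stabilizer K x) := by
    refine Nat.card_congr
      { toFun := fun g => ⟨⟨g, g.2.1⟩, g.2.2⟩
        invFun := fun k => ⟨(k : K), (k : K).2, k.2⟩
        left_inv := fun g => rfl
        right_inv := fun k => rfl }
  rw [h1, h2, Nat.card_eq_fintype_card, Nat.card_eq_fintype_card, h, Nat.card_eq_fintype_card]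

theorem NineData.card_stab {x : Pts A} (hx : x ≠ base A) : Nat.card (stabIn A x) = 3 := by
  have h9 : ∀ y : Pts A, y ≠ base A → Nat.card (stabIn A y) = 1 ∨ Nat.card (stabIn A y) = 3 := by
    intro y hy
    have hd : Nat.card (stabIn A y) ∣ 3 ^ 2 := by
      rw [show (3 : ℕ) ^ 2 = 9 by norm_num, ← D.card_A]; exact Subgroup.card_dvd_of_le inf_le_left
    obtain ⟨k, hk, hkc⟩ := (Nat.dvd_prime_pow Nat.prime_three).1 hd
    rw [hkc]
    rcases k with _ | _ | _ | k
    · left; rfl
    · right; rfl
    · exfalso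
      refine hy (D.eq_base fun a ha => ?_)
      have heq : stabIn A y = A :=
        Subgroup.eq_of_le_of_card_ge inf_le_left (by rw [hkc, D.card_A]; norm_num)
      exact ((heq.symm.le ha : a ∈ stabIn A y)).2
    · omega
  rcases h9 x hx with h1 | h3
  swap
  · exact h3
  exfalso
  let O : Pts A → Finset (Pts A) := fun y => Finset.univ.image fun k : A => (k : G) • y
  have hOc : ∀ y, (O y).card * Nat.card (stabIn A y) = 9 := fun y => D.card_A ▸ card_orbit_in A y
  have hOx : (O x).card = 9 := by have := hOc x; rw [h1] at this; omega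
  have hbase : ∀ y, y ≠ base A → base A ∉ O y := by
    intro y hy h
    obtain ⟨k, -, hk⟩ := Finset.mem_image.1 h
    apply hy
    rw [← inv_smul_smul (k : G) y, hk]
    exact smul_base_iff.2 (Subgroup.le_normalizer (A.inv_mem k.2))
  have hself : ∀ y, y ∈ O y := fun y => Finset.mem_image.2 ⟨1, Finset.mem_univ _, one_smul _ _⟩
  have hdisj : ∀ y z, z ∉ O y → Disjoint (O y) (O z) := by
    intro y z hz
    refine Finset.disjoint_left.2 fun w hwy hwz => hz ?_
    obtain ⟨a, -, ha⟩ := Finset.mem_image.1 hwy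
    obtain ⟨b, -, hb⟩ := Finset.mem_image.1 hwz
    refine Finset.mem_image.2 ⟨b⁻¹ * a, Finset.mem_univ _, ?_⟩
    rw [Subgroup.coe_mul, mul_smul, ha, ← hb, Subgroup.coe_inv, inv_smul_smul]
  set R := (Finset.univ.erase (base A)) \ O x with hR
  have hRc : R.card = 3 := by
    rw [hR, Finset.card_sdiff_of_subset (fun w hw => Finset.mem_erase.2
      ⟨fun h => hbase x hx (by rw [← h]; exact hw), Finset.mem_univ _⟩), Finset.card_erase_of_mem (Finset.mem_univ _),
      Finset.card_univ, D.card_points, hOx]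
  obtain ⟨r, hr⟩ := Finset.card_pos.1 (show 0 < R.card by omega)
  have hmemR : ∀ y ∈ R, y ≠ base A ∧ y ∉ O x := fun y hy => by
    rw [hR, Finset.mem_sdiff, Finset.mem_erase] at hy
    exact ⟨hy.1.1, hy.2⟩
  have hsub : ∀ y ∈ R, O y ⊆ R := by
    intro y hy w hw
    rw [hR, Finset.mem_sdiff, Finset.mem_erase]
    exact ⟨⟨fun h => hbase y (hmemR y hy).1 (h ▸ hw), Finset.mem_univ _⟩,
      fun h => Finset.disjoint_left.1 (hdisj x y (hmemR y hy).2) h hw⟩
  have hstab3 : ∀ y ∈ R, Nat.card (stabIn A y) = 3 := by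
    intro y hy
    rcases h9 y (hmemR y hy).1 with h | h
    · have := hOc y; rw [h] at this
      have := Finset.card_le_card (hsub y hy)
      omega
    · exact h
  have hOr : O r = R := Finset.eq_of_subset_of_card_le (hsub r hr) (by
    have := hOc r; rw [hstab3 r hr] at this; omega)
  -- the kernel on `R` is invariant under the normalizer
  set F := stabIn A r with hF
  have hFinv : ∀ n ∈ Subgroup.normalizer (A : Set G), ∀ f ∈ F, n * f * n⁻¹ ∈ F := by
    intro n hn f hf
    have hnr : n • r ∈ R := by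
      have hne : n • r ≠ base A := fun h => (hmemR r hr).1 (by
        rw [← inv_smul_smul n r, h]; exact smul_base_iff.2 (inv_mem hn))
      rw [hR, Finset.mem_sdiff, Finset.mem_erase]
      refine ⟨⟨hne, Finset.mem_univ _⟩, fun hO => ?_⟩
      obtain ⟨a, -, ha⟩ := Finset.mem_image.1 hO
      have hbot : stabIn A x = ⊥ := Subgroup.card_eq_one.1 h1
      obtain ⟨f₀, hf₀⟩ := exists_prime_orderOf_dvd_card' (G := F) 3 (hp := ⟨Nat.prime_three⟩)
        (by rw [hF, hstab3 r hr])
      have hfix : ((a : G)⁻¹ * (n * (f₀ : G) * n⁻¹) * a) ∈ stabIn A x := by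
        refine ⟨A.mul_mem (A.mul_mem (A.inv_mem a.2) ((Subgroup.mem_normalizer_iff.1 hn _).1 f₀.2.1)) a.2, ?_⟩
        show ((a : G)⁻¹ * (n * (f₀ : G) * n⁻¹) * a) • x = x
        rw [mul_smul, mul_smul, ha]
        rw [mul_smul, mul_smul, inv_smul_smul, show (f₀ : G) • r = r from f₀.2.2, ← ha, inv_smul_smul]
      rw [hbot, Subgroup.mem_bot] at hfix
      have : (f₀ : G) = 1 := by
        have h' : n * (f₀ : G) * n⁻¹ = 1 := by
          calc n * (f₀ : G) * n⁻¹ = (a : G) * ((a : G)⁻¹ * (n * (f₀ : G) * n⁻¹) * a) * (a : G)⁻¹ := by group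
            _ = 1 := by rw [hfix]; group
        calc (f₀ : G) = n⁻¹ * (n * (f₀ : G) * n⁻¹) * n := by group
          _ = 1 := by rw [h']; group
      rw [← Subgroup.orderOf_coe, this, orderOf_one] at hf₀
      norm_num at hf₀
    rw [← hOr] at hnr
    obtain ⟨a, -, ha⟩ := Finset.mem_image.1 hnr
    have hmem := (Subgroup.mem_normalizer_iff.1 hn f).1 hf.1
    refine ⟨hmem, ?_⟩
    have hfnr : (n * f * n⁻¹) • (n • r) = n • r := by
      rw [smul_smul, show n * f * n⁻¹ * n = n * f by group, mul_smul, show f • r = r from hf.2]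
    rw [← ha, smul_smul, commute_of_card_nine D.card_A hmem a.2, mul_smul] at hfnr
    exact MulAction.injective (a : G) hfnr
  obtain ⟨f₀, hf₀⟩ := exists_prime_orderOf_dvd_card' (G := F) 3 (hp := ⟨Nat.prime_three⟩)
    (by rw [hF, hstab3 r hr])
  have hf1 : (f₀ : G) ≠ 1 := fun h => by
    rw [← Subgroup.orderOf_coe, h, orderOf_one] at hf₀; norm_num at hf₀
  obtain ⟨n₀, hn₀, hn₀'⟩ := D.trans _ f₀.2.1 hf1
  have hAF : A ≤ F := by
    intro a ha
    by_cases ha1 : a = 1
    · subst ha1; exact one_mem _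
    obtain ⟨n, hn, hna⟩ := D.trans a ha ha1
    have := hFinv (n * n₀⁻¹) (mul_mem hn (inv_mem hn₀)) f₀ f₀.2
    rw [← hn₀'] at this
    rw [← hna]
    simpa [mul_assoc] using this
  have := Subgroup.card_dvd_of_le hAF
  rw [D.card_A, hF, hstab3 r hr] at this
  norm_num at this

/-- An element of `A` other than the identity fixes four points. -/
theorem NineData.card_fix {a : G} (ha : a ∈ A) (ha1 : a ≠ 1) : (fixSet A a).card = 4 := by
  set A1 := Finset.univ.filter fun b : G => b ∈ A ∧ b ≠ 1 with hA1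
  have hA1c : A1.card = 8 := by
    have : A1 = ((A : Set G).toFinset).erase 1 := by ext b; simp [hA1, and_comm]
    rw [this, Finset.card_erase_of_mem (by simp), ← Set.ncard_eq_toFinset_card', ← Nat.card_coe_set_eq]
    exact congrArg (· - 1) D.card_A
  have hconst : ∀ b ∈ A1, (fixSet A b).card = (fixSet A u).card := by
    intro b hb
    obtain ⟨n, -, rfl⟩ := D.trans b (Finset.mem_filter.1 hb).2.1 (Finset.mem_filter.1 hb).2.2
    rw [card_fixSet_conj]
  have hsum : ∀ x : Pts A, (A1.filter fun b => b • x = x).card = if x = base A then 8 else 2 := by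
    intro x
    by_cases hx : x = base A
    · rw [if_pos hx, Finset.filter_true_of_mem fun b hb => ?_, hA1c]
      rw [hx]; exact smul_base_iff.2 (Subgroup.le_normalizer (Finset.mem_filter.1 hb).2.1)
    · rw [if_neg hx]
      have : A1.filter (fun b => b • x = x) = (Finset.univ.filter fun b : G => b ∈ stabIn A x).erase 1 := by
        ext b
        simp only [hA1, Finset.mem_filter, Finset.mem_univ, true_and, Finset.mem_erase, ne_eq]
        exact ⟨fun h => ⟨h.1.2, h.1.1, h.2⟩, fun h => ⟨⟨h.2.1, h.1⟩, h.2.2⟩⟩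
      rw [this, Finset.card_erase_of_mem (by simp), ← Fintype.card_subtype, ← Nat.card_eq_fintype_card]
      exact congrArg (· - 1) (D.card_stab hx)
  have hd : ∑ b ∈ A1, (fixSet A b).card = ∑ x : Pts A, (A1.filter fun b => b • x = x).card := by
    simp only [fixSet, Finset.card_filter]
    exact Finset.sum_comm
  rw [Finset.sum_congr rfl hconst, Finset.sum_const, hA1c, Finset.sum_congr rfl fun x _ => hsum x,
    ← Finset.add_sum_erase _ _ (Finset.mem_univ (base A)), if_pos rfl,
    Finset.sum_congr rfl (fun x hx => if_neg (Finset.mem_erase.1 hx).1), Finset.sum_const,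
    Finset.card_erase_of_mem (Finset.mem_univ _), Finset.card_univ, D.card_points] at hd
  rw [hconst a (Finset.mem_filter.2 ⟨Finset.mem_univ _, ha, ha1⟩)]
  simp at hd
  omega

theorem NineData.base_mem {a : G} (ha : a ∈ A) : base A ∈ fixSet A a :=
  mem_fixSet.2 (smul_base_iff.2 (Subgroup.le_normalizer ha))

/-- The line through the base point and another point is the base point with an orbit. -/
theorem NineData.line_shape {a : G} (ha : a ∈ A) (ha1 : a ≠ 1) {x : Pts A} (hx : x ≠ base A)
    (hxa : x ∈ fixSet A a) :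
    fixSet A a = insert (base A) (Finset.univ.image fun k : A => (k : G) • x) := by
  have horb : (Finset.univ.image fun k : A => (k : G) • x).card = 3 := by
    have := card_orbit_in (A := A) A x
    rw [D.card_A, D.card_stab hx] at this
    omega
  have hnot : base A ∉ Finset.univ.image fun k : A => (k : G) • x := by
    intro h
    obtain ⟨k, -, hk⟩ := Finset.mem_image.1 h
    apply hx
    rw [← inv_smul_smul (k : G) x, hk]
    exact smul_base_iff.2 (Subgroup.le_normalizer (A.inv_mem k.2))
  refine (Finset.eq_of_subset_of_card_le ?_ ?_).symm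
  · refine Finset.insert_subset (D.base_mem ha) fun y hy => ?_
    obtain ⟨k, -, rfl⟩ := Finset.mem_image.1 hy
    rw [mem_fixSet, smul_smul, commute_of_card_nine D.card_A ha k.2, mul_smul, mem_fixSet.1 hxa]
  · rw [D.card_fix ha ha1, Finset.card_insert_of_notMem hnot, horb]

/-- Every point of a line is a centre for it. -/
theorem NineData.recentre {x : Pts A} (hx : x ∈ fixSet A u) :
    ∃ g : G, g • base A = x ∧ ∃ a ∈ A, a ≠ 1 ∧ fixSet A (g * a * g⁻¹) = fixSet A u := by
  have : Fact (Nat.Prime 3) := ⟨Nat.prime_three⟩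
  have hu1 : u ≠ 1 := fun h => by have := D.ou; rw [h, orderOf_one] at this; norm_num at this
  by_cases hxb : x = base A
  · exact ⟨1, by rw [one_smul, hxb], u, D.memu, hu1, by simp⟩
  obtain ⟨k, rfl⟩ := QuotientGroup.mk_surjective x
  have hPH : (P : Subgroup G) ≤ Subgroup.normalizer (A : Set G) :=
    Subgroup.le_normalizer.trans D.NP
  set B := stabIn (P : Subgroup G) (k : Pts A) with hB
  have hshape := D.line_shape D.memu hu1 hxb hx
  have hPfix : ∀ q ∈ (P : Subgroup G), q • (k : Pts A) ∈ Finset.univ.image fun a : A => (a : G) • (k : Pts A) := by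
    intro q hq
    have h1 : q • (k : Pts A) ∈ fixSet A u := by
      rw [mem_fixSet, smul_smul, ← Subgroup.mem_centralizer_singleton_iff.1 (D.Pu hq), mul_smul,
        mem_fixSet.1 hx]
    rw [hshape, Finset.mem_insert] at h1
    exact h1.resolve_left fun h => hxb (by
      rw [← inv_smul_smul q (k : Pts A), h]; exact smul_base_iff.2 (inv_mem (hPH hq)))
  have hBc : Nat.card B = 9 := by
    have h := card_orbit_in (A := A) (P : Subgroup G) (k : Pts A)
    have heq : (Finset.univ.image fun q : (P : Subgroup G) => (q : G) • (k : Pts A)) =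
        Finset.univ.image fun a : A => (a : G) • (k : Pts A) := by
      refine le_antisymm (fun y hy => ?_) fun y hy => ?_
      · obtain ⟨q, -, rfl⟩ := Finset.mem_image.1 hy
        exact hPfix q q.2
      · obtain ⟨a, -, rfl⟩ := Finset.mem_image.1 hy
        exact Finset.mem_image.2 ⟨⟨a, D.AP a.2⟩, Finset.mem_univ _, rfl⟩
    have h3 : (Finset.univ.image fun a : A => (a : G) • (k : Pts A)).card = 3 := by
      have := card_orbit_in (A := A) A (k : Pts A)
      rw [D.card_A, D.card_stab hxb] at this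
      omega
    rw [heq, h3, D.card_P] at h
    rw [hB]; omega
  have hBP : B ≤ (P : Subgroup G) := inf_le_left
  have hBn : (P : Subgroup G) ≤ Subgroup.normalizer (B : Set G) := by
    have hnormal : (B.subgroupOf (P : Subgroup G)).Normal := by
      refine Subgroup.normal_of_index_eq_minFac_card ?_
      have h' := (B.subgroupOf (P : Subgroup G)).card_mul_index
      rw [Nat.card_congr (Subgroup.subgroupOfEquivOfLe hBP).toEquiv, hBc, D.card_P] at h'
      rw [D.card_P]; norm_num; omega
    exact (Subgroup.normal_subgroupOf_iff_le_normalizer hBP).1 hnormal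
  have hBfix : ∀ b ∈ B, ∀ y ∈ fixSet A u, b • y = y := by
    intro b hb y hy
    rw [hshape, Finset.mem_insert] at hy
    rcases hy with rfl | hy
    · exact smul_base_iff.2 (hPH hb.1)
    · obtain ⟨a, -, rfl⟩ := Finset.mem_image.1 hy
      have hc : (a : G)⁻¹ * b * a ∈ B := by
        simpa using (Subgroup.mem_normalizer_iff.1 (inv_mem (hBn (D.AP a.2))) b).1 hb
      have : ((a : G)⁻¹ * b * a) • (k : Pts A) = (k : Pts A) := hc.2
      rw [mul_smul, mul_smul, inv_smul_eq_iff] at this
      exact this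
  set A' := A.map (MulAut.conj k).toMonoidHom with hA'
  have hA'c : Nat.card A' = 9 := by
    rw [hA', Subgroup.card_map_of_injective (K := A) (f := (MulAut.conj k).toMonoidHom)
      (MulAut.conj k).injective, D.card_A]
  have hBA' : B ≤ Subgroup.normalizer (A' : Set G) := by
    intro b hb
    have hbk : b • (k : Pts A) = (k : Pts A) := hb.2
    rw [MulAction.Quotient.smul_coe, QuotientGroup.eq] at hbk
    have hn := Subgroup.mem_normalizer_iff.1 (inv_mem hbk)
    rw [Subgroup.mem_normalizer_iff]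
    intro y
    simp only [smul_eq_mul, mul_inv_rev, inv_inv] at hn
    rw [hA']
    constructor
    · rintro ⟨a, ha, rfl⟩
      refine ⟨_, (hn a).1 ha, ?_⟩
      simp [mul_assoc]
    · rintro ⟨a, ha, hay⟩
      refine ⟨k⁻¹ * y * k, (hn _).2 ?_, by simp [mul_assoc]⟩
      have hay' : k * a * k⁻¹ = b * y * b⁻¹ := by simpa using hay
      have he : a = k⁻¹ * (b * y * b⁻¹) * k := by rw [← hay']; group
      rw [he] at ha
      convert (SetLike.mem_coe.1 ha) using 1
      group
  have hBneA' : B ≠ A' := by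
    intro h
    have hk := D.mem_of_conj_le (g := k) fun a ha => hBP (h ▸ ⟨a, ha, rfl⟩)
    exact hxb (by simpa [base, MulAction.Quotient.smul_coe] using smul_base_iff.2 hk)
  have hp : IsPGroup 3 (B ⊔ A' : Subgroup G) := IsPGroup.to_sup_of_normal_right'
    (P.2.to_le hBP) (IsPGroup.of_card (n := 2) (by rw [hA'c]; norm_num)) hBA'
  obtain ⟨Q, hQ⟩ := hp.exists_le_sylow
  obtain ⟨a, haB, haA', ha1⟩ : ∃ a, a ∈ B ∧ a ∈ A' ∧ a ≠ 1 := by
    by_contra hcon
    push Not at hcon
    have hinj : Function.Injective fun ba : B × A' =>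
        (⟨(ba.1 : G) * ba.2, hQ (Subgroup.mul_mem _ (Subgroup.mem_sup_left ba.1.2)
          (Subgroup.mem_sup_right ba.2.2))⟩ : (Q : Subgroup G)) := by
      rintro ⟨b, a⟩ ⟨b', a'⟩ h
      have h : (b : G) * a = b' * a' := congrArg Subtype.val h
      have hmem : (b' : G)⁻¹ * b = a' * (a : G)⁻¹ := by
        rw [inv_mul_eq_iff_eq_mul, ← mul_assoc, ← h, mul_inv_cancel_right]
      have h1 := hcon _ (B.mul_mem (B.inv_mem b'.2) b.2) (hmem ▸ A'.mul_mem a'.2 (A'.inv_mem a.2))
      have hb : (b : G) = b' := (inv_mul_eq_one.1 h1).symm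
      exact Prod.ext (Subtype.ext hb) (Subtype.ext (mul_left_cancel (hb ▸ h)))
    have hle := Nat.card_le_card_of_injective _ hinj
    rw [Nat.card_prod, hBc, hA'c, NineData.card_P.card_sylow_three' D.order Q] at hle
    norm_num at hle
  obtain ⟨a₀, ha₀, rfl⟩ := haA'
  refine ⟨k, by simp [base, MulAction.Quotient.smul_coe], a₀, ha₀, fun h => ha1 (by simp [h]), ?_⟩
  refine (Finset.eq_of_subset_of_card_le (fun y hy => mem_fixSet.2 (hBfix _ haB y hy)) ?_).symm
  show (fixSet A (k * a₀ * k⁻¹)).card ≤ (fixSet A u).card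
  rw [card_fixSet_conj, D.card_fix ha₀ (fun h => ha1 (by simp [h])), D.card_fix D.memu hu1]

theorem NineData.lineSet_base {L : Finset (Pts A)} (hL : L ∈ lineSet A u) (hb : base A ∈ L) :
    ∃ a ∈ A, a ≠ 1 ∧ fixSet A a = L := by
  obtain ⟨g, rfl⟩ := hL
  rw [fixSet_conj] at hb
  obtain ⟨y, hy, hyb⟩ := Finset.mem_image.1 hb
  obtain ⟨k, hk, a, ha, ha1, hfix⟩ := D.recentre hy
  have hn : g * k ∈ Subgroup.normalizer (A : Set G) := smul_base_iff.1 (by rw [mul_smul, hk, hyb])
  refine ⟨g * k * a * (g * k)⁻¹, (Subgroup.mem_normalizer_iff.1 hn a).1 ha, fun h => ha1 ?_, ?_⟩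
  · calc a = (g * k)⁻¹ * (g * k * a * (g * k)⁻¹) * (g * k) := by group
      _ = 1 := by rw [h]; group
  · rw [fixSet_conj g u, ← hfix, show g * k * a * (g * k)⁻¹ = g * (k * a * k⁻¹) * g⁻¹ by group,
      fixSet_conj g (k * a * k⁻¹)]

theorem NineData.mem_lineSet_smul (g : G) {L : Finset (Pts A)} (hL : L ∈ lineSet A u) :
    L.image (g • ·) ∈ lineSet A u := by
  obtain ⟨h, rfl⟩ := hL
  exact ⟨g * h, by rw [show g * h * u * (g * h)⁻¹ = g * (h * u * h⁻¹) * g⁻¹ by group, fixSet_conj g (h * u * h⁻¹)]⟩

/-- The plane. -/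
def NineData.plane : PlaneThree (Pts A) where
  lines := lineSet A u
  size := by rw [Nat.card_eq_fintype_card, D.card_points]
  four := by
    rintro L ⟨g, rfl⟩
    rw [card_fixSet_conj, D.card_fix D.memu fun h => by
      have := D.ou; rw [h, orderOf_one] at this; norm_num at this]
  join := by
    intro x y hxy
    obtain ⟨g, rfl⟩ := QuotientGroup.mk_surjective x
    have hne : g⁻¹ • y ≠ base A := fun h => hxy (by
      rw [inv_smul_eq_iff.1 h]; simp [base, MulAction.Quotient.smul_coe])
    have : Fact (Nat.Prime 3) := ⟨Nat.prime_three⟩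
    obtain ⟨a, ha⟩ := exists_prime_orderOf_dvd_card' (G := stabIn A (g⁻¹ • y)) 3
      (by rw [D.card_stab hne])
    have ha1 : (a : G) ≠ 1 := fun h => by
      rw [← Subgroup.orderOf_coe, h, orderOf_one] at ha; norm_num at ha
    obtain ⟨n, hn, hna⟩ := D.trans _ a.2.1 ha1
    refine ⟨fixSet A (g * a * g⁻¹), ⟨g * n, by rw [← hna]; congr 1; group⟩, ?_, ?_⟩
    · rw [fixSet_conj]
      exact Finset.mem_image.2 ⟨base A, D.base_mem a.2.1, by simp [base, MulAction.Quotient.smul_coe]⟩
    · rw [fixSet_conj]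
      exact Finset.mem_image.2 ⟨g⁻¹ • y, mem_fixSet.2 a.2.2, smul_inv_smul g y⟩
  only := by
    intro L hL M hM x y hxy hxL hyL hxM hyM
    obtain ⟨g, rfl⟩ := QuotientGroup.mk_surjective x
    have key : ∀ K ∈ lineSet A u, (g : Pts A) ∈ K → y ∈ K → K.image (g⁻¹ • ·) =
        insert (base A) (Finset.univ.image fun k : A => (k : G) • (g⁻¹ • y)) := by
      intro K hK hgK hyK
      have hb : base A ∈ K.image (g⁻¹ • ·) :=
        Finset.mem_image.2 ⟨_, hgK, by simp [base, MulAction.Quotient.smul_coe]⟩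
      obtain ⟨a, ha, ha1, hfix⟩ := D.lineSet_base (D.mem_lineSet_smul g⁻¹ hK) hb
      have hne : g⁻¹ • y ≠ base A := fun h => hxy (by
        rw [inv_smul_eq_iff.1 h]; simp [base, MulAction.Quotient.smul_coe])
      rw [← hfix]
      exact D.line_shape ha ha1 hne (hfix ▸ Finset.mem_image_of_mem _ hyK)
    exact Finset.image_injective (MulAction.injective g⁻¹)
      ((key L hL hxL hyL).trans (key M hM hxM hyM).symm)

/-- A simple group with this data is `PSL(3,3)`. -/
theorem NineData.nonempty_iso [IsSimpleGroup G] :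
    Nonempty (G ≃* Matrix.ProjectiveSpecialLinearGroup (Fin 3) (ZMod 3)) := by
  have hker : (Subgroup.normalizer (A : Set G)).normalCore = ⊥ := by
    rcases IsSimpleGroup.eq_bot_or_eq_top_of_normal
      (Subgroup.normalizer (A : Set G)).normalCore inferInstance with h | h
    · exact h
    · exfalso
      have htop : Subgroup.normalizer (A : Set G) = ⊤ :=
        top_le_iff.1 (h ▸ (Subgroup.normalizer (A : Set G)).normalCore_le)
      have := D.card_H
      rw [htop, Subgroup.card_top, D.order] at this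
      norm_num at this
  have : FaithfulSMul G (Pts A) := ⟨fun {g h} hgh => by
    have hmem : h⁻¹ * g ∈ (Subgroup.normalizer (A : Set G)).normalCore := by
      rw [Subgroup.normalCore_eq_ker, MonoidHom.mem_ker]
      refine Equiv.ext fun x => ?_
      show (h⁻¹ * g) • x = x
      rw [mul_smul, hgh x, inv_smul_smul]
    rw [hker, Subgroup.mem_bot, inv_mul_eq_one] at hmem
    exact hmem.symm⟩
  exact nonempty_mulEquiv_psl D.plane D.order fun g L hL => by
    show _ ∈ lineSet A u
    convert D.mem_lineSet_smul g hL using 3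

end CfsgLib.Blocks.GLTwoThreeCentralizer
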