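import Mathlib
import Cfsg.Prelude.Def_Transfer
import Cfsg.Agent.Lib.Blocks.GLTwoThreeCentralizer.Nine

/-!
# Simplicity from the involution centralizer
-/

set_option autoImplicit false

namespace CfsgLib.Blocks.GLTwoThreeCentralizer

open scoped Classical

variable {G : Type*} [Group G] [Finite G] {t : G}
variable (e : Subgroup.centralizer ({t} : Set G) ≃* GLT) (ht : orderOf t = 2)
  (hO : Cfsg.pResidual 2 G = ⊤)

omit [Finite G] in
include hO in
theorem no_index_two : ∀ M : Subgroup G, M.Normal → M.index ≠ 2 := by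
  intro M _ hM
  have hle : Cfsg.pResidual 2 G ≤ M := by
    rw [Cfsg.pResidual, Subgroup.closure_le]
    intro g hg
    have h2 : g ^ 2 ∈ M := by rw [← hM]; exact Subgroup.pow_index_mem M g
    obtain ⟨m, hm⟩ := exists_pow_eq_self_of_coprime (x := g) (n := 2) (Nat.Coprime.symm hg)
    rw [← hm]
    exact M.pow_mem h2 m
  rw [hO] at hle
  rw [top_le_iff.1 hle] at hM
  simp at hM

include e ht hO in
theorem isSimpleGroup : IsSimpleGroup G := by
  have hone : ∀ {x : G}, orderOf x = 2 → IsConj t x := fun hx =>
    isConj_t_of_no_index_two e ht (no_index_two hO) hx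
  have : Fact (Nat.Prime 2) := ⟨Nat.prime_two⟩
  have ht2 : t * t = 1 := by rw [← sq, ← ht, pow_orderOf_eq_one]
  have : Nontrivial G := ⟨⟨t, 1, fun h => by rw [h, orderOf_one] at ht; norm_num at ht⟩⟩
  refine ⟨fun N hN => ?_⟩
  by_cases hbot : N = ⊥
  · exact Or.inl hbot
  refine Or.inr ?_
  -- `N` contains an involution
  have heven : 2 ∣ Nat.card N := by
    by_contra hodd
    have hfix : ∀ (i : G), orderOf i = 2 → ∀ x ∈ N, i * x * i⁻¹ = x → x = 1 := by
      intro i hi x hx hix
      obtain ⟨g, hg⟩ := isConj_iff.1 (hone hi)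
      set y := g⁻¹ * x * g with hy
      have hyN : y ∈ N := by simpa [hy] using hN.conj_mem x hx g⁻¹
      have hyt : y * t = t * y := by
        rw [← hg] at hix
        rw [hy]
        calc g⁻¹ * x * g * t = g⁻¹ * (g * t * g⁻¹ * x * (g * t * g⁻¹)⁻¹) * g * t := by rw [hix]
          _ = t * (g⁻¹ * x * g) * (t⁻¹ * t) := by group
          _ = _ := by rw [inv_mul_cancel, mul_one]
      by_contra hx1
      have hy1 : y ≠ 1 := fun h => hx1 (by
        calc x = g * y * g⁻¹ := by rw [hy]; group
          _ = 1 := by rw [h]; group)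
      set F := N ⊓ Subgroup.centralizer ({t} : Set G)
      have hFdvd : Nat.card F ∣ 3 := by
        have h1 : Nat.card F ∣ 48 := card_centralizer e ▸ Subgroup.card_dvd_of_le inf_le_right
        have h2 : ¬ 2 ∣ Nat.card F := fun h => hodd (h.trans (Subgroup.card_dvd_of_le inf_le_left))
        have key : ∀ d ∈ Nat.divisors 48, ¬ 2 ∣ d → d ∣ 3 := by decide +kernel
        exact key _ (Nat.mem_divisors.2 ⟨h1, by norm_num⟩) h2
      have hyF : y ∈ F := ⟨hyN, Subgroup.mem_centralizer_singleton_iff.2 hyt⟩
      have hFc : Nat.card F = 3 := by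
        refine ((Nat.dvd_prime Nat.prime_three).1 hFdvd).resolve_left fun h => hy1 ?_
        have h0 : y ∈ (⊥ : Subgroup G) := (Subgroup.card_eq_one.1 h).le hyF
        exact Subgroup.mem_bot.1 h0
      have hyo : orderOf y = 3 :=
        ((Nat.dvd_prime Nat.prime_three).1 (hFc ▸ Subgroup.orderOf_dvd_natCard F hyF)).resolve_left
          (by simpa using hy1)
      have hFz : F = Subgroup.zpowers y := (Subgroup.eq_of_le_of_card_ge (Subgroup.zpowers_le.2 hyF)
        (by rw [hFc, Nat.card_zpowers, hyo])).symm
      have hle := card_normalizing_le e ht hyo hyt (Subgroup.centralizer ({t} : Set G)) le_rfl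
        fun c hc => by
          rw [← hFz]
          refine ⟨hN.conj_mem y hyN c, Subgroup.mul_mem _ (Subgroup.mul_mem _ hc ?_) (Subgroup.inv_mem _ hc)⟩
          exact Subgroup.mem_centralizer_singleton_iff.2 hyt
      rw [card_centralizer e] at hle
      norm_num at hle
    have hNn : ∀ i : G, i ∈ Subgroup.normalizer (N : Set G) := fun i => by
      rw [Subgroup.normalizer_eq_top_iff.2 hN]; exact Subgroup.mem_top i
    obtain ⟨r, hr⟩ := exists_ct e (Finset.mem_filter.1 reflection_mem.1).1
    have hro : orderOf (r : G) = 2 := orderOf_of_mem_invs e (hr ▸ reflection_mem.1)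
    have hrt : Commute (r : G) t := Subgroup.mem_centralizer_singleton_iff.1 r.2
    have hr2 : (r : G) * r = 1 := by rw [← sq, ← hro, pow_orderOf_eq_one]
    have hb2 : (r : G) * t * ((r : G) * t) = 1 := by
      calc (r : G) * t * ((r : G) * t) = r * (t * r) * t := by group
        _ = r * (r * t) * t := by rw [hrt.eq]
        _ = (r * r) * (t * t) := by group
        _ = 1 := by rw [hr2, ht2, one_mul]
    have hbo : orderOf ((r : G) * t) = 2 := orderOf_eq_prime (by rw [sq]; exact hb2) fun h => by
      apply reflection_mem.2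
      have : r = tC t := Subtype.ext (by
        show (r : G) = t
        rw [eq_inv_of_mul_eq_one_left h]; exact inv_eq_of_mul_eq_one_left ht2)
      rw [← hr, this, ct_t e ht]
      decide +kernel
    have i1 := inverts_of_fixed_trivial N ht2 (hNn t) (hfix t ht)
    have i2 := inverts_of_fixed_trivial N hr2 (hNn r) (hfix r hro)
    have i3 := inverts_of_fixed_trivial N hb2 (hNn _) (hfix _ hbo)
    refine hbot (Subgroup.eq_bot_iff_forall _ |>.2 fun x hx => hfix t ht x hx ?_)
    have h := i3 x hx
    rw [show (r : G) * t * x * ((r : G) * t)⁻¹ = r * (t * x * t⁻¹) * (r : G)⁻¹ by group, i1 x hx,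
      i2 _ (N.inv_mem hx), inv_inv] at h
    rw [i1 x hx, ← h]
  obtain ⟨i, hi⟩ := exists_prime_orderOf_dvd_card' (G := N) 2 heven
  obtain ⟨g, hg⟩ := isConj_iff.1 (hone (x := (i : G)) (by rw [Subgroup.orderOf_coe, hi]))
  have hall : ∀ x : G, orderOf x = 2 → x ∈ N := by
    intro x hx
    have htN : t ∈ N := by
      have := hN.conj_mem _ i.2 g⁻¹
      rw [← hg] at this
      simpa [mul_assoc] using this
    obtain ⟨h, rfl⟩ := isConj_iff.1 (hone hx)
    exact hN.conj_mem t htN h
  have hCN : Subgroup.centralizer ({t} : Set G) ≤ N := by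
    intro c hc
    obtain ⟨p, q, hp, hq, hpq'⟩ := exists_els_product (ct_mem e ⟨c, hc⟩)
    have hprod : ∀ z : Subgroup.centralizer ({t} : Set G), ct e z ∈ invProds → (z : G) ∈ N := by
      intro z hz
      obtain ⟨a, b, ha, hb, habz⟩ := exists_invProd hz
      obtain ⟨x, rfl⟩ := exists_ct e (Finset.mem_filter.1 ha).1
      obtain ⟨y, rfl⟩ := exists_ct e (Finset.mem_filter.1 hb).1
      rw [← ct_mul] at habz
      rw [← ct_injective e habz]
      exact N.mul_mem (hall _ (orderOf_of_mem_invs e ha)) (hall _ (orderOf_of_mem_invs e hb))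
    obtain ⟨x, rfl⟩ := exists_ct e (invProds_mem _ hp)
    obtain ⟨y, rfl⟩ := exists_ct e (invProds_mem _ hq)
    rw [← ct_mul] at hpq'
    rw [show c = ((x * y : Subgroup.centralizer ({t} : Set G)) : G) from
      (congrArg Subtype.val (ct_injective e hpq')).symm]
    exact N.mul_mem (hprod x hp) (hprod y hq)
  obtain ⟨P, hPc, hPC⟩ := exists_sylow_le e ht
  have hnle : Subgroup.normalizer ((P : Subgroup G) : Set G) ≤ Subgroup.centralizer ({t} : Set G) := by
    intro n hn
    have htP : t ∈ (P : Subgroup G) := by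
      have hp : IsPGroup 2 (Subgroup.zpowers t) :=
        IsPGroup.of_card (n := 1) (by rw [Nat.card_zpowers, ht, pow_one])
      have htn : t ∈ Subgroup.normalizer ((P : Subgroup G) : Set G) := by
        refine Subgroup.centralizer_le_normalizer _ (Subgroup.mem_centralizer_iff.2 fun z hz => ?_)
        exact Subgroup.mem_centralizer_singleton_iff.1 (hPC hz)
      exact ((hp.inf_normalizer_sylow P).le ⟨Subgroup.mem_zpowers t, htn⟩).2
    have hcP := (Subgroup.mem_normalizer_iff.1 hn t).1 htP
    set z : Subgroup.centralizer ({t} : Set G) := ⟨n * t * n⁻¹, hPC hcP⟩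
    have hzo : orderOf (z : G) = 2 := by
      show orderOf (n * t * n⁻¹) = 2
      rw [orderOf_conj3, ht]
    rcases noncentral_centralizer _ (ct_mem_invs e ht (x := z) hzo) with h | h
    · refine mem_centralizer_single.2 ?_
      exact congrArg Subtype.val (ct_injective e (h.trans (ct_t e ht).symm))
    · exfalso
      have hsub : Nat.card (P : Subgroup G) ≤ (els.filter fun p => qmul p (ct e z) = qmul (ct e z) p).card := by
        rw [← Nat.card_eq_finsetCard]
        refine Nat.card_le_card_of_injective (fun q => ⟨ct e ⟨q, hPC q.2⟩, Finset.mem_filter.2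
          ⟨ct_mem e _, ?_⟩⟩) fun a b hab => Subtype.ext (congrArg
            (fun w : Subgroup.centralizer ({t} : Set G) => (w : G)) (ct_injective e (congrArg Subtype.val hab)))
        rw [← ct_mul, ← ct_mul]
        congr 1
        refine Subtype.ext ?_
        show (q : G) * (n * t * n⁻¹) = n * t * n⁻¹ * q
        have hq' : n⁻¹ * q * n ∈ (P : Subgroup G) := by
          refine (Subgroup.mem_normalizer_iff.1 hn _).2 ?_
          simpa [mul_assoc] using q.2
        have hc := Subgroup.mem_centralizer_singleton_iff.1 (hPC hq')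
        calc (q : G) * (n * t * n⁻¹) = n * (n⁻¹ * q * n * t) * n⁻¹ := by group
          _ = _ := by rw [hc]; group
      rw [hPc, h] at hsub
      norm_num at hsub
  have hPN : (P : Subgroup G) ≤ N := hPC.trans hCN
  have hFr := Sylow.normalizer_sup_eq_top (P.subtype hPN)
  rw [Sylow.coe_subtype, Subgroup.subgroupOf_map_subtype, inf_eq_left.2 hPN] at hFr
  rw [← hFr, eq_comm, sup_eq_right]
  exact hnle.trans hCN

end CfsgLib.Blocks.GLTwoThreeCentralizer
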